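import Groth.Agent.HMLib.Main
import Groth.Agent.GLinFinLib.Linear
import Groth.Agent.GLinFinLib.StableLocus
import Groth.Agent.S12545
import Groth.Agent.S19603

/-! # Consequences of the Hilbert–Mumford theorem -/

set_option autoImplicit false
set_option maxHeartbeats 1000000
set_option synthInstance.maxHeartbeats 400000

noncomputable section

open HopfRep
open scoped LaurentPolynomial

namespace HMLib

universe u

variable {k : Type u} [Field k] {A : Type u} [CommRing A] [HopfAlgebra k A]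

theorem inOrbitClosure_of_isLimit {R : Type u} [CommRing R] [Algebra k R] [Comod k A R] [GLin.IsCoactAlg k A R]
    {lam : A →ₐc[k] k[T;T⁻¹]} {x y : R →ₐ[k] k} (h : GLin.IsLimit k A lam x y) :
    GLin.InOrbitClosure k A x y := by
  obtain ⟨p, hp, hp0⟩ := h
  intro f hf
  have h1 : GLin.lamOrbit k A lam x f = 0 := by
    show (lam : A →ₐ[k] k[T;T⁻¹]) (GLin.orbitHom k A x f) = 0
    rw [RingHom.mem_ker.1 hf, map_zero]
  have h2 : p f = 0 := by
    refine Polynomial.toLaurent_injective ?_
    rw [map_zero]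
    exact (AlgHom.congr_fun hp f).trans h1
  rw [RingHom.mem_ker, ← hp0, AlgHom.comp_apply, h2, map_zero]

theorem isLimit_of_const {R : Type u} [CommRing R] [Algebra k R] [Comod k A R] [GLin.IsCoactAlg k A R]
    {lam : A →ₐc[k] k[T;T⁻¹]} {x : R →ₐ[k] k}
    (h : GLin.lamOrbit k A lam x = (Algebra.ofId k k[T;T⁻¹]).comp x) : GLin.IsLimit k A lam x x := by
  refine ⟨(Algebra.ofId k (Polynomial k)).comp x, ?_, ?_⟩
  · rw [h]; ext; simp [Algebra.ofId_apply]
  · ext; simp [Algebra.ofId_apply]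

theorem lamOrbit_of_trivial {R : Type u} [CommRing R] [Algebra k R] [Comod k A R] [GLin.IsCoactAlg k A R]
    {lam : A →ₐc[k] k[T;T⁻¹]} (h : SGA3t2b.IsTrivialBialgHom lam) (x : R →ₐ[k] k) :
    GLin.lamOrbit k A lam x = (Algebra.ofId k k[T;T⁻¹]).comp x :=
  AlgHom.ext fun f => (h _).trans (congrArg _ (GLinFinLib.counit_orbitHom x f))

variable {ι : Type u} [Fintype ι] [Comod k A (MvPolynomial ι k)] [GLin.IsCoactAlg k A (MvPolynomial ι k)]

theorem actPt_origin (hlin : GLin.IsLinear k A ι) (g : A →ₐ[k] k) :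
    GLin.actPt k g (GLin.vecPt k ι fun _ => (0 : k)) = GLin.vecPt k ι fun _ => (0 : k) := by
  rw [GLin.actPt, GLinFinLib.orbitHom_origin hlin]
  exact AlgHom.ext fun f => g.commutes _

theorem isPointClosed_origin (hlin : GLin.IsLinear k A ι) :
    GLinFinLib.IsPointClosed k A (GLin.vecPt k ι fun _ => (0 : k)) := by
  intro z hz
  refine ⟨Bialgebra.counitAlgHom k A, ?_⟩
  rw [actPt_origin hlin]
  refine MvPolynomial.algHom_ext fun i => ?_
  have h : z (MvPolynomial.X i) = 0 := hz (by
    rw [RingHom.mem_ker, GLinFinLib.orbitHom_origin hlin]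
    simp)
  rw [h]
  simp

theorem semistable_iff [IsAlgClosed k] [CharZero k] [Algebra.FiniteType k A] (hG : IsLinearlyReductive k A)
    (hlin : GLin.IsLinear k A ι) (v : ι → k) (hv : v ≠ 0) :
    GLin.IsSemistableVec k A v ↔
      ∀ (lam : A →ₐc[k] k[T;T⁻¹]) (m : ℤ), GLin.IsMu k A lam v m → 0 ≤ m := by
  rw [Groth.Agent.S19603.result k A hG ι hlin v]
  constructor
  · intro hno lam m hm
    by_contra hneg
    exact hno (inOrbitClosure_of_isLimit
      ((Groth.Agent.S12545.result k A ι hlin lam v hv).2.2.2 ⟨m, hm, not_le.1 hneg⟩))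
  · intro h hcl
    obtain ⟨lam, g, hlim⟩ := exists_oneParam hG hlin v _ hcl (isPointClosed_origin hlin)
    rw [actPt_origin hlin] at hlim
    obtain ⟨m, hm, hneg⟩ := (Groth.Agent.S12545.result k A ι hlin lam v hv).2.2.1 hlim
    exact absurd (h lam m hm) (not_le.2 hneg)

end HMLib
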