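import Groth.Agent.HMLib.Tangent
import Groth.Agent.GLinMuLib.Basic

/-! # Attracting sets of one-parameter subgroups in `GL_N / G`

A point of `GL_N / G` which flows to a fixed point `z` under a diagonal one-parameter subgroup is moved onto
`z` by a matrix contracted by that subgroup. -/

set_option autoImplicit false
set_option maxHeartbeats 1000000
set_option synthInstance.maxHeartbeats 400000

noncomputable section

open TensorProduct HopfRep CoordGrp
open LaurentPolynomial (T)
open scoped LaurentPolynomial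

namespace HMLib

universe u v

variable {k : Type u} [Field k] {N : ℕ}

/-- Evaluation at a non-zero scalar. -/
def evalC (c : kˣ) : k[T;T⁻¹] →ₐ[k] k where
  toRingHom := LaurentPolynomial.eval₂ (RingHom.id k) c
  commutes' r := by
    show LaurentPolynomial.eval₂ (RingHom.id k) c _ = _
    rw [LaurentPolynomial.algebraMap_apply, LaurentPolynomial.eval₂_C]
    rfl

@[simp] theorem evalC_T (c : kˣ) (n : ℤ) : evalC c (T n) = ((c ^ n : kˣ) : k) :=
  LaurentPolynomial.eval₂_T _ _ n

@[simp] theorem evalC_C (c : kˣ) (r : k) : evalC c (LaurentPolynomial.C r) = r :=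
  LaurentPolynomial.eval₂_C _ _ r

theorem eq_zero_of_evalC [Infinite k] (f : k[T;T⁻¹]) (h : ∀ c : kˣ, evalC c f = 0) : f = 0 := by
  obtain ⟨n, p, hp⟩ := LaurentPolynomial.exists_T_pow f
  have hp0 : p = 0 := by
    refine Polynomial.eq_zero_of_infinite_isRoot p ((Set.finite_singleton (0 : k)).infinite_compl.mono ?_)
    intro x hx
    have hx0 : x ≠ 0 := hx
    have h1 := congrArg (evalC (Units.mk0 x hx0)) hp
    rw [map_mul, h, zero_mul] at h1
    have h2 : evalC (Units.mk0 x hx0) (Polynomial.toLaurent p) = p.eval x :=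
      (LaurentPolynomial.eval₂_toLaurent _ _ p).trans rfl
    rw [h2] at h1
    exact h1
  rw [hp0, map_zero] at hp
  exact (LaurentPolynomial.isUnit_T (R := k) n).mul_left_eq_zero.mp hp.symm

/-- A coefficient of a Laurent polynomial. -/
def cf (a : ℤ) : k[T;T⁻¹] →ₗ[k] k where
  toFun f := f.coeff a
  map_add' f g := by simp
  map_smul' c f := by simp

theorem cf_T (a n : ℤ) : cf a (T n : k[T;T⁻¹]) = if n = a then 1 else 0 := by
  show (AddMonoidAlgebra.single n (1 : k)).coeff a = _
  simp [Finsupp.single_apply]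

theorem cf_algebraMap (a : ℤ) (r : k) : cf a (algebraMap k k[T;T⁻¹] r) = if a = 0 then r else 0 := by
  rw [Algebra.algebraMap_eq_smul_one, map_smul, ← LaurentPolynomial.T_zero, cf_T]
  by_cases h : a = 0
  · simp [h]
  · simp [h, Ne.symm h]

theorem cf_mul {f g : k[T;T⁻¹]} {d : ℤ} (hd : 0 < d) (hf : ∀ a < d, a ≠ 0 → cf a f = 0)
    (hg : ∀ a < d, a ≠ 0 → cf a g = 0) : cf d (f * g) = cf 0 f * cf d g + cf 0 g * cf d f := by
  obtain ⟨p, rfl⟩ := Groth.Agent.GLinMu.exists_toLaurent_eq (f := f)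
    (fun n hn => hf n (hn.trans hd) hn.ne)
  obtain ⟨q, rfl⟩ := Groth.Agent.GLinMu.exists_toLaurent_eq (f := g)
    (fun n hn => hg n (hn.trans hd) hn.ne)
  lift d to ℕ using hd.le
  have e : ∀ (r : Polynomial k) (n : ℕ), cf (n : ℤ) (Polynomial.toLaurent r) = r.coeff n :=
    fun r n => Groth.Agent.GLinMu.coeff_toLaurent_nat r n
  have hp : ∀ a : ℕ, a < d → a ≠ 0 → p.coeff a = 0 := fun a h1 h2 => by
    rw [← e]; exact hf a (by omega) (by omega)
  have hq : ∀ a : ℕ, a < d → a ≠ 0 → q.coeff a = 0 := fun a h1 h2 => by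
    rw [← e]; exact hg a (by omega) (by omega)
  rw [← map_mul, e, e, e, show (0 : ℤ) = ((0 : ℕ) : ℤ) from rfl, e, e, Polynomial.coeff_mul,
    mul_comm (q.coeff 0)]
  have hd0 : d ≠ 0 := by omega
  refine Finset.sum_eq_add (0, d) (d, 0) (fun h => hd0 (congrArg Prod.fst h).symm) ?_ (by simp) (by simp)
  rintro ⟨a, b⟩ hab ⟨h1, h2⟩
  rw [Finset.HasAntidiagonal.mem_antidiagonal] at hab
  have ha0 : a ≠ 0 := fun h => h1 (Prod.ext h (by omega))
  have had : a < d := by
    rcases lt_or_ge a d with h | h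
    · exact h
    · exact absurd (Prod.ext (by omega) (by omega) : (a, b) = (d, 0)) h2
  rw [hp a had ha0, zero_mul]

/-- The diagonal matrix `T ^ m`. -/
def diagT (m : Fin N → ℤ) : Matrix (Fin N) (Fin N) k[T;T⁻¹] := Matrix.diagonal fun i => T (m i)

theorem isUnit_det_diagT (m : Fin N → ℤ) : IsUnit (diagT (k := k) m).det := by
  rw [diagT, Matrix.det_diagonal]
  exact IsUnit.prod_iff.2 fun i _ => LaurentPolynomial.isUnit_T _

/-- The orbit `t ↦ t^m x` of a matrix. -/
def lau (m : Fin N → ℤ) (x : GLn N k →ₐ[k] k) : GLn N k →ₐ[k] k[T;T⁻¹] :=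
  matPt (diagT m * (ptMat x).map (algebraMap k k[T;T⁻¹])) (by
    rw [Matrix.det_mul, ← RingHom.mapMatrix_apply, ← RingHom.map_det]
    exact (isUnit_det_diagT m).mul ((isUnit_det_ptMat x).map _))

theorem ptMat_lau (m : Fin N → ℤ) (x : GLn N k →ₐ[k] k) :
    ptMat (lau m x) = diagT m * (ptMat x).map (algebraMap k k[T;T⁻¹]) := ptMat_matPt _ _

theorem isUnit_det_diagonal (m : Fin N → ℤ) (c : kˣ) :
    IsUnit (Matrix.diagonal fun i => ((c ^ m i : kˣ) : k)).det := by
  rw [Matrix.det_diagonal]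
  exact IsUnit.prod_iff.2 fun i _ => Units.isUnit _

theorem evalC_lau (c : kˣ) (m : Fin N → ℤ) (x : GLn N k →ₐ[k] k) :
    (evalC c).comp (lau m x) = x.comp (ltrans _ (isUnit_det_diagonal m c)) := by
  refine pt_ext ?_
  rw [ptMat_comp, ptMat_lau, ptMat_ltrans, Matrix.map_mul, Algebra.algebraMap_self, RingHom.coe_id, Matrix.map_id]
  congr 1
  · refine Matrix.ext fun i j => ?_
    by_cases h : i = j
    · subst h; simp [diagT]
    · simp [diagT, h]
  · refine Matrix.ext fun i j => ?_
    simp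

theorem eval_one_lau (m : Fin N → ℤ) (x : GLn N k →ₐ[k] k) : (evalC 1).comp (lau m x) = x := by
  refine pt_ext ?_
  rw [ptMat_comp, ptMat_lau, Matrix.map_mul]
  conv_rhs => rw [← Matrix.one_mul (ptMat x)]
  congr 1
  · refine Matrix.ext fun i j => ?_
    simp [diagT, Matrix.diagonal_apply, Matrix.one_apply, apply_ite]
  · refine Matrix.ext fun i j => ?_
    simp

/-- A matrix of the form `1 + (entries of positive weight)`. -/
def Contr (m : Fin N → ℤ) (M : Matrix (Fin N) (Fin N) k) : Prop :=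
  ∀ i j, m i ≤ m j → M i j = (1 : Matrix (Fin N) (Fin N) k) i j

theorem Contr.one (m : Fin N → ℤ) : Contr m (1 : Matrix (Fin N) (Fin N) k) := fun _ _ _ => rfl

theorem Contr.mul {m : Fin N → ℤ} {M M' : Matrix (Fin N) (Fin N) k} (h : Contr m M) (h' : Contr m M') :
    Contr m (M * M') := by
  intro i j hij
  rw [Matrix.mul_apply, Finset.sum_eq_single i]
  · rw [h i i le_rfl, Matrix.one_apply_eq, one_mul, h' i j hij]
  · intro l _ hl
    rcases le_or_gt (m i) (m l) with hle | hlt
    · rw [h i l hle, Matrix.one_apply_ne hl.symm, zero_mul]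
    · rw [h' l j (hlt.le.trans hij), Matrix.one_apply_ne, mul_zero]
      rintro rfl
      omega
  · intro h; exact absurd (Finset.mem_univ i) h

theorem unipotent_step {m : Fin N → ℤ} {d : ℤ} (hd : 0 < d) {ξ : Matrix (Fin N) (Fin N) k}
    (hξ : ∀ i j, m i - m j ≠ d → ξ i j = 0) :
    IsNilpotent ξ ∧ Contr m (1 - ξ) ∧ ∃ V, Contr m V ∧ V * (1 - ξ) = 1 := by
  have hpow : ∀ n : ℕ, ∀ i j, m i - m j ≠ (n : ℤ) * d → (ξ ^ n) i j = 0 := by
    intro n
    induction n with
    | zero =>
      intro i j h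
      rw [pow_zero, Matrix.one_apply_ne]
      rintro rfl
      simp at h
    | succ n ih =>
      intro i j h
      rw [pow_succ, Matrix.mul_apply]
      refine Finset.sum_eq_zero fun l _ => ?_
      by_cases hl : m l - m j = d
      · rw [ih i l (fun e => h (by push_cast; linarith)), zero_mul]
      · rw [hξ l j hl, mul_zero]
  obtain ⟨M, hM⟩ : ∃ M : ℕ, ∀ i j, m i - m j < (M : ℤ) := by
    refine ⟨(∑ p : Fin N × Fin N, (m p.1 - m p.2).natAbs) + 1, fun i j => ?_⟩
    have h1 : (m i - m j).natAbs ≤ ∑ p : Fin N × Fin N, (m p.1 - m p.2).natAbs :=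
      Finset.single_le_sum (f := fun p : Fin N × Fin N => (m p.1 - m p.2).natAbs) (fun _ _ => Nat.zero_le _)
        (Finset.mem_univ (i, j))
    omega
  have hM0 : ξ ^ M = 0 := by
    refine Matrix.ext fun i j => ?_
    refine hpow M i j ?_
    nlinarith [hM i j, Int.natCast_nonneg M]
  refine ⟨⟨M, hM0⟩, fun i j hij => ?_, ∑ n ∈ Finset.range M, ξ ^ n, ?_, ?_⟩
  · rw [Matrix.sub_apply, hξ i j (by omega), sub_zero]
  · intro i j hij
    rcases Nat.eq_zero_or_pos M with hM1 | hM1
    · subst hM1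
      have := hM i i
      simp at this
    rw [Matrix.sum_apply, Finset.sum_eq_single 0]
    · rw [pow_zero]
    · intro n _ hn
      refine hpow n i j ?_
      have : (0 : ℤ) < n * d := by positivity
      omega
    · intro h; exact absurd (Finset.mem_range.2 hM1) h
  · rw [geom_sum_mul_neg, hM0, sub_zero]

/-- The translates `(1 - s ξ) y` with `s` a variable. -/
def htr (ξ : Matrix (Fin N) (Fin N) k) (h : IsNilpotent ξ) : GLn N k →ₐ[k] Polynomial (GLn N k) :=
  matPt ((1 - (Polynomial.X : Polynomial (GLn N k)) • ξ.map (algebraMap k (Polynomial (GLn N k)))) *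
      (ptMat (AlgHom.id k (GLn N k))).map (Polynomial.C : GLn N k →+* Polynomial (GLn N k))) (by
    rw [Matrix.det_mul]
    refine IsUnit.mul ?_ ?_
    · refine (Matrix.isUnit_iff_isUnit_det _).1 (IsNilpotent.isUnit_one_sub ?_)
      obtain ⟨n, hn⟩ := h
      refine ⟨n, ?_⟩
      rw [smul_pow, show ξ.map (algebraMap k (Polynomial (GLn N k))) =
        (algebraMap k (Polynomial (GLn N k))).mapMatrix ξ from rfl, ← map_pow, hn, map_zero, smul_zero]
    · rw [← RingHom.mapMatrix_apply, ← RingHom.map_det]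
      exact (isUnit_det_ptMat _).map _)

theorem ptMat_htr (ξ : Matrix (Fin N) (Fin N) k) (h : IsNilpotent ξ) :
    ptMat (htr ξ h) = (1 - (Polynomial.X : Polynomial (GLn N k)) • ξ.map (algebraMap k (Polynomial (GLn N k)))) *
      (ptMat (AlgHom.id k (GLn N k))).map (Polynomial.C : GLn N k →+* Polynomial (GLn N k)) :=
  ptMat_matPt _ _

theorem htr_coeff_zero (ξ : Matrix (Fin N) (Fin N) k) (h : IsNilpotent ξ) (F : GLn N k) :
    (htr ξ h F).coeff 0 = F := by
  have e : ((Polynomial.aeval (0 : GLn N k)).restrictScalars k).comp (htr ξ h) = AlgHom.id k _ := by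
    refine pt_ext ?_
    rw [ptMat_comp, ptMat_htr]
    refine Matrix.ext fun i j => ?_
    simp [Matrix.mul_apply, Matrix.one_apply, apply_ite, sub_mul, Finset.sum_sub_distrib]
  have := AlgHom.congr_fun e F
  simpa [Polynomial.coeff_zero_eq_aeval_zero] using this

theorem htr_coeff_one (ξ : Matrix (Fin N) (Fin N) k) (h : IsNilpotent ξ) (F : GLn N k) :
    (htr ξ h F).coeff 1 = -dat ξ (AlgHom.id k (GLn N k)) F := by
  let L : GLn N k →ₗ[k] GLn N k := ((Polynomial.lcoeff (GLn N k) 1).restrictScalars k).comp (htr ξ h).toLinearMap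
  have hL : IsDer (AlgHom.id k (GLn N k)) L := by
    intro a b
    simp only [L, LinearMap.comp_apply, LinearMap.restrictScalars_apply, AlgHom.toLinearMap_apply, map_mul,
      Polynomial.lcoeff_apply, AlgHom.id_apply, Polynomial.coeff_mul]
    rw [show Finset.HasAntidiagonal.antidiagonal 1 = ({(0, 1), (1, 0)} : Finset (ℕ × ℕ)) from rfl,
      Finset.sum_pair (by simp), htr_coeff_zero, htr_coeff_zero]
    ring
  have hd : IsDer (AlgHom.id k (GLn N k)) (-dat ξ (AlgHom.id k (GLn N k))) := fun a b => by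
    simp [isDer_dat ξ (AlgHom.id k (GLn N k)) a b]; ring
  refine LinearMap.congr_fun (IsDer.ext hL hd fun i j => ?_) F
  simp only [L, LinearMap.comp_apply, LinearMap.restrictScalars_apply, AlgHom.toLinearMap_apply,
    Polynomial.lcoeff_apply, LinearMap.neg_apply, dat_X]
  rw [← ptMat_apply (htr ξ h), ptMat_htr]
  simp [Matrix.mul_apply, Matrix.one_apply, sub_mul, Finset.sum_sub_distrib, Polynomial.coeff_mul_C,
    apply_ite, Polynomial.algebraMap_eq, Polynomial.coeff_C]

/-- Substituting `T ^ d` for the variable. -/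
def substHom (m : Fin N → ℤ) (x : GLn N k →ₐ[k] k) (d : ℤ) : Polynomial (GLn N k) →ₐ[k] k[T;T⁻¹] where
  toRingHom := Polynomial.eval₂RingHom (lau m x).toRingHom (T d)
  commutes' r := by
    show Polynomial.eval₂ (lau m x).toRingHom (T d) (algebraMap k (Polynomial (GLn N k)) r) = _
    rw [IsScalarTower.algebraMap_apply k (GLn N k) (Polynomial (GLn N k)), Polynomial.algebraMap_eq,
      Polynomial.eval₂_C]
    exact (lau m x).commutes r

theorem substHom_apply (m : Fin N → ℤ) (x : GLn N k →ₐ[k] k) (d : ℤ) (p : Polynomial (GLn N k)) :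
    substHom m x d p = ∑ i ∈ Finset.range (p.natDegree + 2), lau m x (p.coeff i) * T ((i : ℤ) * d) := by
  show Polynomial.eval₂ (lau m x).toRingHom (T d) p = _
  rw [Polynomial.eval₂_eq_sum_range' _ (show p.natDegree < p.natDegree + 2 by omega)]
  refine Finset.sum_congr rfl fun i _ => ?_
  rw [LaurentPolynomial.T_pow]
  rfl

theorem htr_lau (m : Fin N → ℤ) (x : GLn N k →ₐ[k] k) {d : ℤ} {ξ : Matrix (Fin N) (Fin N) k}
    (hξ : ∀ i j, m i - m j ≠ d → ξ i j = 0) (h : IsNilpotent ξ) (hu : IsUnit (1 - ξ).det) :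
    (substHom m x d).comp (htr ξ h) = lau m (x.comp (ltrans (1 - ξ) hu)) := by
  refine pt_ext ?_
  rw [ptMat_comp, ptMat_htr, ptMat_lau, ptMat_ltrans, Algebra.algebraMap_self, RingHom.coe_id, Matrix.map_id,
    Matrix.map_mul]
  have e1 : ((ptMat (AlgHom.id k (GLn N k))).map (Polynomial.C : GLn N k →+* Polynomial (GLn N k))).map
      (substHom m x d) = ptMat (lau m x) := by
    refine Matrix.ext fun i j => ?_
    show Polynomial.eval₂ (lau m x).toRingHom (T d) (Polynomial.C (GLn.X i j)) = _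
    rw [Polynomial.eval₂_C]; rfl
  rw [e1, ptMat_lau, Matrix.map_mul, ← Matrix.mul_assoc, ← Matrix.mul_assoc]
  congr 1
  refine Matrix.ext fun i j => ?_
  simp only [Matrix.mul_apply, diagT, Matrix.map_apply, Matrix.sub_apply, Matrix.smul_apply, smul_eq_mul,
    Matrix.diagonal_apply, mul_ite, ite_mul, zero_mul, mul_zero, Finset.sum_ite_eq, Finset.sum_ite_eq',
    Finset.mem_univ, if_true, map_sub, map_mul]
  have hX : substHom m x d Polynomial.X = T d := Polynomial.eval₂_X _ _
  rw [hX, AlgHom.commutes]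
  by_cases hij : i = j
  · subst hij
    simp only [Matrix.one_apply_eq, map_one]
    by_cases hd : m i - m i = d
    · have hd0 : d = 0 := by omega
      subst hd0
      rw [LaurentPolynomial.T_zero]
      ring
    · rw [hξ _ _ hd, map_zero]
      ring
  · simp only [Matrix.one_apply_ne hij, map_zero]
    by_cases hd : m i - m j = d
    · rw [show m i = d + m j by omega, LaurentPolynomial.T_add]
      ring
    · rw [hξ _ _ hd, map_zero]
      ring

namespace Rep

variable {A : Type u} [CommRing A] [HopfAlgebra k A] [IsAlgClosed k] [Algebra.FiniteType k A]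
  {ρ : Rep k A N}

theorem htr_coeff_mem [CharZero k] (ξ : Matrix (Fin N) (Fin N) k) (h : IsNilpotent ξ) {F : GLn N k}
    (hF : F ∈ ρ.inv) (n : ℕ) : (htr ξ h F).coeff n ∈ ρ.inv := by
  refine mem_inv_of_points fun g => ?_
  set r := ρ.rtrans (AlgHom.id k (GLn N k)) ((Algebra.ofId k _).comp g) with hr
  have e : (Polynomial.mapAlgHom r).comp (htr ξ h) = (htr ξ h).comp r := by
    refine pt_ext ?_
    have e2 : ptMat ((htr ξ h).comp r) = ptMat (htr ξ h) * (ρ.pmat g).map (algebraMap k (Polynomial (GLn N k))) := by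
      rw [ptMat_comp, hr, ptMat_rtrans, Matrix.map_mul]
      congr 1
      refine Matrix.ext fun i j => ?_
      show htr ξ h (algebraMap k (GLn N k) (g (ρ.mat i j))) = _
      rw [AlgHom.commutes]; rfl
    rw [e2, ptMat_comp, ptMat_htr, Matrix.map_mul, Matrix.mul_assoc]
    congr 1
    · refine Matrix.ext fun i j => ?_
      simp [Matrix.one_apply, apply_ite, Polynomial.mapAlgHom]
    · refine Matrix.ext fun i j => ?_
      simp only [Matrix.map_apply, Matrix.mul_apply]
      show Polynomial.map r.toRingHom (Polynomial.C (GLn.X i j)) = _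
      rw [Polynomial.map_C, show r.toRingHom (GLn.X i j) = ptMat r i j from rfl, hr, ptMat_rtrans,
        Matrix.mul_apply, map_sum]
      refine Finset.sum_congr rfl fun l _ => ?_
      rw [map_mul, Polynomial.C_eq_algebraMap]
      congr 1
  have h1 := congrArg (fun p : Polynomial (GLn N k) => p.coeff n) (AlgHom.congr_fun e F)
  simp only [AlgHom.comp_apply, hr, ρ.rtrans_eq hF, AlgHom.id_apply] at h1
  rw [show (Polynomial.mapAlgHom r (htr ξ h F)) = Polynomial.map r.toRingHom (htr ξ h F) from rfl] at *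
  rw [Polynomial.coeff_map] at h1
  exact h1

/-- Invariant tangent derivatives do not depend on the representative. -/
theorem dat_congr {F : GLn N k} (hF : F ∈ ρ.inv) (ξ : Matrix (Fin N) (Fin N) k)
    {y y' : GLn N k →ₐ[k] k} (g : A →ₐ[k] k) (h : ptMat y' = ptMat y * ρ.pmat g) :
    dat ξ y' F = dat ξ y F := by
  show (dpt ξ y' F).snd = (dpt ξ y F).snd
  rw [ρ.inv_eq_of_mat (y := dpt ξ y) (y' := dpt ξ y') hF ((Algebra.ofId k (DualNumber k)).comp g) ?_]
  rw [dpt, ptMat_matPt, dpt, ptMat_matPt, h, Matrix.map_mul, Matrix.mul_assoc]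
  congr 2

variable [CharZero k]

/-- Coefficients up to `d` of the orbit of `x` are those of the constant `z`. -/
def Flows (ρ : Rep k A N) (m : Fin N → ℤ) (x z : GLn N k →ₐ[k] k) (d : ℤ) : Prop :=
  ∀ F ∈ ρ.inv, ∀ a < d, cf a (lau m x F) = if a = 0 then z F else 0

omit [IsAlgClosed k] [Algebra.FiniteType k A] [CharZero k] in
theorem lau_T (m : Fin N → ℤ) (x : GLn N k →ₐ[k] k) (f : k[T;T⁻¹]) (c : kˣ) (d : ℤ)
    (φ : k[T;T⁻¹] →ₐ[k] k[T;T⁻¹]) (hφ : ∀ n, φ (T n) = algebraMap k _ ((c ^ n : kˣ) : k) * T n) :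
    cf d (φ f) = ((c ^ d : kˣ) : k) * cf d f := by
  induction f using LaurentPolynomial.induction_on' with
  | add p q hp hq => rw [map_add, map_add, hp, hq, map_add, mul_add]
  | C_mul_T n r =>
    rw [map_mul, hφ, show LaurentPolynomial.C r = algebraMap k k[T;T⁻¹] r from
      (LaurentPolynomial.algebraMap_apply r).symm, AlgHom.commutes, ← mul_assoc, ← map_mul,
      ← Algebra.smul_def, ← Algebra.smul_def, map_smul, map_smul, cf_T]
    split_ifs with h
    · subst h; simp [mul_comm]
    · simp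

/-- The graded piece of a tangent vector. -/
theorem step_tangent (hG : IsLinearlyReductive k A) (hρ : ρ.IsFaithful) (m : Fin N → ℤ)
    (x z : GLn N k →ₐ[k] k) (hz : ∀ F ∈ ρ.inv, lau m z F = algebraMap k _ (z F)) {d : ℤ} (hd : 0 < d)
    (hfl : Flows ρ m x z d) :
    ∃ ξ : Matrix (Fin N) (Fin N) k, (∀ i j, m i - m j ≠ d → ξ i j = 0) ∧
      ∀ F ∈ ρ.inv, cf d (lau m x F) = dat ξ z F := by
  classical
  let δ : ρ.inv →ₗ[k] k := (cf d).comp ((lau m x).toLinearMap.comp ρ.inv.val.toLinearMap)
  obtain ⟨ξ, hξ⟩ := exists_dat_eq hG hρ z δ (fun a b => by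
    show cf d (lau m x ((a : GLn N k) * b)) = _
    rw [map_mul, cf_mul hd (fun e he he0 => by rw [hfl _ a.2 e he, if_neg he0])
      (fun e he he0 => by rw [hfl _ b.2 e he, if_neg he0]), hfl _ a.2 0 hd, hfl _ b.2 0 hd, if_pos rfl,
      if_pos rfl]
    rfl)
  refine ⟨Matrix.of fun i j => if m i - m j = d then ξ i j else 0, fun i j h => by simp [h], fun F hF => ?_⟩
  -- compare the scalings
  let E : Fin N × Fin N → k := fun p => ξ p.1 p.2 * dat (Matrix.single p.1 p.2 1) z F
  let f : k[T;T⁻¹] := cf d (lau m x F) • T d - ∑ p : Fin N × Fin N, E p • T (m p.1 - m p.2)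
  have hdatsum : ∀ (η : Matrix (Fin N) (Fin N) k),
      dat η z F = ∑ p : Fin N × Fin N, η p.1 p.2 * dat (Matrix.single p.1 p.2 1) z F := by
    intro η
    have e : η = ∑ p : Fin N × Fin N, η p.1 p.2 • Matrix.single p.1 p.2 (1 : k) := by
      conv_lhs => rw [Matrix.matrix_eq_sum_single η]
      rw [← Fintype.sum_prod_type']
      simp [Matrix.smul_single]
    conv_lhs => rw [e]
    rw [dat_sum, LinearMap.sum_apply]
    rfl
  have hf0 : f = 0 := by
    refine eq_zero_of_evalC f fun c => ?_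
    have hu := isUnit_det_diagonal m c
    have hmem := ρ.ltrans_mem hF _ hu
    have h1 : δ ⟨_, hmem⟩ = ((c ^ d : kˣ) : k) * cf d (lau m x F) := by
      let φ : k[T;T⁻¹] →ₐ[k] k[T;T⁻¹] :=
        AddMonoidAlgebra.lift k k[T;T⁻¹] ℤ
          { toFun := fun n => algebraMap k _ ((c ^ n.toAdd : kˣ) : k) * T n.toAdd
            map_one' := by simp
            map_mul' := fun a b => by
              simp only [toAdd_mul, zpow_add, Units.val_mul, map_mul, LaurentPolynomial.T_add]
              ring }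
      have hφ : ∀ n, φ (T n) = algebraMap k _ ((c ^ n : kˣ) : k) * T n := fun n => by
        show AddMonoidAlgebra.lift k k[T;T⁻¹] ℤ _ (AddMonoidAlgebra.single n (1 : k)) = _
        rw [AddMonoidAlgebra.lift_single, one_smul]
        rfl
      have e : (lau m x).comp (ltrans _ hu) = φ.comp (lau m x) := by
        refine pt_ext ?_
        rw [ptMat_ltrans, ptMat_comp, ptMat_lau, Matrix.map_mul, ← Matrix.mul_assoc]
        congr 1
        · refine Matrix.ext fun i j => ?_
          simp only [diagT, Matrix.map_apply, Matrix.mul_apply]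
          rw [Finset.sum_eq_single i (fun l _ hl => by simp [Matrix.diagonal_apply_ne _ hl.symm])
            (fun h => absurd (Finset.mem_univ i) h), Matrix.diagonal_apply_eq]
          by_cases h : i = j
          · subst h; rw [Matrix.diagonal_apply_eq, hφ]
          · rw [Matrix.diagonal_apply_ne _ h, map_zero, mul_zero]
        · refine Matrix.ext fun i j => ?_
          simp only [Matrix.map_apply]
          exact (φ.commutes _).symm
      show cf d (lau m x (ltrans _ hu F)) = _
      rw [← AlgHom.comp_apply, e]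
      exact lau_T m x _ c d φ hφ
    rw [hξ] at h1
    have h2 : dat ξ z (ltrans _ hu F) =
        dat ((Matrix.diagonal fun i => ((c ^ m i : kˣ) : k)) * ξ *
          (Matrix.diagonal fun i => ((c ^ m i : kˣ) : k))⁻¹) z F := by
      rw [dat_ltrans]
      have hzc : ∀ G ∈ ρ.inv, z.comp (ltrans _ hu) G = z G := fun G hG' => by
        rw [← evalC_lau, AlgHom.comp_apply, hz G hG', AlgHom.commutes]
        rfl
      obtain ⟨g, hg⟩ := exists_pmat hG hρ z (z.comp (ltrans _ hu)) hzc
      exact dat_congr hF _ g hg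
    have hinv : (Matrix.diagonal fun i => ((c ^ m i : kˣ) : k))⁻¹ =
        Matrix.diagonal fun i => (((c ^ m i)⁻¹ : kˣ) : k) := by
      refine Matrix.inv_eq_right_inv ?_
      rw [Matrix.diagonal_mul_diagonal]
      refine (congrArg Matrix.diagonal (funext fun i => ?_)).trans Matrix.diagonal_one
      rw [← Units.val_mul, mul_inv_cancel, Units.val_one]
    rw [h2, hdatsum, hinv] at h1
    simp only [f, map_sub, map_sum, map_smul, evalC_T, smul_eq_mul, sub_eq_zero]
    rw [mul_comm, ← h1]
    refine Finset.sum_congr rfl fun p _ => ?_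
    simp only [E, Matrix.mul_diagonal, Matrix.diagonal_mul, zpow_sub, Units.val_mul]
    ring
  have h3 := congrArg (cf d) hf0
  simp only [f, map_sub, map_sum, map_smul, map_zero, cf_T, smul_eq_mul, if_true, mul_one, sub_eq_zero] at h3
  rw [h3, hdatsum]
  refine Finset.sum_congr rfl fun p _ => ?_
  simp only [E, Matrix.of_apply]
  split_ifs <;> simp

/-- The attracting set of a fixed point consists of contracted translates. -/
theorem attract (hG : IsLinearlyReductive k A) (hρ : ρ.IsFaithful) (m : Fin N → ℤ)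
    (x z : GLn N k →ₐ[k] k) (hz : ∀ F ∈ ρ.inv, lau m z F = algebraMap k _ (z F))
    (hx : Flows ρ m x z 1) :
    ∃ (U : Matrix (Fin N) (Fin N) k) (h : GLn N k →ₐ[k] k), Contr m U ∧ ptMat x = U * ptMat h ∧
      ∀ F ∈ ρ.inv, lau m h F = algebraMap k _ (h F) ∧ h F = z F := by
  obtain ⟨M, hM⟩ : ∃ M : ℕ, ∀ i j, m i - m j ≤ (M : ℤ) := by
    refine ⟨∑ p : Fin N × Fin N, (m p.1 - m p.2).natAbs, fun i j => ?_⟩
    have h1 : (m i - m j).natAbs ≤ ∑ p : Fin N × Fin N, (m p.1 - m p.2).natAbs :=
      Finset.single_le_sum (f := fun p : Fin N × Fin N => (m p.1 - m p.2).natAbs) (fun _ _ => Nat.zero_le _)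
        (Finset.mem_univ (i, j))
    omega
  have key : ∀ n : ℕ, ∃ (U : Matrix (Fin N) (Fin N) k) (h : GLn N k →ₐ[k] k),
      Contr m U ∧ ptMat x = U * ptMat h ∧ Flows ρ m h z ((n : ℤ) + 1) := by
    intro n
    induction n with
    | zero => exact ⟨1, x, Contr.one m, (one_mul _).symm, by simpa using hx⟩
    | succ n ih =>
      obtain ⟨U, h, hU, hUh, hfl⟩ := ih
      have hd : (0 : ℤ) < (n : ℤ) + 1 := by omega
      obtain ⟨ξ, hξ, hdat⟩ := step_tangent hG hρ m h z hz hd hfl
      obtain ⟨hnil, hC, V, hV, hV1⟩ := unipotent_step hd hξ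
      have hu : IsUnit (1 - ξ).det := (Matrix.isUnit_iff_isUnit_det _).1 hnil.isUnit_one_sub
      refine ⟨U * V, h.comp (ltrans (1 - ξ) hu), hU.mul hV, ?_, ?_⟩
      · rw [ptMat_ltrans, Algebra.algebraMap_self, RingHom.coe_id, Matrix.map_id, Matrix.mul_assoc,
          ← Matrix.mul_assoc V, hV1, Matrix.one_mul, hUh]
      intro F hF a ha
      rw [← htr_lau m h hξ hnil hu, AlgHom.comp_apply, substHom_apply, map_sum]
      have hterm : ∀ i, cf a (lau m h ((htr ξ hnil F).coeff i) * T ((i : ℤ) * ((n : ℤ) + 1))) =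
          cf (a - (i : ℤ) * ((n : ℤ) + 1)) (lau m h ((htr ξ hnil F).coeff i)) := fun i => by
        rw [mul_comm]
        exact Groth.Agent.GLinMu.coeff_T_mul _ _ _
      have hsmall : ∀ i, 2 ≤ i → cf a (lau m h ((htr ξ hnil F).coeff i) * T ((i : ℤ) * ((n : ℤ) + 1))) = 0 := by
        intro i hi
        have hlt : a - (i : ℤ) * ((n : ℤ) + 1) < 0 := by
          have : (2 : ℤ) * ((n : ℤ) + 1) ≤ (i : ℤ) * ((n : ℤ) + 1) :=
            mul_le_mul_of_nonneg_right (by exact_mod_cast hi) hd.le
          omega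
        rw [hterm, hfl _ (htr_coeff_mem ξ hnil hF i) _ (by omega), if_neg hlt.ne]
      rw [show (htr ξ hnil F).natDegree + 2 = ((htr ξ hnil F).natDegree + 1) + 1 from rfl,
        Finset.sum_range_succ', Finset.sum_range_succ',
        Finset.sum_eq_zero (fun i _ => hsmall (i + 1 + 1) (by omega)), zero_add, hterm, hterm,
        htr_coeff_zero]
      simp only [zero_add, Nat.cast_one, one_mul, Nat.cast_zero, zero_mul, sub_zero]
      have hmem1 := htr_coeff_mem ξ hnil hF (ρ := ρ) 1
      rcases lt_or_ge a ((n : ℤ) + 1) with hlt | hge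
      · rw [hfl _ hF a hlt, hfl _ hmem1 _ (by omega), if_neg (show a - ((n : ℤ) + 1) ≠ 0 by omega), zero_add]
      · have ha' : a = (n : ℤ) + 1 := by push_cast at ha; omega
        subst ha'
        rw [hdat F hF, hfl _ hmem1 _ (by omega), sub_self, if_pos rfl, htr_coeff_one, map_neg, dat_natural,
          AlgHom.comp_id, if_neg (by omega)]
        exact neg_add_cancel _
  obtain ⟨U, h, hU, hUh, hfl⟩ := key M
  have hall : ∀ n : ℕ, Flows ρ m h z ((M : ℤ) + 1 + n) := by
    intro n
    induction n with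
    | zero => simpa using hfl
    | succ n ih =>
      obtain ⟨ξ, hξ, hdat⟩ := step_tangent hG hρ m h z hz (show (0 : ℤ) < (M : ℤ) + 1 + n by omega) ih
      intro F hF a ha
      rcases lt_or_ge a ((M : ℤ) + 1 + n) with hlt | hge
      · exact ih F hF a hlt
      · have ha' : a = (M : ℤ) + 1 + n := by push_cast at ha; omega
        have hξ0 : ξ = 0 := by
          refine Matrix.ext fun i j => ?_
          exact hξ i j (by have := hM i j; omega)
        subst ha'
        rw [hdat F hF, hξ0, if_neg (by omega)]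
        have e := dat_sum (B := k) (∅ : Finset Unit) (fun _ => 0) (fun _ => 0) z
        simp only [Finset.sum_empty] at e
        rw [e]; rfl
  refine ⟨U, h, hU, hUh, fun F hF => ?_⟩
  have hc : lau m h F = algebraMap k _ (z F) := by
    refine LaurentPolynomial.ext fun a => ?_
    show cf a (lau m h F) = cf a (algebraMap k _ (z F))
    rw [cf_algebraMap]
    exact hall a.toNat F hF a (by omega)
  have h1 : h F = z F := by
    rw [← eval_one_lau m h, AlgHom.comp_apply, hc, AlgHom.commutes]
    rfl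
  exact ⟨by rw [hc, h1], h1⟩

end Rep

end HMLib
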