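import Mathlib
import Groth.Prelude.Def_GLin5
import Groth.Agent.GLinFinLib.Points
import Groth.Agent.GLinFinLib.FreeOrbit
import Groth.Agent.LunaLib.Averaging
import Groth.Agent.GrpSchLib.HopfReduced

/-! # A linear algebraic group inside a general linear group

A matrix representation of a Hopf algebra, the translation action on the coordinate ring of `GL_N`
and its invariants (the functions on `GL_N / G`). -/

set_option autoImplicit false
set_option maxHeartbeats 1000000
set_option synthInstance.maxHeartbeats 400000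

noncomputable section

open TensorProduct HopfRep CoordGrp

namespace HMLib

universe u v

variable {k : Type u} [Field k] {N : ℕ}

/-- Algebra maps out of `GL_N` are determined by the matrix entries. -/
theorem gl_ext {B : Type v} [CommRing B] [Algebra k B] {f g : GLn N k →ₐ[k] B}
    (h : ∀ i j, f (GLn.X i j) = g (GLn.X i j)) : f = g := by
  refine GLn.algHom_ext h ?_
  have hd : f GLn.det = g GLn.det := by
    rw [GLn.det_eq, AlgHom.map_det, AlgHom.map_det]
    congr 1
    ext i j
    exact h i j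
  have h1 : f GLn.det * f GLn.Dinv = 1 := by rw [← map_mul, GLn.det_mul_Dinv, map_one]
  have h2 : g GLn.det * g GLn.Dinv = 1 := by rw [← map_mul, GLn.det_mul_Dinv, map_one]
  calc f GLn.Dinv = f GLn.Dinv * (g GLn.det * g GLn.Dinv) := by rw [h2, mul_one]
    _ = (f GLn.det * f GLn.Dinv) * g GLn.Dinv := by rw [hd]; ring
    _ = g GLn.Dinv := by rw [h1, one_mul]

/-- The matrix of a point of `GL_N`. -/
def ptMat {B : Type v} [CommRing B] [Algebra k B] (y : GLn N k →ₐ[k] B) : Matrix (Fin N) (Fin N) B :=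
  (GLn.genMat N k).map y

@[simp] theorem ptMat_apply {B : Type v} [CommRing B] [Algebra k B] (y : GLn N k →ₐ[k] B) (i j : Fin N) :
    ptMat y i j = y (GLn.X i j) := rfl

theorem isUnit_det_ptMat {B : Type v} [CommRing B] [Algebra k B] (y : GLn N k →ₐ[k] B) :
    IsUnit (ptMat y).det := by
  have : (ptMat y).det = y GLn.det := by
    rw [GLn.det_eq, AlgHom.map_det]; rfl
  rw [this]
  exact IsUnit.of_mul_eq_one (y GLn.Dinv) (by rw [← map_mul, GLn.det_mul_Dinv, map_one])

/-- The point of `GL_N` with a given invertible matrix. -/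
def matPt {B : Type v} [CommRing B] [Algebra k B] (M : Matrix (Fin N) (Fin N) B) (h : IsUnit M.det) :
    GLn N k →ₐ[k] B :=
  GLn.pt N k M (↑h.unit⁻¹ : B) h.mul_val_inv

@[simp] theorem ptMat_matPt {B : Type v} [CommRing B] [Algebra k B] (M : Matrix (Fin N) (Fin N) B)
    (h : IsUnit M.det) : ptMat (k := k) (matPt M h) = M := by
  ext i j; simp [matPt]

theorem pt_ext {B : Type v} [CommRing B] [Algebra k B] {f g : GLn N k →ₐ[k] B} (h : ptMat f = ptMat g) :
    f = g :=
  gl_ext fun i j => congrFun (congrFun h i) j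

theorem matPt_ptMat {B : Type v} [CommRing B] [Algebra k B] (y : GLn N k →ₐ[k] B) :
    matPt (ptMat y) (isUnit_det_ptMat y) = y :=
  pt_ext (ptMat_matPt _ _)

theorem ptMat_comp {B C : Type v} [CommRing B] [Algebra k B] [CommRing C] [Algebra k C] (f : B →ₐ[k] C)
    (y : GLn N k →ₐ[k] B) : ptMat (f.comp y) = (ptMat y).map f := rfl

variable (k) in
/-- A matrix representation. -/
structure Rep (A : Type u) [CommRing A] [HopfAlgebra k A] (N : ℕ) where
  mat : Matrix (Fin N) (Fin N) A
  comul_mat : ∀ i j, CoalgebraStruct.comul (R := k) (mat i j) = ∑ l, mat i l ⊗ₜ[k] mat l j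
  counit_mat : ∀ i j, CoalgebraStruct.counit (R := k) (mat i j) = if i = j then (1 : k) else 0

variable {A : Type u} [CommRing A] [HopfAlgebra k A]

/-- Product of points. -/
def mulPt {B : Type v} [CommRing B] [Algebra k B] (g h : A →ₐ[k] B) : A →ₐ[k] B :=
  (Algebra.TensorProduct.lift g h fun _ _ => Commute.all _ _).comp (Bialgebra.comulAlgHom k A)

namespace Rep

variable (ρ : Rep k A N)

theorem mul_antipode : ρ.mat * ρ.mat.map (HopfAlgebra.antipodeAlgHom k A) = 1 := by
  ext i j
  have h := HopfAlgebra.mul_antipode_lTensor_comul_apply (R := k) (ρ.mat i j)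
  rw [ρ.comul_mat, map_sum, map_sum, ρ.counit_mat] at h
  simp only [LinearMap.lTensor_tmul, LinearMap.mul'_apply] at h
  rw [Matrix.mul_apply, Matrix.one_apply]
  simp only [Matrix.map_apply, HopfAlgebra.antipodeAlgHom_apply]
  rw [h]
  split_ifs <;> simp

theorem isUnit_det : IsUnit ρ.mat.det :=
  IsUnit.of_mul_eq_one _ (by rw [← Matrix.det_mul, ρ.mul_antipode, Matrix.det_one])

/-- The matrix of a point of the group. -/
def pmat {B : Type v} [CommRing B] [Algebra k B] (g : A →ₐ[k] B) : Matrix (Fin N) (Fin N) B := ρ.mat.map g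

theorem isUnit_det_pmat {B : Type v} [CommRing B] [Algebra k B] (g : A →ₐ[k] B) : IsUnit (ρ.pmat g).det := by
  have : (ρ.pmat g).det = g ρ.mat.det := (AlgHom.map_det g ρ.mat).symm
  rw [this]
  exact ρ.isUnit_det.map g

theorem pmat_mul {B : Type v} [CommRing B] [Algebra k B] (g h : A →ₐ[k] B) :
    ρ.pmat (mulPt g h) = ρ.pmat g * ρ.pmat h := by
  ext i j
  simp [pmat, mulPt, Matrix.mul_apply, ρ.comul_mat]

theorem pmat_counit : ρ.pmat (Bialgebra.counitAlgHom k A) = 1 := by
  ext i j
  simp [pmat, ρ.counit_mat, Matrix.one_apply]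

/-- The homomorphism `G → GL_N`. -/
def hom : GLn N k →ₐc[k] A :=
  BialgHom.ofAlgHom (matPt ρ.mat ρ.isUnit_det)
    (by
      refine gl_ext fun i j => ?_
      simp only [AlgHom.comp_apply, Bialgebra.counitAlgHom_apply]
      rw [← ptMat_apply (matPt ρ.mat ρ.isUnit_det), ptMat_matPt, ρ.counit_mat, GLn.counit_X])
    (by
      refine gl_ext fun i j => ?_
      simp only [AlgHom.comp_apply, Bialgebra.comulAlgHom_apply]
      rw [← ptMat_apply (matPt ρ.mat ρ.isUnit_det), ptMat_matPt, ρ.comul_mat, GLn.comul_X, map_sum]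
      simp only [Algebra.TensorProduct.map_tmul]
      refine Finset.sum_congr rfl fun l _ => ?_
      rw [← ptMat_apply (matPt ρ.mat ρ.isUnit_det), ← ptMat_apply (matPt ρ.mat ρ.isUnit_det), ptMat_matPt])

theorem hom_X (i j : Fin N) : ρ.hom (GLn.X i j) = ρ.mat i j := by
  show matPt ρ.mat ρ.isUnit_det (GLn.X i j) = _
  simp [matPt]

/-- `GL_N` with the action of the group by right translation. -/
abbrev comod : Comod k A (GLn N k) :=
  GLin.comodAlong ρ.hom
    { coact := CoalgebraStruct.comul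
      coassoc := Coalgebra.coassoc
      counit_comp := Coalgebra.lTensor_counit_comp_comul }

theorem coact_apply (F : GLn N k) :
    ρ.comod.coact F =
      Algebra.TensorProduct.map (AlgHom.id k (GLn N k)) (ρ.hom : GLn N k →ₐ[k] A)
        (Bialgebra.comulAlgHom k (GLn N k) F) := rfl

theorem isCoactAlg : @GLin.IsCoactAlg k _ A _ _ (GLn N k) _ _ ρ.comod := by
  letI := ρ.comod
  exact ⟨by rw [ρ.coact_apply, map_one, map_one],
    fun f g => by rw [ρ.coact_apply, ρ.coact_apply, ρ.coact_apply, map_mul, map_mul]⟩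

/-- The functions invariant under the group. -/
def inv : Subalgebra k (GLn N k) := @GLin.invariants k _ A _ _ (GLn N k) _ _ ρ.comod ρ.isCoactAlg

/-- Right translation by a point of the group. -/
def rtrans {B : Type v} [CommRing B] [Algebra k B] (y : GLn N k →ₐ[k] B) (g : A →ₐ[k] B) : GLn N k →ₐ[k] B :=
  matPt (ptMat y * ρ.pmat g) (by rw [Matrix.det_mul]; exact (isUnit_det_ptMat y).mul (ρ.isUnit_det_pmat g))

theorem ptMat_rtrans {B : Type v} [CommRing B] [Algebra k B] (y : GLn N k →ₐ[k] B) (g : A →ₐ[k] B) :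
    ptMat (ρ.rtrans y g) = ptMat y * ρ.pmat g := ptMat_matPt _ _

theorem lift_coact {B : Type v} [CommRing B] [Algebra k B] (y : GLn N k →ₐ[k] B) (g : A →ₐ[k] B) :
    (Algebra.TensorProduct.lift y g fun _ _ => Commute.all _ _).comp
      ((Algebra.TensorProduct.map (AlgHom.id k (GLn N k)) (ρ.hom : GLn N k →ₐ[k] A)).comp
        (Bialgebra.comulAlgHom k (GLn N k))) = ρ.rtrans y g := by
  refine gl_ext fun i j => ?_
  rw [← ptMat_apply (ρ.rtrans y g), ptMat_rtrans]
  simp [GLn.comul_X, Matrix.mul_apply, pmat, hom_X]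

theorem rtrans_eq {F : GLn N k} (hF : F ∈ ρ.inv) {B : Type v} [CommRing B] [Algebra k B]
    (y : GLn N k →ₐ[k] B) (g : A →ₐ[k] B) : ρ.rtrans y g F = y F := by
  letI := ρ.comod
  rw [← ρ.lift_coact]
  have h : Comod.coact (k := k) (A := A) F = F ⊗ₜ[k] (1 : A) := hF
  rw [ρ.coact_apply] at h
  rw [AlgHom.comp_apply, AlgHom.comp_apply, h, Algebra.TensorProduct.lift_tmul, map_one, mul_one]

/-- Invariant functions depend only on the class modulo the group. -/
theorem inv_eq_of_mat {F : GLn N k} (hF : F ∈ ρ.inv) {B : Type v} [CommRing B] [Algebra k B]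
    {y y' : GLn N k →ₐ[k] B} (g : A →ₐ[k] B) (h : ptMat y' = ptMat y * ρ.pmat g) : y' F = y F := by
  rw [pt_ext (h.trans (ρ.ptMat_rtrans y g).symm), ρ.rtrans_eq hF]

theorem actPt_eq (g : A →ₐ[k] k) (x : GLn N k →ₐ[k] k) :
    letI := ρ.comod; haveI := ρ.isCoactAlg
    GLin.actPt k g x = ρ.rtrans x g := by
  letI := ρ.comod
  haveI := ρ.isCoactAlg
  refine gl_ext fun i j => ?_
  rw [← ptMat_apply (ρ.rtrans x g), ptMat_rtrans]
  simp only [GLin.actPt, AlgHom.comp_apply, GLinFinLib.orbitHom_apply, ρ.coact_apply]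
  simp [GLn.comul_X, Matrix.mul_apply, pmat, hom_X]

theorem orbitHom_mat (x : GLn N k →ₐ[k] k) :
    letI := ρ.comod; haveI := ρ.isCoactAlg
    ptMat (GLin.orbitHom k A x) = (ptMat x).map (algebraMap k A) * ρ.mat := by
  letI := ρ.comod
  haveI := ρ.isCoactAlg
  ext i j
  simp only [ptMat_apply, GLinFinLib.orbitHom_apply, ρ.coact_apply]
  simp [GLn.comul_X, Matrix.mul_apply, hom_X, Algebra.smul_def]

/-- A faithful representation: the entries generate. -/
def IsFaithful : Prop := Algebra.adjoin k (Set.range fun p : Fin N × Fin N => ρ.mat p.1 p.2) = ⊤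

variable {ρ}

theorem orbitHom_surjective (hρ : ρ.IsFaithful) (x : GLn N k →ₐ[k] k) :
    letI := ρ.comod; haveI := ρ.isCoactAlg
    Function.Surjective (GLin.orbitHom k A x) := by
  letI := ρ.comod
  haveI := ρ.isCoactAlg
  rw [← AlgHom.range_eq_top, eq_top_iff, ← (hρ : _ = ⊤), Algebra.adjoin_le_iff]
  rintro _ ⟨⟨i, j⟩, rfl⟩
  have e : ρ.mat = ((ptMat x)⁻¹).map (algebraMap k A) * ptMat (GLin.orbitHom k A x) := by
    rw [ρ.orbitHom_mat, ← Matrix.mul_assoc, ← Matrix.map_mul, Matrix.nonsing_inv_mul _ (isUnit_det_ptMat x),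
      Matrix.map_one _ (map_zero _) (map_one _), Matrix.one_mul]
  rw [SetLike.mem_coe]
  show ρ.mat i j ∈ _
  rw [e, Matrix.mul_apply]
  refine sum_mem fun l _ => mul_mem ?_ ⟨_, rfl⟩
  exact Subalgebra.algebraMap_mem _ _

theorem isClosedOrbit (hρ : ρ.IsFaithful) (x : GLn N k →ₐ[k] k) :
    letI := ρ.comod; haveI := ρ.isCoactAlg
    GLin.IsClosedOrbit k A x := by
  letI := ρ.comod
  haveI := ρ.isCoactAlg
  exact (PrimeSpectrum.isClosedEmbedding_comap_of_surjective A _ (orbitHom_surjective hρ x)).isClosed_range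

/-- The identity of `GL_N`. -/
abbrev one : GLn N k →ₐ[k] k := Bialgebra.counitAlgHom k (GLn N k)

theorem ptMat_one : ptMat (one : GLn N k →ₐ[k] k) = 1 := by
  ext i j
  simp [GLn.counit_X, Matrix.one_apply]

variable [IsAlgClosed k] [Algebra.FiniteType k A] (hG : IsLinearlyReductive k A) (hρ : ρ.IsFaithful)

instance : Algebra.FiniteType k (GLn N k) :=
  haveI : Algebra.FiniteType k (GLb N k) :=
    inferInstanceAs (Algebra.FiniteType k (MvPolynomial (GLPoly.Idx N) k))
  Algebra.FiniteType.of_surjective (GLn.mk N k)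
    (Ideal.Quotient.mk_surjective : Function.Surjective (GLn.mk N k))

include hG hρ in
/-- Invariant functions separate the classes modulo the group. -/
theorem exists_pmat (y y' : GLn N k →ₐ[k] k) (h : ∀ F ∈ ρ.inv, y' F = y F) :
    ∃ g : A →ₐ[k] k, ptMat y' = ptMat y * ρ.pmat g := by
  letI := ρ.comod
  haveI := ρ.isCoactAlg
  obtain ⟨g, hg⟩ := GLinFinLib.exists_actPt_of_eq_on_invariants hG (isClosedOrbit hρ) y y' h
  exact ⟨g, by rw [hg, ρ.actPt_eq, ptMat_rtrans]⟩

/-- The ideal of the group in `GL_N`. -/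
def ideal (ρ : Rep k A N) : Ideal (GLn N k) := RingHom.ker (ρ.hom : GLn N k →ₐ[k] A)

omit [IsAlgClosed k] [Algebra.FiniteType k A] in
theorem orbitHom_one :
    letI := ρ.comod; haveI := ρ.isCoactAlg
    GLin.orbitHom k A (one : GLn N k →ₐ[k] k) = (ρ.hom : GLn N k →ₐ[k] A) := by
  letI := ρ.comod
  haveI := ρ.isCoactAlg
  refine pt_ext ?_
  rw [ρ.orbitHom_mat, ptMat_one, Matrix.map_one _ (map_zero _) (map_one _), Matrix.one_mul]
  ext i j
  exact (ρ.hom_X i j).symm

include hG hρ in
/-- The ideal of the group is generated by invariant functions. -/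
theorem ideal_le_span : ρ.ideal ≤ Ideal.span ((ρ.ideal : Set (GLn N k)) ∩ (ρ.inv : Set (GLn N k))) := by
  letI := ρ.comod
  haveI := ρ.isCoactAlg
  haveI : IsNoetherianRing (GLn N k) := Algebra.FiniteType.isNoetherianRing k _
  have h0 : IsSubcomod (k := k) (A := A) ((ρ.ideal).restrictScalars k) := by
    have := GLinFinLib.isSubcomod_ker_orbitHom (A := A) (one : GLn N k →ₐ[k] k)
    rwa [orbitHom_one] at this
  exact (GLinFinLib.span_fixed_eq (M := GLn N k) hG (orbitHom_surjective hρ) ρ.ideal h0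
    (IsNoetherian.noetherian _)).ge

omit [Algebra.FiniteType k A] in
theorem mem_inv_of_points [Algebra.FiniteType k A] [CharZero k] {F : GLn N k}
    (h : ∀ g : A →ₐ[k] k, ρ.rtrans (AlgHom.id k (GLn N k)) ((Algebra.ofId k _).comp g) F = F) : F ∈ ρ.inv := by
  letI := ρ.comod
  haveI := ρ.isCoactAlg
  haveI : IsReduced A := Groth.Agent.GrpSchLib.HopfRed.isReduced_of_finiteType (k := k)
  show Comod.coact (k := k) (A := A) F = F ⊗ₜ[k] (1 : A)
  rw [← sub_eq_zero]
  refine LunaLib.Pts.eq_zero_of_spec₂ fun g => ?_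
  rw [map_sub, sub_eq_zero, UnitRigidLib.spec₂_tmul, map_one, one_smul, ρ.coact_apply]
  conv_rhs => rw [← h g, ← ρ.lift_coact]
  rfl

end Rep

end HMLib
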