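import Groth.Agent.HMLib.Base
import Groth.Agent.GLinFinLib.Orbits

/-! # A faithful matrix representation containing a given linear action -/

set_option autoImplicit false
set_option maxHeartbeats 1000000
set_option synthInstance.maxHeartbeats 400000

noncomputable section

open TensorProduct HopfRep CoordGrp

namespace HMLib

universe u v w

variable {k : Type u} [Field k] {A : Type u} [CommRing A] [HopfAlgebra k A]
  {ι : Type u} [Fintype ι]

/-- A finite type Hopf algebra has a family with multiplicative matrix whose entries generate. -/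
theorem exists_generating_mat [Algebra.FiniteType k A] :
    ∃ (r : ℕ) (m : Fin r → Fin r → A),
      (∀ j i, CoalgebraStruct.comul (R := k) (m j i) = ∑ l, m j l ⊗ₜ[k] m l i) ∧
      (∀ j i, CoalgebraStruct.counit (R := k) (m j i) = if j = i then (1 : k) else 0) ∧
      Algebra.adjoin k (Set.range fun p : Fin r × Fin r => m p.1 p.2) = ⊤ := by
  classical
  obtain ⟨g, hg⟩ := (Algebra.FiniteType.out : (⊤ : Subalgebra k A).FG)
  obtain ⟨r, v, m, hspan, hv, hmul, hone⟩ := GLinFinLib.exists_closed_family (k := k) (H := A) g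
  refine ⟨r, m, hmul, hone, ?_⟩
  rw [eq_top_iff, ← hg, Algebra.adjoin_le_iff]
  intro x hx
  have hv' : ∀ i, v i ∈ Algebra.adjoin k (Set.range fun p : Fin r × Fin r => m p.1 p.2) := by
    intro i
    have h := congrArg (fun z => TensorProduct.lid k A ((CoalgebraStruct.counit (R := k) (A := A)).rTensor A z)) (hv i)
    have h' : TensorProduct.lid k A ((CoalgebraStruct.counit (R := k) (A := A)).rTensor A
        (CoalgebraStruct.comul (R := k) (v i))) = ∑ j, CoalgebraStruct.counit (R := k) (v j) • m j i := by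
      refine h.trans ?_
      simp
    rw [Coalgebra.rTensor_counit_comul, TensorProduct.lid_tmul, one_smul] at h'
    rw [h']
    refine sum_mem fun j _ => Subalgebra.smul_mem _ ?_ _
    exact Algebra.subset_adjoin (R := k) (s := Set.range fun p : Fin r × Fin r => m p.1 p.2) ⟨(j, i), rfl⟩
  have hle : Submodule.span k (Set.range v) ≤
      Subalgebra.toSubmodule (Algebra.adjoin k (Set.range fun p : Fin r × Fin r => m p.1 p.2)) :=
    Submodule.span_le.2 (by rintro _ ⟨i, rfl⟩; exact hv' i)
  exact hle (hspan x hx)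

section Lin

variable [DecidableEq ι] [Comod k A (MvPolynomial ι k)] [GLin.IsCoactAlg k A (MvPolynomial ι k)]

omit [Fintype ι] in
theorem coeff_X_single (i j : ι) :
    MvPolynomial.coeff (Finsupp.single j 1) (MvPolynomial.X i : MvPolynomial ι k) = if i = j then 1 else 0 := by
  rw [MvPolynomial.coeff_X']
  simp [Finsupp.single_left_inj]

/-- The matrix of a linear coaction is multiplicative. -/
theorem lin_mat_mul (m : ι → ι → A)
    (hm : ∀ i, Comod.coact (k := k) (A := A) (MvPolynomial.X i : MvPolynomial ι k) =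
      ∑ j, (MvPolynomial.X j : MvPolynomial ι k) ⊗ₜ[k] m j i) :
    (∀ j i, CoalgebraStruct.comul (R := k) (m j i) = ∑ l, m j l ⊗ₜ[k] m l i) ∧
      ∀ j i, CoalgebraStruct.counit (R := k) (m j i) = if j = i then (1 : k) else 0 := by
  classical
  let f : ι → (MvPolynomial ι k →ₗ[k] k) := fun j => MvPolynomial.lcoeff k (Finsupp.single j 1)
  have hf : ∀ i j, f j (MvPolynomial.X i) = if i = j then 1 else 0 := fun i j => coeff_X_single i j
  refine ⟨fun j i => ?_, fun j i => ?_⟩
  · have h := ComodLib.coassoc_apply (k := k) (A := A) (V := MvPolynomial ι k) (MvPolynomial.X i)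
    rw [hm] at h
    simp only [map_sum, LinearMap.rTensor_tmul, hm, TensorProduct.sum_tmul, TensorProduct.assoc_tmul,
      LinearMap.lTensor_tmul] at h
    have h2 := congrArg (fun z => TensorProduct.lid k (A ⊗[k] A) ((f j).rTensor (A ⊗[k] A) z)) h
    simp only [map_sum, LinearMap.rTensor_tmul, hf, TensorProduct.lid_tmul, ite_smul, one_smul, zero_smul,
      Finset.sum_ite_eq', Finset.mem_univ, if_true] at h2
    exact h2.symm
  · have h := ComodLib.slice_counit (k := k) (A := A) (V := MvPolynomial ι k) (MvPolynomial.X i)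
    rw [hm] at h
    have h2 := congrArg (f j) h
    simp only [map_sum, ComodLib.slice_tmul, map_smul, hf, smul_eq_mul, mul_ite, mul_one, mul_zero,
      Finset.sum_ite_eq', Finset.mem_univ, if_true] at h2
    rw [h2]
    split_ifs with h1 h3 <;> first | rfl | (exfalso; simp_all)

end Lin

/-- A representation containing the given one as a block. -/
structure BlockRep (k : Type u) [Field k] (A : Type u) [CommRing A] [HopfAlgebra k A] (ι : Type u)
    (m : ι → ι → A) where
  N : ℕ
  ρ : Rep k A N
  faithful : ρ.IsFaithful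
  e : ι → Fin N
  inj : Function.Injective e
  block : ∀ j i, ρ.mat (e j) (e i) = m j i
  zero_left : ∀ r, r ∉ Set.range e → ∀ i, ρ.mat r (e i) = 0
  zero_right : ∀ r, r ∉ Set.range e → ∀ i, ρ.mat (e i) r = 0

theorem exists_blockRep [DecidableEq ι] [Algebra.FiniteType k A] (m : ι → ι → A)
    (hmul : ∀ j i, CoalgebraStruct.comul (R := k) (m j i) = ∑ l, m j l ⊗ₜ[k] m l i)
    (hone : ∀ j i, CoalgebraStruct.counit (R := k) (m j i) = if j = i then (1 : k) else 0) :
    Nonempty (BlockRep k A ι m) := by
  classical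
  obtain ⟨r, g, hgmul, hgone, hgen⟩ := exists_generating_mat (k := k) (A := A)
  let M₀ : Matrix (Fin r ⊕ ι) (Fin r ⊕ ι) A := Matrix.fromBlocks (Matrix.of g) 0 0 (Matrix.of m)
  let E := Fintype.equivFin (Fin r ⊕ ι)
  let ρ : Rep k A (Fintype.card (Fin r ⊕ ι)) :=
    { mat := M₀.submatrix E.symm E.symm
      comul_mat := fun i j => by
        rw [Matrix.submatrix_apply, ← Equiv.sum_comp E (fun l => (M₀.submatrix E.symm E.symm) i l ⊗ₜ[k]
          (M₀.submatrix E.symm E.symm) l j)]
        simp only [Matrix.submatrix_apply, Equiv.symm_apply_apply, Fintype.sum_sum_type]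
        rcases E.symm i with a | a <;> rcases E.symm j with b | b <;> simp [M₀, hgmul, hmul]
      counit_mat := fun i j => by
        rw [Matrix.submatrix_apply]
        have : (i = j) ↔ (E.symm i = E.symm j) := E.symm.injective.eq_iff.symm
        simp only [this]
        rcases E.symm i with a | a <;> rcases E.symm j with b | b <;> simp [M₀, hgone, hone] }
  refine ⟨{ N := _, ρ := ρ, faithful := ?_, e := fun i => E (Sum.inr i),
            inj := E.injective.comp Sum.inr_injective, block := ?_, zero_left := ?_, zero_right := ?_ }⟩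
  · show _ = ⊤
    rw [eq_top_iff, ← hgen]
    refine Algebra.adjoin_mono ?_
    rintro _ ⟨⟨a, b⟩, rfl⟩
    exact ⟨(E (Sum.inl a), E (Sum.inl b)), by simp [ρ, M₀]⟩
  · intro j i
    simp [ρ, M₀]
  all_goals
    intro x hx i
    obtain ⟨y, rfl⟩ := E.surjective x
    rcases y with a | a
    · simp [ρ, M₀]
    · exact absurd ⟨a, rfl⟩ hx

namespace BlockRep

variable {m : ι → ι → A} (b : BlockRep k A ι m)

/-- A vector extended by zero. -/
def pad {B : Type v} [Zero B] (c : ι → B) : Fin b.N → B := Function.extend b.e c 0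

omit [Fintype ι] in
theorem pad_apply {B : Type v} [Zero B] (c : ι → B) (i : ι) : b.pad c (b.e i) = c i :=
  b.inj.extend_apply _ _ _

omit [Fintype ι] in
theorem pad_of_notMem {B : Type v} [Zero B] (c : ι → B) {r : Fin b.N} (hr : r ∉ Set.range b.e) :
    b.pad c r = 0 :=
  Function.extend_apply' _ _ _ hr

omit [Fintype ι] in
theorem map_pad {B : Type v} {C : Type w} [Zero B] [Zero C] {f : B → C} (hf : f 0 = 0) (c : ι → B) :
    f ∘ b.pad c = b.pad (f ∘ c) := by
  funext r
  by_cases hr : r ∈ Set.range b.e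
  · obtain ⟨i, rfl⟩ := hr
    simp [pad_apply]
  · simp [pad_of_notMem _ _ hr, hf]

theorem vecMul_apply {B : Type v} [CommRing B] (f : A →+* B) (c : Fin b.N → B) (i : ι) :
    Matrix.vecMul c (b.ρ.mat.map f) (b.e i) = ∑ j, c (b.e j) * f (m j i) := by
  classical
  rw [Matrix.vecMul]
  show ∑ r, c r * f (b.ρ.mat r (b.e i)) = _
  rw [← Finset.sum_subset (Finset.subset_univ (Finset.univ.image b.e)) (fun r _ hr => by
      rw [b.zero_left r (by simpa using hr), map_zero, mul_zero]),
    Finset.sum_image fun x _ y _ h => b.inj h]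
  exact Finset.sum_congr rfl fun j _ => by rw [b.block]

theorem vecMul_pad {B : Type v} [CommRing B] (f : A →+* B) (c : ι → B) :
    Matrix.vecMul (b.pad c) (b.ρ.mat.map f) = b.pad fun i => ∑ j, c j * f (m j i) := by
  funext r
  by_cases hr : r ∈ Set.range b.e
  · obtain ⟨i, rfl⟩ := hr
    rw [b.vecMul_apply, pad_apply]
    simp [pad_apply]
  · rw [pad_of_notMem _ _ hr]
    show ∑ x, b.pad c x * f (b.ρ.mat x r) = 0
    refine Finset.sum_eq_zero fun x _ => ?_
    by_cases hx : x ∈ Set.range b.e
    · obtain ⟨i, rfl⟩ := hx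
      rw [b.zero_right r hr, map_zero, mul_zero]
    · rw [pad_of_notMem _ _ hx, zero_mul]

end BlockRep

variable [Comod k A (MvPolynomial ι k)] [GLin.IsCoactAlg k A (MvPolynomial ι k)] (m : ι → ι → A)
  (hm : ∀ i, Comod.coact (k := k) (A := A) (MvPolynomial.X i : MvPolynomial ι k) =
      ∑ j, (MvPolynomial.X j : MvPolynomial ι k) ⊗ₜ[k] m j i)

include hm in
theorem orbitHom_X (v : ι → k) (i : ι) :
    GLin.orbitHom k A (GLin.vecPt k ι v) (MvPolynomial.X i) = ∑ j, algebraMap k A (v j) * m j i := by
  rw [GLinFinLib.orbitHom_apply, hm]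
  simp [Algebra.smul_def]

end HMLib
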