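import Groth.Agent.HMLib.OneParam

/-! # The Lie algebra of a linear algebraic group

The tangent vectors killing the invariant functions; a tangent vector with a non-zero eigenvalue gives a
diagonal one-parameter subgroup. -/

set_option autoImplicit false
set_option maxHeartbeats 1000000
set_option synthInstance.maxHeartbeats 400000

noncomputable section

open TensorProduct HopfRep CoordGrp TrivSqZeroExt Matrix
open LaurentPolynomial (T)
open scoped LaurentPolynomial

namespace HMLib

universe u v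

variable {k : Type u} [Field k] {N : ℕ}

theorem dat_add {B : Type v} [CommRing B] [Algebra k B] (ξ η : Matrix (Fin N) (Fin N) k) (y : GLn N k →ₐ[k] B) :
    dat (ξ + η) y = dat ξ y + dat η y := by
  refine IsDer.ext (isDer_dat _ _) (fun F G => ?_) fun i j => ?_
  · simp only [LinearMap.add_apply, isDer_dat _ y F G]
    ring
  · simp [dat_X, Matrix.mul_apply, Finset.sum_add_distrib, add_mul]

theorem dat_smul {B : Type v} [CommRing B] [Algebra k B] (c : k) (ξ : Matrix (Fin N) (Fin N) k)
    (y : GLn N k →ₐ[k] B) : dat (c • ξ) y = c • dat ξ y := by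
  refine IsDer.ext (isDer_dat _ _) (fun F G => ?_) fun i j => ?_
  · simp only [LinearMap.smul_apply, isDer_dat _ y F G, smul_add, mul_smul_comm]
  · rw [dat_X, LinearMap.smul_apply, dat_X, Matrix.mul_apply, Matrix.mul_apply, Finset.smul_sum]
    refine Finset.sum_congr rfl fun l _ => ?_
    rw [Matrix.map_apply, Matrix.map_apply, show (c • ξ) i l = c * ξ i l from rfl, map_mul, mul_assoc,
      ← Algebra.smul_def]

theorem dat_at (ξ : Matrix (Fin N) (Fin N) k) {B : Type u} [CommRing B] [Algebra k B] (y : GLn N k →ₐ[k] B)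
    (F : GLn N k) : y (dat ξ (AlgHom.id k (GLn N k)) F) = dat ξ y F := by
  rw [dat_natural, AlgHom.comp_id]

theorem dat_id_X (ξ : Matrix (Fin N) (Fin N) k) (i j : Fin N) :
    dat ξ (AlgHom.id k (GLn N k)) (GLn.X i j) = ∑ l, ξ i l • GLn.X l j := by
  rw [dat_X, Matrix.mul_apply]
  simp [Algebra.smul_def]

/-- The commutator of two directional derivatives. -/
theorem dat_comm (ξ η : Matrix (Fin N) (Fin N) k) (F : GLn N k) :
    dat ξ (AlgHom.id k (GLn N k)) (dat η (AlgHom.id k (GLn N k)) F) -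
      dat η (AlgHom.id k (GLn N k)) (dat ξ (AlgHom.id k (GLn N k)) F) =
      dat (η * ξ - ξ * η) (AlgHom.id k (GLn N k)) F := by
  let D : Matrix (Fin N) (Fin N) k → GLn N k →ₗ[k] GLn N k := fun a => dat a (AlgHom.id k (GLn N k))
  have hD : ∀ a F G, D a (F * G) = F * D a G + G * D a F := fun a => isDer_dat a _
  have h : (D ξ).comp (D η) - (D η).comp (D ξ) = D (η * ξ - ξ * η) := by
    refine IsDer.ext (y := AlgHom.id k (GLn N k)) (fun F G => ?_) (isDer_dat _ _) fun i j => ?_
    · simp only [LinearMap.sub_apply, LinearMap.comp_apply, hD, map_add, AlgHom.id_apply]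
      ring
    · have e : ∀ a b : Matrix (Fin N) (Fin N) k, D a (D b (GLn.X i j)) = D (b * a) (GLn.X i j) := fun a b => by
        simp only [D, dat_id_X, map_sum, map_smul, Finset.smul_sum, smul_smul, Matrix.mul_apply, Finset.sum_smul]
        exact Finset.sum_comm
      simp only [LinearMap.sub_apply, LinearMap.comp_apply, e]
      simp [D, dat_id_X, sub_smul, Finset.sum_sub_distrib]
  exact LinearMap.congr_fun h F

theorem adjoin_gl_eq_top {S : Subalgebra k (GLn N k)} (hX : ∀ i j, GLn.X i j ∈ S) (hD : GLn.Dinv ∈ S) :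
    S = ⊤ := by
  rw [eq_top_iff]
  rintro F -
  obtain ⟨p, rfl⟩ := (Ideal.Quotient.mk_surjective : Function.Surjective (GLn.mk N k)) F
  let q : MvPolynomial (GLPoly.Idx N) k := p
  show GLn.mk N k q ∈ S
  induction q using MvPolynomial.induction_on with
  | C r => exact (show GLn.mk N k (algebraMap k (GLb N k) r) ∈ S from by
      rw [AlgHom.commutes]; exact S.algebraMap_mem r)
  | add a b ha hb =>
    show GLn.mk N k ((show GLb N k from a) + (show GLb N k from b)) ∈ S
    rw [map_add]
    exact S.add_mem ha hb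
  | mul_X a s ha =>
    show GLn.mk N k ((show GLb N k from a) * (show GLb N k from MvPolynomial.X s)) ∈ S
    rw [map_mul]
    refine S.mul_mem ha ?_
    rcases s with ⟨i, j⟩ | u
    · exact hX i j
    · exact hD

theorem charpolyRev_eq_one {n : Matrix (Fin N) (Fin N) k} (hn : IsNilpotent n) : n.charpolyRev = 1 := by
  obtain ⟨r, -, hr⟩ := Polynomial.isUnit_iff.1 (Matrix.isUnit_charpolyRev_of_isNilpotent hn)
  have h := Matrix.eval_charpolyRev (M := n)
  rw [← hr, Polynomial.eval_C] at h
  rw [← hr, h, map_one]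

theorem det_pert {B : Type v} [CommRing B] [Algebra k B] {n : Matrix (Fin N) (Fin N) k} (hn : IsNilpotent n) :
    (pert (B := B) n).det = 1 := by
  let f : Polynomial k →ₐ[k] DualNumber B := Polynomial.aeval (-DualNumber.eps : DualNumber B)
  have h := congrArg f (charpolyRev_eq_one hn)
  rw [map_one, Matrix.charpolyRev, AlgHom.map_det] at h
  rw [← h]
  congr 1
  refine Matrix.ext fun i j => ?_
  simp only [AlgHom.mapMatrix_apply, Matrix.map_apply, Matrix.sub_apply, Matrix.smul_apply, map_sub, smul_eq_mul,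
    map_mul, f, Polynomial.aeval_X, Polynomial.aeval_C, pert, Matrix.of_apply]
  refine TrivSqZeroExt.ext ?_ ?_
  · by_cases h : i = j
    · subst h; simp [TrivSqZeroExt.algebraMap_eq_inl']
    · simp [Matrix.one_apply_ne h, TrivSqZeroExt.algebraMap_eq_inl']
  · by_cases h : i = j
    · subst h; simp [TrivSqZeroExt.algebraMap_eq_inl', Algebra.smul_def]
    · simp [Matrix.one_apply_ne h, TrivSqZeroExt.algebraMap_eq_inl', Algebra.smul_def]

theorem dat_det {n : Matrix (Fin N) (Fin N) k} (hn : IsNilpotent n) :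
    dat n (AlgHom.id k (GLn N k)) GLn.det = 0 := by
  show (dpt n (AlgHom.id k (GLn N k)) GLn.det).snd = 0
  rw [GLn.det_eq, AlgHom.map_det, show (dpt n (AlgHom.id k (GLn N k))).mapMatrix (GLn.genMat N k) =
    ptMat (dpt n (AlgHom.id k (GLn N k))) from rfl, dpt, ptMat_matPt, Matrix.det_mul, det_pert hn, one_mul,
    show ((ptMat (AlgHom.id k (GLn N k))).map (inlHom (GLn N k) (GLn N k))).det =
      inlHom (GLn N k) (GLn N k) (ptMat (AlgHom.id k (GLn N k))).det from (RingHom.map_det _ _).symm]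
  rfl

/-- The derivative along a nilpotent matrix is locally nilpotent. -/
theorem exists_pow_dat_eq_zero {n : Matrix (Fin N) (Fin N) k} (hn : IsNilpotent n) (F : GLn N k) :
    ∃ j, (⇑(dat n (AlgHom.id k (GLn N k))))^[j] F = 0 := by
  set D := dat n (AlgHom.id k (GLn N k)) with hDdef
  have hadd : ∀ j a b, (⇑D)^[j] (a + b) = (⇑D)^[j] a + (⇑D)^[j] b := fun j => by
    induction j with
    | zero => simp
    | succ j ih => intro a b; rw [Function.iterate_succ_apply, map_add, ih]; rfl
  have hz : ∀ j, (⇑D)^[j] (0 : GLn N k) = 0 := fun j => by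
    induction j with
    | zero => rfl
    | succ j ih => rw [Function.iterate_succ_apply, map_zero, ih]
  have hmono : ∀ {a : GLn N k} {i j : ℕ}, i ≤ j → (⇑D)^[i] a = 0 → (⇑D)^[j] a = 0 := by
    intro a i j hij h
    obtain ⟨d, rfl⟩ := Nat.exists_eq_add_of_le hij
    rw [add_comm, Function.iterate_add_apply, h, hz]
  have hmul : ∀ s a b : ℕ, a + b ≤ s → ∀ F G : GLn N k, (⇑D)^[a] F = 0 → (⇑D)^[b] G = 0 →
      (⇑D)^[a + b] (F * G) = 0 := by
    intro s
    induction s with
    | zero =>
      intro a b hab F G hF _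
      obtain ⟨rfl, rfl⟩ : a = 0 ∧ b = 0 := by omega
      simp only [Function.iterate_zero, id_eq] at hF
      simp [hF]
    | succ s ih =>
      intro a b hab F G hF hG
      rcases Nat.eq_zero_or_pos a with rfl | ha
      · rw [show F = 0 from hF, zero_mul, hz]
      rcases Nat.eq_zero_or_pos b with rfl | hb
      · rw [show G = 0 from hG, mul_zero, hz]
      obtain ⟨a, rfl⟩ : ∃ a', a = a' + 1 := ⟨a - 1, by omega⟩
      obtain ⟨b, rfl⟩ : ∃ b', b = b' + 1 := ⟨b - 1, by omega⟩
      rw [show a + 1 + (b + 1) = (a + 1 + b) + 1 by omega, Function.iterate_succ_apply]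
      rw [show D (F * G) = F * D G + G * D F from isDer_dat n _ F G, hadd]
      rw [ih (a + 1) b (by omega) F (D G) hF (by rw [← Function.iterate_succ_apply]; exact hG), zero_add,
        show a + 1 + b = (b + 1) + a by omega,
        ih (b + 1) a (by omega) G (D F) hG (by rw [← Function.iterate_succ_apply]; exact hF)]
  let S : Subalgebra k (GLn N k) :=
    { carrier := {F | ∃ j, (⇑D)^[j] F = 0}
      zero_mem' := ⟨0, rfl⟩
      one_mem' := ⟨1, (isDer_dat n (AlgHom.id k (GLn N k))).map_one⟩
      add_mem' := fun {a b} ⟨i, hi⟩ ⟨j, hj⟩ =>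
        ⟨i + j, by rw [hadd, hmono (by omega) hi, hmono (by omega) hj, add_zero]⟩
      mul_mem' := fun {a b} ⟨i, hi⟩ ⟨j, hj⟩ => ⟨i + j, hmul _ i j le_rfl a b hi hj⟩
      algebraMap_mem' := fun r => ⟨1, by
        show D (algebraMap k _ r) = 0
        rw [Algebra.algebraMap_eq_smul_one, map_smul, hDdef, (isDer_dat n _).map_one, smul_zero]⟩ }
  suffices hS : S = ⊤ from (show F ∈ S from hS ▸ Algebra.mem_top)
  refine adjoin_gl_eq_top (fun i j => ?_) ?_
  · obtain ⟨M, hM⟩ := hn
    have e : ∀ a, (⇑D)^[a] (GLn.X i j) = ∑ l, (n ^ a) i l • GLn.X l j := by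
      intro a
      induction a with
      | zero => simp [Matrix.one_apply]
      | succ a ih =>
        rw [Function.iterate_succ_apply', ih, map_sum]
        simp only [map_smul, hDdef, dat_id_X, Finset.smul_sum, smul_smul, pow_succ, Matrix.mul_apply, Finset.sum_smul]
        exact Finset.sum_comm
    exact ⟨M, by rw [e, hM]; simp⟩
  · refine ⟨1, ?_⟩
    show D GLn.Dinv = 0
    have h := isDer_dat n (AlgHom.id k (GLn N k)) GLn.det GLn.Dinv
    rw [GLn.det_mul_Dinv, (isDer_dat n (AlgHom.id k (GLn N k))).map_one, dat_det hn] at h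
    simp only [AlgHom.id_apply, mul_zero, add_zero] at h
    calc D GLn.Dinv = GLn.Dinv * (GLn.det * D GLn.Dinv) := by
          rw [← mul_assoc, mul_comm GLn.Dinv, GLn.det_mul_Dinv, one_mul]
      _ = 0 := by rw [← h, mul_zero]

/-- The pairing of eigenvalues with a weight. -/
def cpair (c : Fin N → k) (α : Fin N → ℤ) : k := ∑ i, (α i : k) * c i

theorem one_add_eps {B : Type v} [CommRing B] (a b : B) :
    (inl (1 : B) + inr (a + b) : DualNumber B) = (inl 1 + inr a) * (inl 1 + inr b) := by
  ext <;> simp [add_comm]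

theorem IsHom.dat_diag {α : Fin N → ℤ} {F : GLn N k} (h : IsHom α F) (c : Fin N → k) {B : Type v} [CommRing B]
    [Algebra k B] (y : GLn N k →ₐ[k] B) :
    dat (Matrix.diagonal c) y F = algebraMap k B (cpair c α) * y F := by
  let e : Multiplicative B →* DualNumber B :=
    { toFun := fun a => inl 1 + inr a.toAdd
      map_one' := by ext <;> simp
      map_mul' := fun a b => by rw [toAdd_mul]; exact one_add_eps _ _ }
  let t : Fin N → (DualNumber B)ˣ := fun i => e.toHomUnits (Multiplicative.ofAdd (algebraMap k B (c i)))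
  have hy : ∀ i j, dpt (Matrix.diagonal c) y (GLn.X i j) =
      (t i : DualNumber B) * ((TrivSqZeroExt.inlAlgHom k B B).comp y) (GLn.X i j) := fun i j => by
    rw [← ptMat_apply (dpt _ y), dpt, ptMat_matPt, show (pert (B := B) (Matrix.diagonal c)) =
      Matrix.diagonal (fun i => (t i : DualNumber B)) from Matrix.ext fun a b => by
        by_cases hab : a = b
        · subst hab; simp [pert, t, e, MonoidHom.coe_toHomUnits]
        · simp [pert, hab], Matrix.diagonal_mul]
    rfl
  show (dpt (Matrix.diagonal c) y F).snd = _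
  rw [h.apply t _ _ hy]
  have hprod : ((∏ i, t i ^ α i : (DualNumber B)ˣ) : DualNumber B) = inl 1 + inr (algebraMap k B (cpair c α)) := by
    have e1 : ∀ i, t i ^ α i = e.toHomUnits (Multiplicative.ofAdd (algebraMap k B ((α i : k) * c i))) := fun i => by
      rw [← map_zpow, ← ofAdd_zsmul, zsmul_eq_mul]
      congr 2
      rw [map_mul, map_intCast]
    rw [Finset.prod_congr rfl fun i _ => e1 i, ← map_prod, ← ofAdd_sum, ← map_sum, MonoidHom.coe_toHomUnits]
    rfl
  rw [hprod]
  simp [Algebra.smul_def, TrivSqZeroExt.algebraMap_eq_inl']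

namespace Rep

variable {A : Type u} [CommRing A] [HopfAlgebra k A] (ρ : Rep k A N)

/-- Tangent vectors of the group at the identity. -/
def InLie (ξ : Matrix (Fin N) (Fin N) k) : Prop := ∀ F ∈ ρ.inv, dat ξ (one : GLn N k →ₐ[k] k) F = 0

theorem InLie.add {ξ η : Matrix (Fin N) (Fin N) k} (h : ρ.InLie ξ) (h' : ρ.InLie η) : ρ.InLie (ξ + η) :=
  fun F hF => by rw [dat_add, LinearMap.add_apply, h F hF, h' F hF, add_zero]

theorem InLie.smul (c : k) {ξ : Matrix (Fin N) (Fin N) k} (h : ρ.InLie ξ) : ρ.InLie (c • ξ) :=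
  fun F hF => by rw [dat_smul, LinearMap.smul_apply, h F hF, smul_zero]

variable [IsAlgClosed k] [CharZero k] [Algebra.FiniteType k A]

theorem dat_mem (ξ : Matrix (Fin N) (Fin N) k) {F : GLn N k} (hF : F ∈ ρ.inv) :
    dat ξ (AlgHom.id k (GLn N k)) F ∈ ρ.inv := by
  refine mem_inv_of_points fun g => ?_
  rw [dat_at]
  show (dpt ξ (ρ.rtrans (AlgHom.id k (GLn N k)) ((Algebra.ofId k _).comp g)) F).snd =
    (dpt ξ (AlgHom.id k (GLn N k)) F).snd
  congr 1
  refine ρ.inv_eq_of_mat hF ((Algebra.ofId k (DualNumber (GLn N k))).comp g) ?_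
  rw [dpt, ptMat_matPt, dpt, ptMat_matPt, ptMat_rtrans, Matrix.map_mul, Matrix.mul_assoc]
  congr 2

theorem InLie.bracket {ξ η : Matrix (Fin N) (Fin N) k} (h : ρ.InLie ξ) (h' : ρ.InLie η) :
    ρ.InLie (η * ξ - ξ * η) := fun F hF => by
  rw [← dat_at, ← dat_comm, map_sub, dat_at, dat_at, h _ (ρ.dat_mem η hF), h' _ (ρ.dat_mem ξ hF), sub_zero]

theorem InLie.conj {ξ : Matrix (Fin N) (Fin N) k} (h : ρ.InLie ξ) (g : A →ₐ[k] k) :
    ρ.InLie (ρ.pmat g * ξ * (ρ.pmat g)⁻¹) := fun F hF => by
  have h1 := h _ (ρ.ltrans_mem hF _ (ρ.isUnit_det_pmat g))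
  rw [dat_ltrans] at h1
  rw [← dat_congr hF _ g ?_]
  · exact h1
  · rw [ptMat_ltrans, ptMat_one, Algebra.algebraMap_self, RingHom.coe_id, Matrix.map_id, Matrix.mul_one,
      Matrix.one_mul]

omit [CharZero k] [Algebra.FiniteType k A] in
/-- A semisimple plus nilpotent normal form. -/
theorem exists_normal_form [PerfectField k] (ξ : Matrix (Fin N) (Fin N) k) :
    ∃ (P : Matrix (Fin N) (Fin N) k) (c : Fin N → k) (n : Matrix (Fin N) (Fin N) k), IsUnit P.det ∧
      P * ξ = (Matrix.diagonal c + n) * P ∧ IsNilpotent n ∧ n * Matrix.diagonal c = Matrix.diagonal c * n := by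
  classical
  let f := Matrix.toLin' ξ
  obtain ⟨nn, hnn, ss, hss, hnil, hsemi, hsum⟩ := Module.End.exists_isNilpotent_isSemisimple (K := k) (f := f)
  have hcomm : Commute nn ss := (Algebra.commute_of_mem_adjoin_singleton_of_commute hnn
    (Algebra.commute_of_mem_adjoin_self hss).symm).symm
  let s : Set (Fin N → k) := {v | ∃ μ : k, v ∈ Module.End.eigenspace ss μ}
  have hs : ⊤ ≤ Submodule.span k s := by
    rw [← hsemi.iSup_eigenspace_eq_top]
    exact iSup_le fun μ v hv => Submodule.subset_span ⟨μ, hv⟩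
  let b0 := Module.Basis.ofSpan hs
  haveI := Module.Basis.finite_index_of_rank_lt_aleph0 b0 (by
    rw [← Module.finrank_eq_rank]; exact Cardinal.natCast_lt_aleph0)
  letI := Fintype.ofFinite ((linearIndepOn_empty k id).extend (Set.empty_subset s))
  let b : Module.Basis (Fin N) k (Fin N → k) := b0.reindex (Fintype.equivFinOfCardEq (by
    rw [← Module.finrank_eq_card_basis b0, Module.finrank_fin_fun]))
  have hb : ∀ i, ∃ μ, b i ∈ Module.End.eigenspace ss μ := fun i => by
    have : b i ∈ s := Module.Basis.ofSpan_subset hs ⟨_, (b0.reindex_apply _ i).symm⟩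
    exact this
  choose c hc using hb
  let Φ := LinearMap.toMatrixAlgEquiv b
  let P := LinearMap.toMatrix (Pi.basisFun k (Fin N)) b LinearMap.id
  refine ⟨P, c, Φ nn, ?_, ?_, hnil.map Φ, ?_⟩
  · refine IsUnit.of_mul_eq_one (LinearMap.toMatrix b (Pi.basisFun k (Fin N)) LinearMap.id).det ?_
    rw [← Matrix.det_mul, ← LinearMap.toMatrix_comp, LinearMap.id_comp, LinearMap.toMatrix_id, Matrix.det_one]
  · have hd : Φ ss = Matrix.diagonal c := by
      refine Matrix.ext fun i j => ?_
      show LinearMap.toMatrixAlgEquiv b ss i j = _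
      rw [LinearMap.toMatrixAlgEquiv_apply, Module.End.mem_eigenspace_iff.1 (hc j), map_smul,
        Module.Basis.repr_self, Finsupp.smul_apply, Finsupp.single_apply, Matrix.diagonal_apply]
      by_cases h : i = j
      · subst h; simp
      · simp [h, Ne.symm h]
    rw [← hd, add_comm, ← map_add, ← hsum]
    have h1 : LinearMap.toMatrix (Pi.basisFun k (Fin N)) b f = P * ξ := by
      rw [show f = LinearMap.id.comp f from rfl, LinearMap.toMatrix_comp _ (Pi.basisFun k (Fin N)),
        LinearMap.toMatrix_eq_toMatrix', LinearMap.toMatrix'_toLin']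
    have h2 : LinearMap.toMatrix (Pi.basisFun k (Fin N)) b f = Φ f * P := by
      rw [show f = f.comp LinearMap.id from rfl, LinearMap.toMatrix_comp _ b]
      rfl
    rw [← h1, h2]
  · have hd : Φ ss = Matrix.diagonal c := by
      refine Matrix.ext fun i j => ?_
      show LinearMap.toMatrixAlgEquiv b ss i j = _
      rw [LinearMap.toMatrixAlgEquiv_apply, Module.End.mem_eigenspace_iff.1 (hc j), map_smul,
        Module.Basis.repr_self, Finsupp.smul_apply, Finsupp.single_apply, Matrix.diagonal_apply]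
      by_cases h : i = j
      · subst h; simp
      · simp [h, Ne.symm h]
    rw [← hd, ← map_mul, ← map_mul, hcomm.eq]

/-- A tangent vector with a non-zero eigenvalue gives a non-trivial one-parameter subgroup. -/
theorem exists_lam_of_not_isNilpotent (hG : IsLinearlyReductive k A) (hρ : ρ.IsFaithful)
    {ξ : Matrix (Fin N) (Fin N) k} (h : ρ.InLie ξ) (hξ : ¬ IsNilpotent ξ) :
    ∃ lam : A →ₐc[k] k[T;T⁻¹], ρ.mat.map lam ≠ 1 := by
  classical
  obtain ⟨P, c, n, hP, hPξ, hn, hcomm⟩ := exists_normal_form (N := N) ξ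
  let p : GLn N k →ₐ[k] k := matPt P hP
  have hconj : P * ξ * P⁻¹ = Matrix.diagonal c + n := by
    rw [hPξ, Matrix.mul_nonsing_inv_cancel_right _ _ hP]
  have hc : c ≠ 0 := by
    rintro rfl
    refine hξ ?_
    obtain ⟨M, hM⟩ := hn
    refine ⟨M, ?_⟩
    have hsc : SemiconjBy P ξ n := by
      show P * ξ = n * P
      rw [hPξ]
      simp
    have h2 := hsc.pow_right M
    rw [hM, SemiconjBy, zero_mul] at h2
    calc ξ ^ M = P⁻¹ * (P * ξ ^ M) := (Matrix.nonsing_inv_mul_cancel_left _ _ hP).symm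
      _ = 0 := by rw [h2, Matrix.mul_zero]
  have hD0 : ∀ F ∈ ρ.inv, dat (Matrix.diagonal c + n) p F = 0 := fun F hF => by
    have h1 := h _ (ρ.ltrans_mem hF P hP)
    rw [dat_ltrans, hconj] at h1
    rwa [show (one : GLn N k →ₐ[k] k).comp (ltrans P hP) = p from pt_ext (by
      rw [ptMat_ltrans, ptMat_one, Algebra.algebraMap_self, RingHom.coe_id, Matrix.map_id, Matrix.mul_one,
        ptMat_matPt])] at h1
  set Dn := dat n (AlgHom.id k (GLn N k)) with hDn
  have hzero : ∀ α, cpair c α ≠ 0 → ∀ F ∈ ρ.inv, IsHom α F → p F = 0 := by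
    intro α hα F hF hF'
    set lc := cpair c α
    have hit : ∀ j, (⇑Dn)^[j] F ∈ ρ.inv ∧
        dat (Matrix.diagonal c) (AlgHom.id k (GLn N k)) ((⇑Dn)^[j] F) = lc • (⇑Dn)^[j] F := by
      intro j
      induction j with
      | zero => exact ⟨hF, by rw [Function.iterate_zero, id_eq, hF'.dat_diag, Algebra.smul_def]; rfl⟩
      | succ j ih =>
        rw [Function.iterate_succ_apply']
        refine ⟨ρ.dat_mem n ih.1, ?_⟩
        have h1 := dat_comm (Matrix.diagonal c) n ((⇑Dn)^[j] F)
        have hz : ∀ G : GLn N k, dat (0 : Matrix (Fin N) (Fin N) k) (AlgHom.id k (GLn N k)) G = 0 := fun G => by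
          rw [show (0 : Matrix (Fin N) (Fin N) k) = (0 : k) • 0 from (smul_zero _).symm, dat_smul]
          simp
        rw [hcomm, sub_self, hz, sub_eq_zero] at h1
        rw [h1, ih.2, map_smul]
    have hval : ∀ j, p ((⇑Dn)^[j] F) = (-lc) ^ j * p F := by
      intro j
      induction j with
      | zero => simp
      | succ j ih =>
        have h1 := hD0 _ (hit j).1
        rw [dat_add, LinearMap.add_apply, ← dat_at (Matrix.diagonal c), (hit j).2, map_smul, smul_eq_mul,
          ← dat_at n, ← hDn, ← Function.iterate_succ_apply' Dn, ih] at h1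
        rw [pow_succ]
        linear_combination h1
    obtain ⟨j, hj⟩ := exists_pow_dat_eq_zero hn F
    have h2 := hval j
    rw [← hDn] at hj
    rw [hj, map_zero] at h2
    exact (mul_eq_zero.1 h2.symm).resolve_left (pow_ne_zero _ (neg_ne_zero.2 hα))
  -- an integral vector orthogonal to the weights not vanishing at `p`
  let R : Set (Fin N → ℤ) := {α | ∃ F ∈ ρ.inv, IsHom α F ∧ p F ≠ 0}
  have hR : ∀ α ∈ R, cpair c α = 0 := fun α ⟨F, hF, hF', hne⟩ => by
    by_contra h0
    exact hne (hzero α h0 F hF hF')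
  let castQ : (Fin N → ℤ) → (Fin N → ℚ) := fun α i => (α i : ℚ)
  let L : (Fin N → ℚ) →ₗ[ℚ] k := Fintype.linearCombination ℚ c
  have hL : Submodule.span ℚ (castQ '' R) ≤ LinearMap.ker L := by
    refine Submodule.span_le.2 ?_
    rintro _ ⟨α, hα, rfl⟩
    show L (castQ α) = 0
    rw [← hR α hα]
    simp [L, castQ, cpair, Fintype.linearCombination_apply, Algebra.smul_def]
  have hlt : Submodule.span ℚ (castQ '' R) < ⊤ := lt_of_le_of_lt hL (lt_top_iff_ne_top.2 fun h0 => hc (funext fun i => by
    have h1 : L (Pi.single i 1) = 0 := LinearMap.mem_ker.1 (h0 ▸ Submodule.mem_top)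
    simpa [L, Fintype.linearCombination_apply, Pi.single_apply, Algebra.smul_def, apply_ite] using h1))
  obtain ⟨f, hf, hfR⟩ := Submodule.exists_dual_map_eq_bot_of_lt_top hlt inferInstance
  obtain ⟨D, hD, hm⟩ : ∃ D : ℕ, 0 < D ∧ ∀ i : Fin N, ∃ z : ℤ, (z : ℚ) = D * f (Pi.single i 1) := by
    refine ⟨∏ i, (f (Pi.single i 1)).den, Finset.prod_pos fun i _ => (f (Pi.single i 1)).pos, fun i => ?_⟩
    refine ⟨(∏ l ∈ Finset.univ.erase i, ((f (Pi.single l 1)).den : ℤ)) * (f (Pi.single i 1)).num, ?_⟩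
    rw [← Finset.prod_erase_mul Finset.univ _ (Finset.mem_univ i)]
    push_cast
    rw [mul_assoc, mul_comm ((f (Pi.single i 1)).den : ℚ), Rat.mul_den_eq_num]
  choose m hm using hm
  have hexp : ∀ x : Fin N → ℚ, f x = ∑ i, x i * f (Pi.single i 1) := fun x => by
    conv_lhs => rw [show x = ∑ i, x i • Pi.single i (1 : ℚ) from by funext l; simp [Finset.sum_apply, Pi.single_apply]]
    simp [map_sum]
  have hmR : ∀ α ∈ R, pair m α = 0 := fun α hα => by
    have h0 : f (castQ α) = 0 := by
      have : f (castQ α) ∈ Submodule.map f (Submodule.span ℚ (castQ '' R)) :=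
        Submodule.mem_map_of_mem (Submodule.subset_span ⟨α, hα, rfl⟩)
      rwa [hfR, Submodule.mem_bot] at this
    have h1 : ((pair m α : ℤ) : ℚ) = D * f (castQ α) := by
      rw [hexp, Finset.mul_sum, pair, Int.cast_sum]
      refine Finset.sum_congr rfl fun i _ => ?_
      rw [Int.cast_mul, hm]
      simp only [castQ]
      ring
    rw [h0, mul_zero] at h1
    exact_mod_cast h1
  have hm0 : m ≠ 0 := by
    intro h0
    refine hf (LinearMap.ext fun x => ?_)
    rw [hexp, LinearMap.zero_apply]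
    refine Finset.sum_eq_zero fun i _ => ?_
    have := hm i
    rw [h0, Pi.zero_apply, Int.cast_zero] at this
    rw [(mul_eq_zero.1 this.symm).resolve_left (by exact_mod_cast hD.ne'), mul_zero]
  have hfix : ∀ F ∈ ρ.inv, lau m p F = algebraMap k _ (p F) := by
    intro F hF
    conv_lhs => rw [sum_wcomp F]
    conv_rhs => rw [sum_wcomp F]
    rw [map_sum, map_sum, map_sum]
    refine Finset.sum_congr rfl fun α _ => ?_
    rw [(isHom_wcomp F α).lau m p]
    by_cases h0 : p ((wgrade k N F).coeff α) = 0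
    · rw [h0, map_zero, zero_mul]
    · rw [hmR α ⟨_, wcomp_mem hF α, isHom_wcomp F α, h0⟩, LaurentPolynomial.T_zero, mul_one]
  obtain ⟨lam, hlam⟩ := exists_lam hG hρ m p hfix
  refine ⟨lam, fun h1 => hm0 ?_⟩
  rw [h1, show ptMat p = P from ptMat_matPt _ _] at hlam
  have h2 : diagT (k := k) m = 1 := by
    have e1 : P.map (algebraMap k k[T;T⁻¹]) * P⁻¹.map (algebraMap k k[T;T⁻¹]) = 1 := by
      rw [← Matrix.map_mul, Matrix.mul_nonsing_inv _ hP, Matrix.map_one _ (map_zero _) (map_one _)]
    calc diagT (k := k) m = P.map (algebraMap k k[T;T⁻¹]) *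
          (P⁻¹.map (algebraMap k k[T;T⁻¹]) * diagT m * P.map (algebraMap k k[T;T⁻¹])) *
          P⁻¹.map (algebraMap k k[T;T⁻¹]) := by
            simp only [← Matrix.mul_assoc, e1, Matrix.one_mul]
            rw [Matrix.mul_assoc, e1, Matrix.mul_one]
      _ = 1 := by rw [← hlam, Matrix.mul_one, e1]
  funext i
  have h3 := congrArg (fun M => cf (m i) (M i i)) h2
  simp only [diagT, Matrix.diagonal_apply_eq, Matrix.one_apply_eq, cf_T, if_true] at h3
  rw [← map_one (algebraMap k k[T;T⁻¹]), cf_algebraMap] at h3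
  by_contra hi
  have hi' : m i ≠ 0 := hi
  rw [if_neg hi'] at h3
  exact one_ne_zero h3

end Rep

end HMLib
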