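import Mathlib

/-! # Integral functionals with prescribed signs and residue maps -/

set_option autoImplicit false

noncomputable section

namespace HMLib

universe u v

/-- Gordan's alternative. -/
theorem gordan {σ : Type*} (s : Finset σ) : ∀ (V : Type) [AddCommGroup V] [Module ℚ V] (p : σ → V),
    (∀ c : σ → ℚ, (∀ a ∈ s, 0 ≤ c a) → ∑ a ∈ s, c a • p a = 0 → ∀ a ∈ s, c a = 0) →
      ∃ f : V →ₗ[ℚ] ℚ, ∀ a ∈ s, 0 < f (p a) := by
  classical
  induction s using Finset.induction_on with
  | empty => exact fun V _ _ p _ => ⟨0, by simp⟩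
  | insert b s hb ih =>
    intro V _ _ p h
    have hs : ∀ c : σ → ℚ, (∀ a ∈ s, 0 ≤ c a) → ∑ a ∈ s, c a • p a = 0 → ∀ a ∈ s, c a = 0 := by
      intro c hc h0 a ha
      have h1 := h (Function.update c b 0) (fun a ha => by
        rcases Finset.mem_insert.1 ha with rfl | ha
        · simp
        · rw [Function.update_of_ne (ne_of_mem_of_not_mem ha hb)]; exact hc a ha) (by
        rw [Finset.sum_insert hb, Function.update_self, zero_smul, zero_add, ← h0]
        exact Finset.sum_congr rfl fun a ha => by rw [Function.update_of_ne (ne_of_mem_of_not_mem ha hb)])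
        a (Finset.mem_insert_of_mem ha)
      rwa [Function.update_of_ne (ne_of_mem_of_not_mem ha hb)] at h1
    obtain ⟨f, hf⟩ := ih V p hs
    rcases lt_or_ge 0 (f (p b)) with hfb | hfb
    · exact ⟨f, fun a ha => by
        rcases Finset.mem_insert.1 ha with rfl | ha
        · exact hfb
        · exact hf a ha⟩
    have hpb : p b ≠ 0 := fun h0 => by
      have h1 := h (Function.update 0 b 1) (fun a ha => by
        rcases Finset.mem_insert.1 ha with rfl | ha
        · simp
        · rw [Function.update_of_ne (ne_of_mem_of_not_mem ha hb)]; exact le_rfl) (by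
        rw [Finset.sum_insert hb, Function.update_self, h0, smul_zero, zero_add]
        exact Finset.sum_eq_zero fun a ha => by simp [Function.update_of_ne (ne_of_mem_of_not_mem ha hb)])
        b (Finset.mem_insert_self _ _)
      simp at h1
    let Q := V ⧸ Submodule.span ℚ {p b}
    obtain ⟨g, hg⟩ := ih Q (fun a => Submodule.Quotient.mk (p a)) (fun c hc h0 => by
      have h1 : ∑ a ∈ s, c a • p a ∈ Submodule.span ℚ {p b} := by
        rw [← Submodule.Quotient.mk_eq_zero, ← h0]
        simp only [← Submodule.mkQ_apply, map_sum, map_smul]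
      obtain ⟨t, ht⟩ := Submodule.mem_span_singleton.1 h1
      rcases le_or_gt t 0 with htn | htp
      · intro a ha
        have h2 := h (Function.update c b (-t)) (fun a ha => by
          rcases Finset.mem_insert.1 ha with rfl | ha
          · simpa using htn
          · rw [Function.update_of_ne (ne_of_mem_of_not_mem ha hb)]; exact hc a ha) (by
          rw [Finset.sum_insert hb, Function.update_self,
            Finset.sum_congr rfl fun a ha => by rw [Function.update_of_ne (ne_of_mem_of_not_mem ha hb)], ← ht,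
            neg_smul, neg_add_cancel]) a (Finset.mem_insert_of_mem ha)
        rwa [Function.update_of_ne (ne_of_mem_of_not_mem ha hb)] at h2
      · have h3 := congrArg f ht
        simp only [map_smul, map_sum, smul_eq_mul] at h3
        have h4 : ∑ a ∈ s, c a * f (p a) = 0 :=
          le_antisymm (h3 ▸ mul_nonpos_of_nonneg_of_nonpos htp.le hfb)
            (Finset.sum_nonneg fun a ha => mul_nonneg (hc a ha) (hf a ha).le)
        intro a ha
        have := (Finset.sum_eq_zero_iff_of_nonneg fun a ha => mul_nonneg (hc a ha) (hf a ha).le).1 h4 a ha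
        exact (mul_eq_zero.1 this).resolve_right (hf a ha).ne')
    obtain ⟨h', hh⟩ := LinearMap.exists_leftInverse_of_injective (LinearMap.toSpanSingleton ℚ V (p b))
      (LinearMap.ker_eq_bot'.2 fun t ht => (smul_eq_zero.1 ht).resolve_right hpb)
    have hh' : h' (p b) = 1 := by simpa using LinearMap.congr_fun hh 1
    let g' : V →ₗ[ℚ] ℚ := g.comp (Submodule.span ℚ {p b}).mkQ
    let M : ℚ := 1 + ∑ a ∈ s, |h' (p a)| / g' (p a)
    refine ⟨M • g' + h', fun a ha => ?_⟩
    rcases Finset.mem_insert.1 ha with rfl | ha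
    · have : g' (p a) = 0 := by
        show g (Submodule.Quotient.mk (p a)) = 0
        have hz : (Submodule.Quotient.mk (p a) : Q) = 0 :=
          (Submodule.Quotient.mk_eq_zero _).2 (Submodule.mem_span_singleton_self _)
        exact (congrArg g hz).trans (map_zero g)
      simp [this, hh']
    · have hga : 0 < g' (p a) := hg a ha
      have hM : |h' (p a)| / g' (p a) < M := by
        have := Finset.single_le_sum (f := fun a => |h' (p a)| / g' (p a))
          (fun b hb => div_nonneg (abs_nonneg _) (hg b hb).le) ha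
        simp only [M] at this ⊢
        linarith
      rw [div_lt_iff₀ hga] at hM
      simp only [LinearMap.add_apply, LinearMap.smul_apply, smul_eq_mul]
      linarith [neg_abs_le (h' (p a))]

variable {N : ℕ} {Λ : Type v} [CommGroup Λ] [LinearOrder Λ] [IsOrderedMonoid Λ]

/-- Clearing denominators. -/
theorem exists_den {σ : Type*} (s : Finset σ) (b : σ → ℚ) :
    ∃ D : ℕ, 0 < D ∧ ∀ a ∈ s, ∃ n : ℤ, (n : ℚ) = D * b a := by
  classical
  refine ⟨∏ a ∈ s, (b a).den, Finset.prod_pos fun a _ => (b a).pos, fun a ha => ?_⟩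
  refine ⟨(∏ c ∈ s.erase a, ((b c).den : ℤ)) * (b a).num, ?_⟩
  rw [← Finset.prod_erase_mul s _ ha]
  push_cast
  rw [mul_assoc, mul_comm ((b a).den : ℚ), Rat.mul_den_eq_num]

/-- An integral functional with the signs of a finite set of values of an ordered character. -/
theorem exists_int_functional (d : Fin N → Λ) (S : Finset (Fin N → ℤ)) :
    ∃ m : Fin N → ℤ, ∀ α ∈ S,
      ((∏ i, d i ^ α i) < 1 → 0 < ∑ i, m i * α i) ∧ ((∏ i, d i ^ α i) = 1 → ∑ i, m i * α i = 0) ∧
        (1 < (∏ i, d i ^ α i) → ∑ i, m i * α i < 0) := by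
  classical
  let χ : (Fin N → ℤ) → Λ := fun α => ∏ i, d i ^ α i
  let cast : (Fin N → ℤ) →+ (Fin N → ℚ) :=
    { toFun := fun α i => (α i : ℚ)
      map_zero' := by funext i; simp
      map_add' := fun a b => by funext i; simp }
  let S₀ := S.filter fun α => χ α = 1
  let S₁ := S.filter fun α => χ α ≠ 1
  let Z : Submodule ℚ (Fin N → ℚ) := Submodule.span ℚ (cast '' (S₀ : Set (Fin N → ℤ)))
  let sgn : (Fin N → ℤ) → ℚ := fun α => if χ α < 1 then 1 else -1
  obtain ⟨f, hf⟩ := gordan S₁ ((Fin N → ℚ) ⧸ Z) (fun α => Submodule.Quotient.mk (sgn α • cast α)) (fun c hc h0 => by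
    have h1 : ∑ α ∈ S₁, c α • sgn α • cast α ∈ Z := by
      rw [← Submodule.Quotient.mk_eq_zero, ← h0]
      simp only [← Submodule.mkQ_apply, map_sum, map_smul]
    have h1' : ∑ α ∈ S₁, c α • sgn α • cast α ∈ Submodule.span ℚ ((S₀.image cast : Finset (Fin N → ℚ)) : Set (Fin N → ℚ)) := by
      rw [Finset.coe_image]; exact h1
    obtain ⟨e, he⟩ := (Finsupp.mem_span_image_iff_linearCombination ℚ).1 h1
    let b : (Fin N → ℤ) → ℚ := fun α => if χ α = 1 then -e α else c α * sgn α
    obtain ⟨D, hD, hn⟩ := exists_den S b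
    choose! n hn using hn
    have hsum : ∑ α ∈ S, n α • α = 0 := by
      have hinj : Function.Injective cast := fun x y h => funext fun i => Int.cast_injective (congrFun h i)
      apply hinj
      rw [map_zero, map_sum]
      have e1 : ∀ α ∈ S, cast (n α • α) = (D : ℚ) • (b α • cast α) := fun α hα => by
        rw [smul_smul, ← hn α hα, map_zsmul]
        funext i
        simp
      rw [Finset.sum_congr rfl e1, ← Finset.smul_sum, ← Finset.sum_filter_add_sum_filter_not S (fun α => χ α = 1),
        Finset.sum_congr rfl (g := fun α => -(e α • cast α)) (fun α hα => by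
          simp [b, (Finset.mem_filter.1 hα).2]),
        Finset.sum_congr rfl (g := fun α => c α • sgn α • cast α) (s₁ := S.filter fun α => ¬ χ α = 1) (fun α hα => by
          simp [b, (Finset.mem_filter.1 hα).2, mul_smul])]
      have he' : ∑ α ∈ S.filter (fun α => χ α = 1), e α • cast α = ∑ α ∈ S₁, c α • sgn α • cast α := by
        rw [← he.2, Finsupp.linearCombination_apply]
        exact (Finsupp.sum_of_support_subset e he.1 (fun i a => a • cast i) (fun i _ => zero_smul ℚ (cast i))).symm
      rw [Finset.sum_neg_distrib, he', neg_add_cancel, smul_zero]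
    have hprod : ∏ α ∈ S, χ α ^ n α = 1 := by
      have : χ (∑ α ∈ S, n α • α) = ∏ α ∈ S, χ α ^ n α := by
        simp only [χ, Finset.sum_apply, Pi.smul_apply, smul_eq_mul, ← Finset.prod_zpow]
        rw [Finset.prod_comm]
        refine Finset.prod_congr rfl fun i _ => ?_
        have hz : ∀ (T : Finset (Fin N → ℤ)) (f : (Fin N → ℤ) → ℤ), ∏ a ∈ T, d i ^ f a = d i ^ ∑ a ∈ T, f a := by
          intro T f
          induction T using Finset.induction_on with
          | empty => simp
          | insert a T ha ih => rw [Finset.prod_insert ha, Finset.sum_insert ha, ih, zpow_add]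
        simp only [← zpow_mul]
        rw [hz]
        exact congrArg _ (Finset.sum_congr rfl fun a _ => mul_comm _ _)
      rw [← this, hsum]
      simp [χ]
    have hle : ∀ α ∈ S, χ α ^ n α ≤ 1 := fun α hα => by
      by_cases h1 : χ α = 1
      · rw [h1, one_zpow]
      have hcα := hc α (Finset.mem_filter.2 ⟨hα, h1⟩)
      have hb : b α = c α * sgn α := if_neg h1
      rcases lt_or_gt_of_ne h1 with hlt | hgt
      · have : 0 ≤ n α := by
          have : (0 : ℚ) ≤ n α := by rw [hn α hα, hb]; simp only [sgn, if_pos hlt, mul_one]; positivity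
          exact_mod_cast this
        lift n α to ℕ using this with q
        rw [zpow_natCast]
        exact pow_le_one' hlt.le q
      · have : n α ≤ 0 := by
          have : (n α : ℚ) ≤ 0 := by
            rw [hn α hα, hb]
            simp only [sgn, if_neg (not_lt.2 hgt.le)]
            nlinarith [(by positivity : (0 : ℚ) ≤ D * c α)]
          exact_mod_cast this
        obtain ⟨q, hq⟩ := Int.exists_eq_neg_ofNat this
        rw [hq, zpow_neg, zpow_natCast]
        exact inv_le_one'.2 (one_le_pow_of_one_le' hgt.le q)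
    intro α hα
    obtain ⟨hαS, h1⟩ := Finset.mem_filter.1 hα
    have h2 : χ α ^ n α = 1 := (Finset.prod_eq_one_iff_of_le_one' hle).1 hprod α hαS
    have h3 : n α = 0 := by
      rcases lt_trichotomy (n α) 0 with h | h | h
      · obtain ⟨q, hq⟩ := Int.exists_eq_neg_ofNat h.le
        rw [hq, zpow_neg, zpow_natCast, inv_eq_one, pow_eq_one_iff_left (by omega)] at h2
        exact absurd h2 h1
      · exact h
      · lift n α to ℕ using h.le with q
        rw [zpow_natCast, pow_eq_one_iff_left (by omega)] at h2
        exact absurd h2 h1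
    have h4 : (D : ℚ) * b α = 0 := by rw [← hn α hαS, h3, Int.cast_zero]
    have h5 : b α = 0 := (mul_eq_zero.1 h4).resolve_left (by exact_mod_cast hD.ne')
    simp only [b, if_neg h1, mul_eq_zero] at h5
    refine h5.resolve_right ?_
    simp only [sgn]
    split_ifs <;> norm_num)
  obtain ⟨D, hD, hm⟩ := exists_den (Finset.univ : Finset (Fin N)) fun i => f (Submodule.Quotient.mk (Pi.single i 1))
  choose! m hm using hm
  have hpair : ∀ α : Fin N → ℤ, ((∑ i, m i * α i : ℤ) : ℚ) = D * f (Submodule.Quotient.mk (cast α)) := by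
    intro α
    have e : cast α = ∑ i, (α i : ℚ) • Pi.single i (1 : ℚ) := by
      funext j
      simp [cast, Finset.sum_apply, Pi.single_apply]
    rw [e, ← Submodule.mkQ_apply, map_sum, map_sum, Finset.mul_sum, Int.cast_sum]
    refine Finset.sum_congr rfl fun i _ => ?_
    rw [Int.cast_mul, hm i (Finset.mem_univ i), map_smul, map_smul, smul_eq_mul, Submodule.mkQ_apply]
    ring
  have hD' : (0 : ℚ) < D := by exact_mod_cast hD
  refine ⟨m, fun α hα => ⟨fun h => ?_, fun h => ?_, fun h => ?_⟩⟩
  · have h1 := hf α (Finset.mem_filter.2 ⟨hα, h.ne⟩)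
    simp only [sgn, if_pos (show χ α < 1 from h), one_smul] at h1
    have : (0 : ℚ) < ((∑ i, m i * α i : ℤ) : ℚ) := by rw [hpair]; positivity
    exact_mod_cast this
  · have : ((∑ i, m i * α i : ℤ) : ℚ) = 0 := by
      have hz : cast α ∈ Z := Submodule.subset_span
        ⟨α, Finset.mem_coe.2 (Finset.mem_filter.2 ⟨hα, h⟩), rfl⟩
      rw [hpair, (Submodule.Quotient.mk_eq_zero _).2 hz, map_zero, mul_zero]
    exact_mod_cast this
  · have h1 := hf α (Finset.mem_filter.2 ⟨hα, h.ne'⟩)
    simp only [sgn, if_neg (not_lt.2 (show 1 < χ α from h).le), neg_smul, one_smul] at h1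
    rw [← Submodule.mkQ_apply, map_neg, map_neg, neg_pos, Submodule.mkQ_apply] at h1
    have : ((∑ i, m i * α i : ℤ) : ℚ) < 0 := by rw [hpair]; exact mul_neg_of_pos_of_neg hD' h1
    exact_mod_cast this

/-- A character of the kernel of an ordered character extends. -/
theorem exists_extend {G : Type u} [CommGroup G] (d : Fin N → Λ) (c : (Fin N → ℤ) → G)
    (hc : ∀ α β, (∏ i, d i ^ α i) = 1 → (∏ i, d i ^ β i) = 1 → c (α + β) = c α * c β) :
    ∃ s : Fin N → G, ∀ α, (∏ i, d i ^ α i) = 1 → (∏ i, s i ^ α i) = c α := by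
  classical
  let χ : (Fin N → ℤ) →ₗ[ℤ] Additive Λ := Fintype.linearCombination ℤ fun i => Additive.ofMul (d i)
  have hχ : ∀ α, Additive.toMul (χ α) = ∏ i, d i ^ α i := fun α => by
    simp [χ, Fintype.linearCombination_apply, toMul_sum, toMul_zsmul]
  let K := LinearMap.ker χ
  have hK : ∀ α, α ∈ K ↔ (∏ i, d i ^ α i) = 1 := fun α => by
    rw [← hχ, LinearMap.mem_ker]
    exact ⟨fun h => by rw [h]; rfl, fun h => h⟩
  haveI : Module.IsTorsionFree ℤ (LinearMap.range χ) := inferInstance
  haveI : Module.Free ℤ (LinearMap.range χ) := Module.free_of_finite_type_torsion_free'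
  obtain ⟨sec, hsec⟩ := Module.projective_lifting_property χ.rangeRestrict LinearMap.id χ.surjective_rangeRestrict
  let r : (Fin N → ℤ) →ₗ[ℤ] (Fin N → ℤ) := LinearMap.id - sec.comp χ.rangeRestrict
  have hr : ∀ α, r α ∈ K := fun α => by
    show χ (α - sec (χ.rangeRestrict α)) = 0
    rw [map_sub]
    have := congrArg Subtype.val (LinearMap.congr_fun hsec (χ.rangeRestrict α))
    simp only [LinearMap.comp_apply, LinearMap.id_apply] at this
    rw [sub_eq_zero]
    exact this.symm
  have hrid : ∀ α ∈ K, r α = α := fun α hα => by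
    have : χ.rangeRestrict α = 0 := Subtype.ext hα
    simp [r, this]
  let cK : K →+ Additive G := AddMonoidHom.mk' (fun α => Additive.ofMul (c α)) fun a b => by
    rw [← ofMul_mul]
    exact congrArg _ (hc a b ((hK _).1 a.2) ((hK _).1 b.2))
  let e : (Fin N → ℤ) →ₗ[ℤ] Additive G := cK.toIntLinearMap.comp (r.codRestrict K hr)
  refine ⟨fun i => Additive.toMul (e (Pi.single i 1)), fun α hα => ?_⟩
  have h1 : e α = ∑ i, α i • e (Pi.single i 1) := by
    conv_lhs => rw [show α = ∑ i, α i • Pi.single i (1 : ℤ) from by funext j; simp [Finset.sum_apply, Pi.single_apply]]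
    rw [map_sum]
    exact Finset.sum_congr rfl fun i _ => map_zsmul e _ _
  have h2 : Additive.toMul (e α) = c α := by
    show c (r α) = c α
    rw [hrid α ((hK α).2 hα)]
  rw [← h2, h1, toMul_sum]
  exact Finset.prod_congr rfl fun i _ => (toMul_zsmul _ _).symm

/-- The residue map of a valuation ring whose residue field is the ground field. -/
theorem exists_residue {k : Type u} [Field k] {K : Type u} [Field K] [Algebra k K] (V : ValuationSubring K)
    (hk : ∀ c : k, algebraMap k K c ∈ V) (hres : ∀ x ∈ V, ∃ c : k, x - algebraMap k K c ∈ V.nonunits) :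
    ∃ res : V →+* k, (∀ c : k, res ⟨algebraMap k K c, hk c⟩ = c) ∧
      ∀ x : V, res x = 0 ↔ (x : K) ∈ V.nonunits := by
  let kV : k →+* V := (algebraMap k K).codRestrict V.toSubring hk
  let ι₀ : k →+* IsLocalRing.ResidueField V := (IsLocalRing.residue V).comp kV
  have hsurj : Function.Surjective ι₀ := by
    intro z
    obtain ⟨z, rfl⟩ := IsLocalRing.residue_surjective z
    obtain ⟨c, hc⟩ := hres z.1 z.2
    refine ⟨c, ?_⟩
    symm
    show IsLocalRing.residue V z = IsLocalRing.residue V (kV c)
    rw [← sub_eq_zero, ← map_sub, IsLocalRing.residue_eq_zero_iff, IsLocalRing.mem_maximalIdeal]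
    exact V.coe_mem_nonunits_iff.1 hc
  let e : k ≃+* IsLocalRing.ResidueField V := RingEquiv.ofBijective ι₀ ⟨ι₀.injective, hsurj⟩
  refine ⟨e.symm.toRingHom.comp (IsLocalRing.residue V), fun c => ?_, fun x => ?_⟩
  · show e.symm (ι₀ c) = c
    exact e.symm_apply_apply c
  · show e.symm (IsLocalRing.residue V x) = 0 ↔ _
    rw [map_eq_zero_iff _ e.symm.injective, IsLocalRing.residue_eq_zero_iff, IsLocalRing.mem_maximalIdeal]
    exact V.coe_mem_nonunits_iff.symm

end HMLib
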