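import Groth.Agent.HMLib.OneParam
import Groth.Agent.HMLib.Sep
import Groth.Agent.HMLib.Faithful
import Groth.Agent.FormStabLib.Closure
import Groth.Agent.FormStabLib.Valuative

/-! # The fundamental theorem of Hilbert and Mumford

A closed orbit in the closure of the orbit of a vector is reached by the limit of a one-parameter subgroup. -/

set_option autoImplicit false
set_option maxHeartbeats 2000000
set_option synthInstance.maxHeartbeats 400000

noncomputable section

open TensorProduct HopfRep CoordGrp Matrix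
open LaurentPolynomial (T)
open scoped LaurentPolynomial

namespace HMLib

universe u

variable {k : Type u} [Field k] {A : Type u} [CommRing A] [HopfAlgebra k A]

theorem pair_single {N : ℕ} (n : Fin N → ℤ) (i : Fin N) : pair n (Pi.single i 1) = n i := by
  simp [pair, Pi.single_apply]

theorem pair_neg {N : ℕ} (n α : Fin N → ℤ) : pair (-n) α = -pair n α := by
  simp [pair]

/-- A contracted matrix does not change the components of non-negative weight. -/
theorem contr_vecMul {N : ℕ} {m : Fin N → ℤ} {U : Matrix (Fin N) (Fin N) k} (hU : Contr m U) {a : Fin N → k}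
    (ha : ∀ i, 0 < m i → a i = 0) {j : Fin N} (hj : 0 ≤ m j) : (a ᵥ* U) j = a j := by
  classical
  show ∑ i, a i * U i j = a j
  rw [Finset.sum_eq_single j]
  · rw [hU j j le_rfl, Matrix.one_apply_eq, mul_one]
  · intro i _ hi
    rcases le_or_gt (m i) (m j) with h | h
    · rw [hU i j h, Matrix.one_apply_ne hi, mul_zero]
    · rw [ha i (lt_of_le_of_lt hj h), zero_mul]
  · intro h; exact absurd (Finset.mem_univ j) h

variable [IsAlgClosed k] [CharZero k] [Algebra.FiniteType k A]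
  {ι : Type u} [Fintype ι] [Comod k A (MvPolynomial ι k)] [GLin.IsCoactAlg k A (MvPolynomial ι k)]

/-- The diagonal data attached to a point of an orbit closure. -/
theorem exists_weights (hG : IsLinearlyReductive k A) (m : ι → ι → A)
    (hm : ∀ i, Comod.coact (k := k) (A := A) (MvPolynomial.X i : MvPolynomial ι k) =
      ∑ j, (MvPolynomial.X j : MvPolynomial ι k) ⊗ₜ[k] m j i)
    (B : BlockRep k A ι m) (v q : ι → k)
    (hvq : GLin.InOrbitClosure k A (GLin.vecPt k ι v) (GLin.vecPt k ι q)) :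
    ∃ (n : Fin B.N → ℤ) (x y z : GLn B.N k →ₐ[k] k) (a b : Fin B.N → k),
      (∀ F ∈ B.ρ.inv, lau n z F = algebraMap k _ (z F)) ∧ B.ρ.Flows (-n) x z 1 ∧ B.ρ.Flows n y z 1 ∧
      a ᵥ* ptMat x = B.pad v ∧ b ᵥ* ptMat y = B.pad q ∧
      (∀ i, n i < 0 → a i = 0) ∧ (∀ i, 0 < n i → b i = 0) ∧ ∀ i, n i = 0 → a i = b i := by
  classical
  obtain ⟨K, _, _, ψ, V, hk, hV, hVy, hres⟩ :=
    FormStabLib.exists_valuation_point (GLin.orbitHom k A (GLin.vecPt k ι v)) (GLin.vecPt k ι q) hvq
  obtain ⟨res, hresc, hres0⟩ := exists_residue V hk hres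
  letI : Algebra k V := ((algebraMap k K).codRestrict V.toSubring hk).toAlgebra
  haveI : IsScalarTower k V K := IsScalarTower.of_algebraMap_eq fun c => rfl
  let resA : V →ₐ[k] k := { res with commutes' := hresc }
  let ιK : V →ₐ[k] K := IsScalarTower.toAlgHom k V K
  have hιK : ∀ z : V, ιK z = (z : K) := fun z => rfl
  -- the diagonalisation
  obtain ⟨U, W, d, hU, hW, hg⟩ := FormStabLib.exists_diag V B.N (B.ρ.pmat ψ)
  have hd : ∀ i, d i ≠ 0 := fun i h0 => by
    have h1 := B.ρ.isUnit_det_pmat ψ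
    rw [hg, Matrix.det_mul, Matrix.det_mul, Matrix.det_diagonal, Finset.prod_eq_zero (Finset.mem_univ i) h0] at h1
    simp at h1
  let du : Fin B.N → Kˣ := fun i => Units.mk0 (d i) (hd i)
  let Dp : (Fin B.N → ℤ) → Kˣ := fun α => ∏ i, du i ^ α i
  let dv : Fin B.N → (V.ValueGroup)ˣ := fun i => Units.map V.valuation.toMonoidWithZeroHom.toMonoidHom (du i)
  have hχ : ∀ α, (((∏ i, dv i ^ α i : (V.ValueGroup)ˣ)) : V.ValueGroup) = V.valuation (Dp α : K) := fun α => by
    have : (∏ i, dv i ^ α i) = Units.map V.valuation.toMonoidWithZeroHom.toMonoidHom (Dp α) := by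
      simp [Dp, dv, map_prod, map_zpow]
    rw [this]; rfl
  have hDsingle : ∀ i, (Dp (Pi.single i 1) : K) = d i := fun i => by
    have : Dp (Pi.single i 1) = du i := by
      show ∏ j, du j ^ (Pi.single i 1 : Fin B.N → ℤ) j = du i
      rw [Finset.prod_eq_single i (fun j _ hj => by simp [hj]) (fun h => absurd (Finset.mem_univ i) h)]
      simp
    rw [this]; rfl
  -- residues of the monomials of value one
  have hmem : ∀ α, V.valuation (Dp α : K) = 1 → (Dp α : K) ∈ V := fun α h => (V.valuation_le_one_iff _).1 h.le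
  let cK : (Fin B.N → ℤ) → kˣ := fun α =>
    if h : V.valuation (Dp α : K) = 1 then Units.mk0 (res ⟨(Dp α : K), hmem α h⟩) (fun h0 => by
      have h1 : V.valuation (Dp α : K) < 1 := V.mem_nonunits_iff.1 ((hres0 _).1 h0)
      exact h1.ne h) else 1
  have hcK : ∀ α (h : V.valuation (Dp α : K) = 1), (cK α : k) = res ⟨(Dp α : K), hmem α h⟩ := fun α h => by
    simp only [cK, dif_pos h]; rfl
  have hunit1 : ∀ α, (∏ i, dv i ^ α i) = 1 → V.valuation (Dp α : K) = 1 := fun α h => by
    rw [← hχ, h]; rfl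
  obtain ⟨tw, htw⟩ := exists_extend dv cK (fun α β hα hβ => by
    have hα' := hunit1 α hα
    have hβ' := hunit1 β hβ
    have hsum : Dp (α + β) = Dp α * Dp β := by simp [Dp, _root_.zpow_add, Finset.prod_mul_distrib]
    have hab : V.valuation (Dp (α + β) : K) = 1 := by rw [hsum, Units.val_mul, map_mul, hα', hβ', one_mul]
    apply Units.ext
    rw [Units.val_mul, hcK _ hab, hcK _ hα', hcK _ hβ', ← map_mul]
    refine congrArg res (Subtype.ext ?_)
    show (Dp (α + β) : K) = (Dp α : K) * (Dp β : K)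
    rw [hsum, Units.val_mul])
  -- generators and the functional
  obtain ⟨s, hs, hgen⟩ := B.ρ.exists_hom_generators hG
  choose wt hwt using fun F : s => (hs F F.2).2
  obtain ⟨n, hn⟩ := exists_int_functional dv
    (Finset.univ.image wt ∪ Finset.univ.image fun i : Fin B.N => Pi.single i (1 : ℤ))
  have hn' : ∀ α ∈ Finset.univ.image wt ∪ Finset.univ.image (fun i : Fin B.N => Pi.single i (1 : ℤ)),
      (pair n α < 0 → 1 < V.valuation (Dp α : K)) ∧ (pair n α = 0 → (∏ i, dv i ^ α i) = 1) ∧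
        (0 < pair n α → V.valuation (Dp α : K) < 1) := by
    intro α hα
    obtain ⟨h1, h2, h3⟩ := hn α hα
    rcases lt_trichotomy (∏ i, dv i ^ α i) 1 with h | h | h
    · have := h1 h
      exact ⟨fun h' => absurd h' (not_lt.2 this.le), fun h' => absurd h' this.ne',
        fun _ => by rw [← hχ]; exact_mod_cast h⟩
    · have := h2 h
      exact ⟨fun h' => absurd this h'.ne, fun _ => h, fun h' => absurd this h'.ne'⟩
    · have := h3 h
      exact ⟨fun _ => by rw [← hχ]; exact_mod_cast h, fun h' => absurd h' this.ne,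
        fun h' => absurd h' (not_lt.2 this.le)⟩
  -- the two points
  let yw : GLn B.N k →ₐ[k] V := matPt W hW
  let yu : GLn B.N k →ₐ[k] V := matPt U⁻¹ (Matrix.isUnit_nonsing_inv_det _ hU)
  let x : GLn B.N k →ₐ[k] k := resA.comp yu
  let y₀ : GLn B.N k →ₐ[k] k := resA.comp yw
  have htwu : IsUnit (Matrix.diagonal fun i => (tw i : k)).det := by
    rw [Matrix.det_diagonal]
    exact IsUnit.prod_iff.2 fun i _ => (tw i).isUnit
  let y : GLn B.N k →ₐ[k] k := matPt (Matrix.diagonal (fun i => (tw i : k)) * ptMat y₀)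
    (by rw [Matrix.det_mul]; exact htwu.mul (isUnit_det_ptMat _))
  have hUi : U.map ιK * (U⁻¹).map ιK = 1 := by
    rw [← Matrix.map_mul, Matrix.mul_nonsing_inv _ hU, Matrix.map_one _ (map_zero _) (map_one _)]
  have hWi : W.map ιK * (W⁻¹).map ιK = 1 := by
    rw [← Matrix.map_mul, Matrix.mul_nonsing_inv _ hW, Matrix.map_one _ (map_zero _) (map_one _)]
  have hgι : B.ρ.pmat ψ = U.map ιK * Matrix.diagonal d * W.map ιK := hg
  have hkey : ∀ F ∈ B.ρ.inv, ∀ α, IsHom α F → (Dp α : K) * (yw F : K) = (yu F : K) := by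
    intro F hF α hα
    have hdet : IsUnit (Matrix.diagonal d * W.map ιK).det := by
      rw [Matrix.det_mul, ← AlgHom.mapMatrix_apply, ← AlgHom.map_det, Matrix.det_diagonal]
      exact (isUnit_iff_ne_zero.2 (Finset.prod_ne_zero_iff.2 fun i _ => hd i)).mul (hW.map _)
    let y' : GLn B.N k →ₐ[k] K := matPt (Matrix.diagonal d * W.map ιK) hdet
    have h1 : y' F = (ιK.comp yu) F := by
      refine B.ρ.inv_eq_of_mat hF ψ ?_
      rw [ptMat_matPt, ptMat_comp, ptMat_matPt, hgι, ← Matrix.mul_assoc, ← Matrix.mul_assoc]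
      have : (U⁻¹).map ιK * U.map ιK = 1 := by
        rw [← Matrix.map_mul, Matrix.nonsing_inv_mul _ hU, Matrix.map_one _ (map_zero _) (map_one _)]
      rw [this, Matrix.one_mul]
    have h2 : y' F = (Dp α : K) * (ιK.comp yw) F := hα.apply du (ιK.comp yw) y' (fun i j => by
      rw [← ptMat_apply y', ptMat_matPt, Matrix.diagonal_mul, Matrix.map_apply]
      show d i * _ = d i * ιK (ptMat yw i j)
      rw [ptMat_matPt])
    rw [h1] at h2
    exact h2.symm
  have hval : ∀ F ∈ B.ρ.inv, ∀ α, IsHom α F →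
      (V.valuation (Dp α : K) < 1 → x F = 0) ∧ (1 < V.valuation (Dp α : K) → y F = 0) ∧
        ((∏ i, dv i ^ α i) = 1 → x F = y F) := by
    intro F hF α hα
    have hk' := hkey F hF α hα
    have hy : y F = ((∏ i, tw i ^ α i : kˣ) : k) * y₀ F := hα.apply tw y₀ y (fun i j => by
      rw [← ptMat_apply y, ptMat_matPt, Matrix.diagonal_mul]; rfl)
    refine ⟨fun h => ?_, fun h => ?_, fun h => ?_⟩
    · show res (yu F) = 0
      have hD : (Dp α : K) ∈ V := (V.valuation_le_one_iff _).1 h.le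
      have e : yu F = ⟨(Dp α : K), hD⟩ * yw F := Subtype.ext hk'.symm
      rw [e, map_mul, (hres0 ⟨(Dp α : K), hD⟩).2 (V.mem_nonunits_iff.2 h), zero_mul]
    · rw [hy]
      refine mul_eq_zero_of_right _ ?_
      show res (yw F) = 0
      have hlt : V.valuation ((Dp α : K)⁻¹) < 1 := by rw [map_inv₀]; exact inv_lt_one_of_one_lt₀ h
      have hD : ((Dp α : K)⁻¹) ∈ V := (V.valuation_le_one_iff _).1 hlt.le
      have e : yw F = ⟨(Dp α : K)⁻¹, hD⟩ * yu F := Subtype.ext (by
        show (yw F : K) = (Dp α : K)⁻¹ * (yu F : K)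
        rw [← hk', ← mul_assoc, inv_mul_cancel₀ (Units.ne_zero _), one_mul])
      rw [e, map_mul, (hres0 ⟨(Dp α : K)⁻¹, hD⟩).2 (V.mem_nonunits_iff.2 hlt), zero_mul]
    · have h1 := hunit1 α h
      rw [hy, htw α h, hcK α h1]
      show res (yu F) = res _ * res (yw F)
      rw [← map_mul]
      exact congrArg res (Subtype.ext hk'.symm)
  -- the fixed point
  have hmono : ∀ F : s, lau n y (F : GLn B.N k) = algebraMap k _ (y F) * T (pair n (wt F)) :=
    fun F => (hwt F).lau n y
  have hmem_wt : ∀ F : s, wt F ∈ Finset.univ.image wt ∪ Finset.univ.image fun i : Fin B.N => Pi.single i (1 : ℤ) :=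
    fun F => Finset.mem_union_left _ (Finset.mem_image_of_mem _ (Finset.mem_univ F))
  have hsy : ∀ F : s, Nonneg (lau n y (F : GLn B.N k)) (if pair n (wt F) = 0 then y F else 0) := by
    intro F
    rw [hmono]
    exact nonneg_monomial (fun h => (hval _ (hs F F.2).1 _ (hwt F)).2.1 ((hn' _ (hmem_wt F)).1 h))
      (fun h => by rw [if_pos h]) (fun h => by rw [if_neg h])
  have hex : ∀ F ∈ B.ρ.inv, ∃ c, Nonneg (lau n y F) c := by
    intro F hF
    have hF' := hgen hF
    clear hF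
    induction hF' using Algebra.adjoin_induction with
    | mem F hF => exact ⟨_, hsy ⟨F, hF⟩⟩
    | algebraMap r => exact ⟨r, by rw [AlgHom.commutes]; exact nonneg_algebraMap r⟩
    | add F G _ _ ihF ihG =>
      obtain ⟨c, hc⟩ := ihF
      obtain ⟨c', hc'⟩ := ihG
      exact ⟨c + c', by rw [map_add]; exact hc.add hc'⟩
    | mul F G _ _ ihF ihG =>
      obtain ⟨c, hc⟩ := ihF
      obtain ⟨c', hc'⟩ := ihG
      exact ⟨c * c', by rw [map_mul]; exact hc.mul hc'⟩
  letI := B.ρ.comod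
  haveI := B.ρ.isCoactAlg
  haveI : Algebra.FiniteType k (GLb B.N k) :=
    inferInstanceAs (Algebra.FiniteType k (MvPolynomial (GLPoly.Idx B.N) k))
  haveI : Algebra.FiniteType k (GLn B.N k) := Algebra.FiniteType.of_surjective (GLn.mk B.N k)
    (Ideal.Quotient.mk_surjective : Function.Surjective (GLn.mk B.N k))
  let o : GLin.invariants k A (GLn B.N k) →ₐ[k] k := AlgHom.ofLinearMap
    ((cf 0).comp ((lau n y).toLinearMap.comp (GLin.invariants k A (GLn B.N k)).val.toLinearMap))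
    (by
      show cf 0 (lau n y 1) = 1
      rw [map_one, ← map_one (algebraMap k k[T;T⁻¹])]
      exact (nonneg_algebraMap (k := k) 1).2)
    (fun F G => by
      obtain ⟨c, hc⟩ := hex F F.2
      obtain ⟨c', hc'⟩ := hex G G.2
      show cf 0 (lau n y ((F : GLn B.N k) * (G : GLn B.N k))) =
        cf 0 (lau n y (F : GLn B.N k)) * cf 0 (lau n y (G : GLn B.N k))
      rw [map_mul, (hc.mul hc').2, hc.2, hc'.2])
  obtain ⟨z, hz⟩ := GLinFinLib.exists_point_over (A := A) hG o
  have hz' : ∀ F, F ∈ B.ρ.inv → z F = cf 0 (lau n y F) := fun F hF => AlgHom.congr_fun hz ⟨F, hF⟩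
  have hzs : ∀ F : s, z (F : GLn B.N k) = if pair n (wt F) = 0 then y F else 0 := fun F => by
    rw [hz' _ (hs F F.2).1, (hsy F).2]
  have hfl₁ : B.ρ.Flows n y z 1 := by
    intro F hF a ha
    have h := nonneg_of_adjoin (lau n y) z (fun G hG' => by rw [hzs ⟨G, hG'⟩]; exact hsy ⟨G, hG'⟩) (hgen hF)
    split_ifs with h0
    · subst h0; exact h.2
    · exact h.1 a (by omega)
  have hfl₂ : B.ρ.Flows (-n) x z 1 := by
    intro F hF a ha
    have h := nonneg_of_adjoin (lau (-n) x) z (fun G hG' => by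
      obtain ⟨hv1, hv2, hv3⟩ := hval G (hs G hG').1 _ (hwt ⟨G, hG'⟩)
      obtain ⟨hn1, hn2, hn3⟩ := hn' _ (hmem_wt ⟨G, hG'⟩)
      rw [(hwt ⟨G, hG'⟩).lau (-n) x, pair_neg, hzs ⟨G, hG'⟩]
      refine nonneg_monomial (fun h => hv1 (hn3 (by omega))) (fun h => ?_) (fun h => ?_)
      · rw [if_pos (show pair n (wt ⟨G, hG'⟩) = 0 by omega)]
        exact hv3 (hn2 (by omega))
      · rw [if_neg (by omega)]) (hgen hF)
    split_ifs with h0
    · subst h0; exact h.2
    · exact h.1 a (by omega)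
  have hzfix : ∀ F ∈ B.ρ.inv, lau n z F = algebraMap k _ (z F) := by
    intro F hF
    have hF' := hgen hF
    clear hF
    induction hF' using Algebra.adjoin_induction with
    | mem F hF =>
      rw [(hwt ⟨F, hF⟩).lau n z]
      by_cases h : pair n (wt ⟨F, hF⟩) = 0
      · show algebraMap k k[T;T⁻¹] (z F) * T (pair n (wt ⟨F, hF⟩)) = _
        rw [h, LaurentPolynomial.T_zero, mul_one]
      · have h0 : z F = 0 := (hzs ⟨F, hF⟩).trans (if_neg h)
        show algebraMap k k[T;T⁻¹] (z F) * T _ = _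
        rw [h0, map_zero, zero_mul]
    | algebraMap r => rw [AlgHom.commutes, AlgHom.commutes]; rfl
    | add F G _ _ ihF ihG => rw [map_add, map_add, map_add, ihF, ihG]
    | mul F G _ _ ihF ihG => rw [map_mul, map_mul, map_mul, ihF, ihG]
  -- the vectors
  let vV : Fin B.N → V := B.pad fun i => algebraMap k V (v i)
  let hh : ι → V := fun i => ⟨ψ (GLin.orbitHom k A (GLin.vecPt k ι v) (MvPolynomial.X i)), hV _⟩
  let qV : Fin B.N → V := B.pad hh
  let aV : Fin B.N → V := vV ᵥ* U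
  let bV : Fin B.N → V := qV ᵥ* W⁻¹
  have hpsi : (ιK ∘ vV) ᵥ* B.ρ.pmat ψ = ιK ∘ qV := by
    rw [B.map_pad (map_zero ιK), B.map_pad (map_zero ιK), Rep.pmat]
    show B.pad _ ᵥ* (B.ρ.mat.map (ψ : A →+* K)) = _
    rw [B.vecMul_pad]
    congr 1
    funext i
    show _ = ψ _
    rw [orbitHom_X m hm, map_sum]
    refine Finset.sum_congr rfl fun j _ => ?_
    rw [map_mul, AlgHom.commutes]
    rfl
  have hab : ∀ i, (aV i : K) * d i = (bV i : K) := by
    intro i
    have h1 : (ιK ∘ aV) ᵥ* Matrix.diagonal d = ιK ∘ bV := by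
      have ha : ιK ∘ aV = (ιK ∘ vV) ᵥ* U.map ιK := funext fun j => RingHom.map_vecMul (ιK : V →+* K) U vV j
      have hb : ιK ∘ bV = (ιK ∘ qV) ᵥ* (W⁻¹).map ιK := funext fun j => RingHom.map_vecMul (ιK : V →+* K) W⁻¹ qV j
      rw [ha, hb, ← hpsi, hgι, Matrix.vecMul_vecMul, Matrix.vecMul_vecMul, Matrix.mul_assoc (U.map ιK * _),
        hWi, Matrix.mul_one]
    have h2 := congrFun h1 i
    rw [Matrix.vecMul_diagonal] at h2
    exact h2
  have hax : (res ∘ aV) ᵥ* ptMat x = B.pad v := by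
    rw [ptMat_comp, ptMat_matPt]
    have e : res ∘ (aV ᵥ* U⁻¹) = (res ∘ aV) ᵥ* (U⁻¹).map resA := funext fun j => RingHom.map_vecMul res U⁻¹ aV j
    rw [← e, Matrix.vecMul_vecMul, Matrix.mul_nonsing_inv _ hU, Matrix.vecMul_one, B.map_pad (map_zero res)]
    exact congrArg B.pad (funext fun i => hresc (v i))
  have hby : (res ∘ bV) ᵥ* ptMat y₀ = B.pad q := by
    rw [ptMat_comp, ptMat_matPt]
    have e : res ∘ (bV ᵥ* W) = (res ∘ bV) ᵥ* W.map resA := funext fun j => RingHom.map_vecMul res W bV j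
    rw [← e, Matrix.vecMul_vecMul, Matrix.nonsing_inv_mul _ hW, Matrix.vecMul_one, B.map_pad (map_zero res)]
    refine congrArg B.pad (funext fun i => ?_)
    have h1 := hVy (MvPolynomial.X i)
    have h2 : res (hh i - algebraMap k V (GLin.vecPt k ι q (MvPolynomial.X i))) = 0 := (hres0 _).2 h1
    rw [map_sub, sub_eq_zero] at h2
    show res (hh i) = q i
    rw [h2]
    show res ⟨algebraMap k K _, hk _⟩ = q i
    rw [hresc]
    simp
  let b : Fin B.N → k := fun i => res (bV i) * ((tw i)⁻¹ : kˣ)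
  have hb : b ᵥ* ptMat y = B.pad q := by
    rw [ptMat_matPt, ← Matrix.vecMul_vecMul, ← hby]
    refine congrArg (fun c => c ᵥ* ptMat y₀) (funext fun i => ?_)
    rw [Matrix.vecMul_diagonal]
    show res (bV i) * ((tw i)⁻¹ : kˣ) * (tw i : k) = res (bV i)
    rw [mul_assoc, ← Units.val_mul, inv_mul_cancel, Units.val_one, mul_one]
  have hsing : ∀ i, Pi.single i (1 : ℤ) ∈ Finset.univ.image wt ∪ Finset.univ.image fun i : Fin B.N => Pi.single i (1 : ℤ) :=
    fun i => Finset.mem_union_right _ (Finset.mem_image_of_mem _ (Finset.mem_univ i))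
  refine ⟨n, x, y, z, res ∘ aV, b, hzfix, hfl₂, hfl₁, hax, hb, fun i hi => ?_, fun i hi => ?_, fun i hi => ?_⟩
  · have h1 := (hn' _ (hsing i)).1 (by rwa [pair_single])
    rw [hDsingle] at h1
    show res (aV i) = 0
    have hlt : V.valuation ((d i)⁻¹) < 1 := by rw [map_inv₀]; exact inv_lt_one_of_one_lt₀ h1
    have hD : (d i)⁻¹ ∈ V := (V.valuation_le_one_iff _).1 hlt.le
    have e : aV i = bV i * ⟨(d i)⁻¹, hD⟩ := Subtype.ext (by
      show (aV i : K) = (bV i : K) * (d i)⁻¹
      rw [← hab, mul_assoc, mul_inv_cancel₀ (hd i), mul_one])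
    rw [e, map_mul, (hres0 ⟨(d i)⁻¹, hD⟩).2 (V.mem_nonunits_iff.2 hlt), mul_zero]
  · have h1 := (hn' _ (hsing i)).2.2 (by rwa [pair_single])
    rw [hDsingle] at h1
    show res (bV i) * _ = 0
    have hD : d i ∈ V := (V.valuation_le_one_iff _).1 h1.le
    have e : bV i = aV i * ⟨d i, hD⟩ := Subtype.ext (hab i).symm
    rw [e, map_mul, (hres0 ⟨d i, hD⟩).2 (V.mem_nonunits_iff.2 h1), mul_zero, zero_mul]
  · have h0 := (hn' _ (hsing i)).2.1 (by rwa [pair_single])
    have h1 := hunit1 _ h0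
    have hc : (tw i : k) = res ⟨_, hmem _ h1⟩ := by
      rw [← hcK _ h1, ← htw _ h0]
      congr 1
      rw [Finset.prod_eq_single i (fun j _ hj => by simp [hj]) (fun h => absurd (Finset.mem_univ i) h)]
      simp
    show res (aV i) = res (bV i) * _
    have e : bV i = aV i * ⟨_, hmem _ h1⟩ := Subtype.ext (by
      show (bV i : K) = (aV i : K) * (Dp (Pi.single i 1) : K)
      rw [hDsingle, hab])
    rw [e, map_mul, ← hc, mul_assoc, ← Units.val_mul, mul_inv_cancel, Units.val_one, mul_one]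

omit [CharZero k] [Algebra.FiniteType k A] [IsAlgClosed k] in
/-- The limit of a conjugated diagonal one-parameter subgroup. -/
theorem isLimit_of_conj (m : ι → ι → A)
    (hm : ∀ i, Comod.coact (k := k) (A := A) (MvPolynomial.X i : MvPolynomial ι k) =
      ∑ j, (MvPolynomial.X j : MvPolynomial ι k) ⊗ₜ[k] m j i)
    (B : BlockRep k A ι m) (n : Fin B.N → ℤ) (h : GLn B.N k →ₐ[k] k) (lam : A →ₐc[k] k[T;T⁻¹])
    (hlam : B.ρ.mat.map lam = ((ptMat h)⁻¹).map (algebraMap k k[T;T⁻¹]) * diagT n *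
      (ptMat h).map (algebraMap k k[T;T⁻¹]))
    (v : ι → k) (c : Fin B.N → k) (hc : c ᵥ* ptMat h = B.pad v) (hneg : ∀ r, n r < 0 → c r = 0) :
    GLin.IsLimit k A lam (GLin.vecPt k ι v)
      (GLin.vecPt k ι fun i => ((fun r => if n r = 0 then c r else 0) ᵥ* ptMat h) (B.e i)) := by
  classical
  set C := algebraMap k k[T;T⁻¹] with hC
  have hcoord : ∀ i, Groth.Agent.GLinMu.coord A lam v i = ∑ r, C (c r) * T (n r) * C (ptMat h r (B.e i)) := by
    intro i
    have h1 : Groth.Agent.GLinMu.coord A lam v i = ((C ∘ B.pad v) ᵥ* B.ρ.mat.map lam) (B.e i) := by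
      rw [B.map_pad (map_zero C)]
      show lam (GLin.orbitHom k A (GLin.vecPt k ι v) (MvPolynomial.X i)) = _
      rw [orbitHom_X m hm, map_sum]
      refine Eq.trans ?_ (B.vecMul_apply ((lam : A →ₐ[k] k[T;T⁻¹]) : A →+* k[T;T⁻¹]) _ i).symm
      refine Finset.sum_congr rfl fun j _ => ?_
      rw [B.pad_apply, map_mul]
      show (lam : A →ₐ[k] k[T;T⁻¹]) (algebraMap k A (v j)) * _ = _
      rw [AlgHom.commutes]
      rfl
    have h2 : (C ∘ B.pad v) ᵥ* ((ptMat h)⁻¹).map C = C ∘ c := by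
      have e : c = B.pad v ᵥ* (ptMat h)⁻¹ := by
        rw [← hc, Matrix.vecMul_vecMul, Matrix.mul_nonsing_inv _ (isUnit_det_ptMat h), Matrix.vecMul_one]
      conv_rhs => rw [e]
      exact (funext fun j => RingHom.map_vecMul C (ptMat h)⁻¹ (B.pad v) j).symm
    rw [h1, hlam, ← Matrix.vecMul_vecMul, ← Matrix.vecMul_vecMul, h2]
    show ∑ r, ((C ∘ c) ᵥ* diagT n) r * _ = _
    refine Finset.sum_congr rfl fun r _ => ?_
    rw [diagT, Matrix.vecMul_diagonal]
    rfl
  have hcf : ∀ i a, cf a (Groth.Agent.GLinMu.coord A lam v i) =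
      ∑ r, if n r = a then c r * ptMat h r (B.e i) else 0 := fun i a => by
    rw [hcoord, map_sum]
    refine Finset.sum_congr rfl fun r _ => ?_
    rw [mul_right_comm, ← map_mul, ← Algebra.smul_def, map_smul, cf_T]
    split_ifs <;> simp
  refine (Groth.Agent.GLinMu.isLimit_iff lam v _).2 ⟨fun i a ha => ?_, fun i => ?_⟩
  · show cf a _ = 0
    rw [hcf]
    refine Finset.sum_eq_zero fun r _ => ?_
    split_ifs with h
    · rw [hneg r (h ▸ ha), zero_mul]
    · rfl
  · show cf 0 _ = _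
    rw [hcf]
    refine Finset.sum_congr rfl fun r _ => ?_
    by_cases h : n r = 0 <;> simp [h]

/-- Hilbert–Mumford: a closed orbit in an orbit closure is reached by a one-parameter subgroup. -/
theorem exists_oneParam (hG : IsLinearlyReductive k A) (hlin : GLin.IsLinear k A ι) (v q : ι → k)
    (hvq : GLin.InOrbitClosure k A (GLin.vecPt k ι v) (GLin.vecPt k ι q))
    (hq : GLinFinLib.IsPointClosed k A (GLin.vecPt k ι q)) :
    ∃ (lam : A →ₐc[k] k[T;T⁻¹]) (g : A →ₐ[k] k),
      GLin.IsLimit k A lam (GLin.vecPt k ι v) (GLin.actPt k g (GLin.vecPt k ι q)) := by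
  classical
  choose m' hm' using hlin
  let m : ι → ι → A := fun j i => m' i j
  have hm : ∀ i, Comod.coact (k := k) (A := A) (MvPolynomial.X i : MvPolynomial ι k) =
      ∑ j, (MvPolynomial.X j : MvPolynomial ι k) ⊗ₜ[k] m j i := hm'
  obtain ⟨hmul, hone⟩ := lin_mat_mul m hm
  obtain ⟨B⟩ := exists_blockRep m hmul hone
  obtain ⟨n, x, y, z, a, b, hzfix, hfx, hfy, hax, hby, ha0, hb0, hab⟩ := exists_weights hG m hm B v q hvq
  have hzfix' : ∀ F ∈ B.ρ.inv, lau (-n) z F = algebraMap k _ (z F) := fun F hF => fixed_neg n z F _ (hzfix F hF)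
  obtain ⟨U, h, hU, hUh, hh⟩ := Rep.attract hG B.faithful (-n) x z hzfix' hfx
  obtain ⟨U', h', hU', hUh', hh'⟩ := Rep.attract hG B.faithful n y z hzfix hfy
  have hfix : ∀ F ∈ B.ρ.inv, lau n h F = algebraMap k _ (h F) := fun F hF => by
    have := fixed_neg (-n) h F _ (hh F hF).1
    rwa [neg_neg] at this
  have hfix' : ∀ F ∈ B.ρ.inv, lau (-n) h' F = algebraMap k _ (h' F) := fun F hF => fixed_neg n h' F _ (hh' F hF).1
  obtain ⟨lam, hlam⟩ := Rep.exists_lam hG B.faithful n h hfix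
  obtain ⟨lam', hlam'⟩ := Rep.exists_lam hG B.faithful (-n) h' hfix'
  obtain ⟨g₀, hg₀⟩ := Rep.exists_pmat hG B.faithful h h' fun F hF => (hh' F hF).2.trans (hh F hF).2.symm
  have hc1 : ∀ r, 0 ≤ -n r → (a ᵥ* U) r = a r := fun r hr =>
    contr_vecMul hU (fun i hi => ha0 i (by simpa using hi)) hr
  have hc2 : ∀ r, 0 ≤ n r → (b ᵥ* U') r = b r := fun r hr => contr_vecMul hU' hb0 hr
  have hL1 := isLimit_of_conj m hm B n h lam hlam v (a ᵥ* U)
    (by rw [Matrix.vecMul_vecMul, ← hUh, hax]) (fun r hr => by rw [hc1 r (by omega), ha0 r hr])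
  have hL2 := isLimit_of_conj m hm B (-n) h' lam' hlam' q (b ᵥ* U')
    (by rw [Matrix.vecMul_vecMul, ← hUh', hby]) (fun r hr => by
      have hr' : 0 < n r := by simpa using hr
      rw [hc2 r hr'.le, hb0 r hr'])
  set w : ι → k := fun i => ((fun r => if n r = 0 then (a ᵥ* U) r else 0) ᵥ* ptMat h) (B.e i) with hw
  set w' : ι → k := fun i => ((fun r => if (-n) r = 0 then (b ᵥ* U') r else 0) ᵥ* ptMat h') (B.e i) with hw'
  have hl : (fun r => if (-n) r = 0 then (b ᵥ* U') r else 0) = fun r => if n r = 0 then (a ᵥ* U) r else 0 := by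
    funext r
    by_cases h0 : n r = 0
    · rw [if_pos (by simp [h0]), if_pos h0, hc2 r (by omega), hc1 r (by omega), hab r h0]
    · rw [if_neg (by simp [h0]), if_neg h0]
  -- the two limits are conjugate
  have hconj : GLin.actPt k g₀ (GLin.vecPt k ι w) = GLin.vecPt k ι w' := by
    refine MvPolynomial.algHom_ext fun i => ?_
    show g₀ (GLin.orbitHom k A (GLin.vecPt k ι w) (MvPolynomial.X i)) = _
    rw [orbitHom_X m hm, map_sum]
    simp only [GLin.vecPt, MvPolynomial.aeval_X]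
    have e : w' i = (((fun r => if n r = 0 then (a ᵥ* U) r else 0) ᵥ* ptMat h) ᵥ* B.ρ.pmat g₀) (B.e i) := by
      simp only [hw', hl, Matrix.vecMul_vecMul, hg₀]
    rw [e]
    refine Eq.trans ?_ (B.vecMul_apply (g₀ : A →+* k) _ i).symm
    refine Finset.sum_congr rfl fun j _ => ?_
    rw [map_mul, AlgHom.commutes]
    rfl
  have hw'q : GLin.InOrbitClosure k A (GLin.vecPt k ι q) (GLin.vecPt k ι w') := by
    obtain ⟨p, hp, hp0⟩ := hL2
    intro f hf
    have h1 : GLin.lamOrbit k A lam' (GLin.vecPt k ι q) f = 0 := by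
      show (lam' : A →ₐ[k] k[T;T⁻¹]) (GLin.orbitHom k A (GLin.vecPt k ι q) f) = 0
      rw [RingHom.mem_ker.1 hf, map_zero]
    have h2 : p f = 0 := by
      refine Polynomial.toLaurent_injective ?_
      rw [map_zero]
      exact (AlgHom.congr_fun hp f).trans h1
    rw [RingHom.mem_ker, ← hp0, AlgHom.comp_apply, h2, map_zero]
  obtain ⟨g₁, hg₁⟩ := hq _ hw'q
  obtain ⟨g₂, hg₂⟩ := GLinFinLib.exists_actPt_symm hconj
  refine ⟨lam, g₂.comp (GLinFinLib.translate g₁), ?_⟩
  rw [← GLinFinLib.actPt_actPt, hg₁, hg₂]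
  exact hL1

end HMLib
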