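import Groth.Agent.HMLib.Weights
import Mathlib.RingTheory.Bialgebra.MonoidAlgebra

/-! # One-parameter subgroups from fixed points in `GL_N / G` -/

set_option autoImplicit false
set_option maxHeartbeats 1000000
set_option synthInstance.maxHeartbeats 400000

noncomputable section

open TensorProduct HopfRep CoordGrp
open LaurentPolynomial (T)
open scoped LaurentPolynomial

namespace HMLib

universe u v

variable {k : Type u} [Field k] {N : ℕ}

/-- No coefficients in negative degree and the given constant coefficient. -/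
def Nonneg (f : k[T;T⁻¹]) (c : k) : Prop := (∀ a < 0, cf a f = 0) ∧ cf 0 f = c

theorem nonneg_algebraMap (c : k) : Nonneg (algebraMap k k[T;T⁻¹] c) c :=
  ⟨fun a ha => by rw [cf_algebraMap, if_neg ha.ne], by rw [cf_algebraMap, if_pos rfl]⟩

theorem Nonneg.add {f g : k[T;T⁻¹]} {c d : k} (hf : Nonneg f c) (hg : Nonneg g d) : Nonneg (f + g) (c + d) :=
  ⟨fun a ha => by rw [map_add, hf.1 a ha, hg.1 a ha, add_zero], by rw [map_add, hf.2, hg.2]⟩

theorem Nonneg.mul {f g : k[T;T⁻¹]} {c d : k} (hf : Nonneg f c) (hg : Nonneg g d) : Nonneg (f * g) (c * d) := by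
  obtain ⟨p, rfl⟩ := Groth.Agent.GLinMu.exists_toLaurent_eq (f := f) hf.1
  obtain ⟨q, rfl⟩ := Groth.Agent.GLinMu.exists_toLaurent_eq (f := g) hg.1
  have e : ∀ (r : Polynomial k), cf 0 (Polynomial.toLaurent r) = r.coeff 0 := fun r =>
    Groth.Agent.GLinMu.coeff_toLaurent_nat r 0
  rw [← map_mul]
  refine ⟨fun a ha => Groth.Agent.GLinMu.coeff_toLaurent_neg _ ha, ?_⟩
  rw [e, Polynomial.mul_coeff_zero, ← e, ← e, hf.2, hg.2]

theorem nonneg_monomial {n : ℤ} {c c₀ : k} (h₁ : n < 0 → c = 0) (h₂ : n = 0 → c = c₀) (h₃ : n ≠ 0 → c₀ = 0) :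
    Nonneg (algebraMap k k[T;T⁻¹] c * T n) c₀ := by
  have e : ∀ a, cf a (algebraMap k k[T;T⁻¹] c * T n) = if n = a then c else 0 := fun a => by
    rw [← Algebra.smul_def, map_smul, cf_T]
    split_ifs <;> simp
  refine ⟨fun a ha => ?_, ?_⟩
  · rw [e]
    split_ifs with h
    · exact h₁ (h ▸ ha)
    · rfl
  · rw [e]
    split_ifs with h
    · exact h₂ h
    · exact (h₃ h).symm

theorem nonneg_of_adjoin {s : Set (GLn N k)} (f : GLn N k →ₐ[k] k[T;T⁻¹]) (o : GLn N k →ₐ[k] k)
    (h : ∀ F ∈ s, Nonneg (f F) (o F)) {F : GLn N k} (hF : F ∈ Algebra.adjoin k s) : Nonneg (f F) (o F) := by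
  induction hF using Algebra.adjoin_induction with
  | mem x hx => exact h x hx
  | algebraMap r => rw [AlgHom.commutes, AlgHom.commutes]; exact nonneg_algebraMap r
  | add x y _ _ hx hy => rw [map_add, map_add]; exact hx.add hy
  | mul x y _ _ hx hy => rw [map_mul, map_mul]; exact hx.mul hy

theorem fixed_neg (m : Fin N → ℤ) (h : GLn N k →ₐ[k] k) (F : GLn N k) (c : k)
    (hF : lau m h F = algebraMap k _ c) : lau (-m) h F = algebraMap k _ c := by
  let φ : k[T;T⁻¹] →ₐ[k] k[T;T⁻¹] := AddMonoidAlgebra.lift k k[T;T⁻¹] ℤ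
    { toFun := fun n => T (-n.toAdd)
      map_one' := by simp
      map_mul' := fun a b => by rw [toAdd_mul, neg_add, LaurentPolynomial.T_add] }
  have hφ : ∀ n, φ (T n) = T (-n) := fun n => by
    show AddMonoidAlgebra.lift k k[T;T⁻¹] ℤ _ (AddMonoidAlgebra.single n (1 : k)) = _
    rw [AddMonoidAlgebra.lift_single, one_smul]
    rfl
  have e : φ.comp (lau m h) = lau (-m) h := gl_ext fun i j => by
    rw [AlgHom.comp_apply, ← ptMat_apply (lau m h), ← ptMat_apply (lau (-m) h), ptMat_lau, ptMat_lau, diagT, diagT,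
      Matrix.diagonal_mul, Matrix.diagonal_mul, map_mul, hφ, Matrix.map_apply, AlgHom.commutes]
    rfl
  rw [← e, AlgHom.comp_apply, hF, AlgHom.commutes]

namespace Rep

variable {A : Type u} [CommRing A] [HopfAlgebra k A] [IsAlgClosed k] [Algebra.FiniteType k A]
  {ρ : Rep k A N} [CharZero k]

theorem ext_hom (hρ : ρ.IsFaithful) {B : Type u} [CommRing B] [Algebra k B] {f g : A →ₐ[k] B}
    (h : ρ.mat.map f = ρ.mat.map g) : f = g := by
  refine AlgHom.ext_of_adjoin_eq_top hρ ?_
  rintro _ ⟨⟨i, j⟩, rfl⟩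
  exact congrFun (congrFun h i) j

/-- A fixed point of a diagonal one-parameter subgroup of `GL_N` in `GL_N / G` gives one of `G`. -/
theorem exists_lam (hG : IsLinearlyReductive k A) (hρ : ρ.IsFaithful) (m : Fin N → ℤ) (h : GLn N k →ₐ[k] k)
    (hfix : ∀ F ∈ ρ.inv, lau m h F = algebraMap k _ (h F)) :
    ∃ lam : A →ₐc[k] k[T;T⁻¹], ρ.mat.map lam = ((ptMat h)⁻¹).map (algebraMap k k[T;T⁻¹]) * diagT m *
      (ptMat h).map (algebraMap k k[T;T⁻¹]) := by
  classical
  have hh := isUnit_det_ptMat h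
  have hhi : IsUnit (ptMat h)⁻¹.det := Matrix.isUnit_nonsing_inv_det _ hh
  set q : GLn N k →ₐ[k] k[T;T⁻¹] := (lau m h).comp (ltrans _ hhi) with hq
  have hqm : ptMat q = ((ptMat h)⁻¹).map (algebraMap k k[T;T⁻¹]) * diagT m *
      (ptMat h).map (algebraMap k k[T;T⁻¹]) := by
    rw [hq, ptMat_ltrans, ptMat_lau, Matrix.mul_assoc]
  have hker : ∀ p ∈ ρ.ideal, q p = 0 := by
    intro p hp
    suffices hle : ρ.ideal ≤ RingHom.ker q from hle hp
    refine (ideal_le_span hG hρ).trans (Ideal.span_le.2 ?_)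
    rintro f ⟨hfI, hfR⟩
    show q f = 0
    rw [hq, AlgHom.comp_apply, hfix _ (ρ.ltrans_mem hfR _ hhi)]
    have e1 : h (ltrans _ hhi f) = (one : GLn N k →ₐ[k] k) f := by
      have e : h.comp (ltrans _ hhi) = one := by
        refine pt_ext ?_
        rw [ptMat_ltrans, ptMat_one, Algebra.algebraMap_self, RingHom.coe_id, Matrix.map_id,
          Matrix.nonsing_inv_mul _ hh]
      rw [← e]
      rfl
    have e2 : (one : GLn N k →ₐ[k] k) f = CoalgebraStruct.counit (R := k) ((ρ.hom : GLn N k →ₐ[k] A) f) :=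
      (CoalgHomClass.counit_comp_apply ρ.hom f).symm
    rw [e1, e2, show (ρ.hom : GLn N k →ₐ[k] A) f = 0 from hfI, map_zero, map_zero]
  let e := Ideal.quotientKerAlgEquivOfSurjective (hom_surjective hρ)
  let lam₀ : A →ₐ[k] k[T;T⁻¹] := (Ideal.Quotient.liftₐ _ q hker).comp e.symm.toAlgHom
  have hlam : ∀ i j, lam₀ (ρ.mat i j) = ptMat q i j := fun i j => by
    have e1 : e.symm (ρ.mat i j) = Ideal.Quotient.mk _ (GLn.X i j) :=
      e.injective ((e.apply_symm_apply _).trans (ρ.hom_X i j).symm)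
    show (Ideal.Quotient.liftₐ _ q hker) (e.symm (ρ.mat i j)) = _
    rw [e1]
    rfl
  have hmap : ρ.mat.map lam₀ = ptMat q := Matrix.ext hlam
  -- the entries
  have hentry : ∀ i j, ptMat q i j = ∑ l, ((ptMat h)⁻¹ i l * ptMat h l j) • T (m l) := fun i j => by
    rw [hqm, Matrix.mul_apply]
    refine Finset.sum_congr rfl fun l _ => ?_
    rw [diagT, Matrix.mul_diagonal, Matrix.map_apply, Matrix.map_apply, Algebra.smul_def, map_mul]
    ring
  let lam : A →ₐc[k] k[T;T⁻¹] := BialgHom.ofAlgHom lam₀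
    (by
      refine ext_hom hρ (Matrix.ext fun i j => ?_)
      show CoalgebraStruct.counit (R := k) (lam₀ (ρ.mat i j)) = CoalgebraStruct.counit (R := k) (ρ.mat i j)
      rw [hlam, hentry, ρ.counit_mat, map_sum]
      simp only [map_smul, LaurentPolynomial.counit_T, CommSemiring.counit_apply, smul_eq_mul, mul_one]
      rw [← Matrix.mul_apply, Matrix.nonsing_inv_mul _ hh, Matrix.one_apply])
    (by
      refine ext_hom hρ (Matrix.ext fun i j => ?_)
      show Algebra.TensorProduct.map lam₀ lam₀ (CoalgebraStruct.comul (R := k) (ρ.mat i j)) =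
        CoalgebraStruct.comul (R := k) (lam₀ (ρ.mat i j))
      rw [ρ.comul_mat, hlam, hentry, map_sum, map_sum]
      simp only [Algebra.TensorProduct.map_tmul, hlam, hentry, TensorProduct.sum_tmul, TensorProduct.tmul_sum,
        map_smul, LaurentPolynomial.comul_T, TensorProduct.smul_tmul', TensorProduct.tmul_smul]
      rw [Finset.sum_comm]
      refine Finset.sum_congr rfl fun l _ => ?_
      simp only [TensorProduct.sum_tmul, TensorProduct.tmul_sum, Finset.smul_sum, TensorProduct.smul_tmul', smul_smul]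
      have e0 : ∀ a b, ∑ r, (ptMat h)⁻¹ r b * ptMat h b j * ((ptMat h)⁻¹ i a * ptMat h a r) =
          (ptMat h)⁻¹ i a * ptMat h b j * (1 : Matrix (Fin N) (Fin N) k) a b := fun a b => by
        rw [← Matrix.mul_nonsing_inv _ hh, Matrix.mul_apply, Finset.mul_sum]
        exact Finset.sum_congr rfl fun r _ => by ring
      rw [Finset.sum_comm, Finset.sum_eq_single l]
      · rw [← TensorProduct.sum_tmul, ← Finset.sum_smul, e0, Matrix.one_apply_eq, mul_one]
      · intro l' _ hl
        rw [← TensorProduct.sum_tmul, ← Finset.sum_smul, e0, Matrix.one_apply_ne hl, mul_zero, zero_smul,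
          TensorProduct.zero_tmul]
      · intro h; exact absurd (Finset.mem_univ _) h)
  exact ⟨lam, hmap.trans hqm⟩

end Rep

end HMLib
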