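import Groth.Agent.LinRedSeqLib.Subgroup
import Groth.Agent.LunaLib.Coideal
import Groth.Agent.LunaLib.Homogeneous
import Groth.Agent.LunaLib.Points
import Groth.Agent.GLinFinLib.Orbits

/-! # The stabiliser of a closed orbit is linearly reductive

The functions on the orbit form a coideal subalgebra with linear retractions, which replaces faithful flatness. -/

set_option autoImplicit false
set_option maxHeartbeats 1000000
set_option synthInstance.maxHeartbeats 400000

noncomputable section

open TensorProduct HopfRep ComodLib WithConv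
open scoped ComodLib

namespace HMLib

universe u

section Subgroup

variable {k : Type u} [Field k] {G K : Type u} [CommRing G] [HopfAlgebra k G] [CommRing K] [HopfAlgebra k K]

local notation "Δ" => CoalgebraStruct.comul (R := k)

/-- An invariant functional up to a finite set of elements of the kernel, given retractions to coinvariants. -/
theorem exists_partial_invariant_of_retraction (ψ : G →ₐc[k] K) (B : Subalgebra k G)
    (hB : ∀ x ∈ B, LinearMap.lTensor G (ψ : G →ₐ[k] K).toLinearMap (Δ x) = x ⊗ₜ[k] (1 : K))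
    (hcom : ∀ b ∈ B, Δ b ∈ LinearMap.range ((Subalgebra.toSubmodule B).subtype.lTensor G))
    (hret : ∀ S : Finset G, ∃ (M : Submodule k G) (p : G →ₗ[k] G), (∀ x ∈ S, x ∈ M) ∧ p 1 = 1 ∧
      (∀ x, p x ∈ B) ∧ ∀ (b : ↥B) (x : G), x ∈ M → p ((b : G) * x) = (b : G) * p x)
    (hker : RingHom.ker (ψ : G →ₐ[k] K) ≤
      Ideal.span {x : G | x ∈ B ∧ CoalgebraStruct.counit (R := k) x = 0})
    (hG : IsLinearlyReductive k G) (D : Finset G) (hD : ∀ d ∈ D, ψ d = 0) :
    ∃ L : G →ₗ[k] k, L 1 = 1 ∧ (∀ d ∈ D, L d = 0) ∧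
      ∀ y, slice L (LinearMap.rTensor G (ψ : G →ₐ[k] K).toLinearMap (Δ y)) = L y • (1 : K) := by
  classical
  obtain ⟨α, hα, h1⟩ := exists_invariant_of_isLinearlyReductive hG
  let α' : G →ₗ[k] k := α ∘ₗ HopfAlgebraStruct.antipode (R := k)
  have hrep : ∀ d : ↥D, ∃ (n : ℕ) (a b : Fin n → G),
      (∀ i, b i ∈ B ∧ CoalgebraStruct.counit (R := k) (b i) = 0) ∧ (d : G) = ∑ i, a i * b i := by
    intro d
    obtain ⟨n, f, g, hfg⟩ := Submodule.mem_span_set'.1 (hker (show (d : G) ∈ RingHom.ker _ from hD _ d.2))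
    exact ⟨n, f, fun i => (g i : G), fun i => (g i).2, hfg.symm⟩
  choose n a b hb hab using hrep
  choose T hT using fun (d : ↥D) (i : Fin (n d)) =>
    TensorProduct.exists_finset (Δ (a d i))
  let Sleg : Finset G := Finset.univ.biUnion fun d : ↥D => Finset.univ.biUnion fun i =>
    (T d i).image fun p => p.2
  obtain ⟨M, p, hMS, hp1, hpB, hpl⟩ := hret Sleg
  let E : G →ₗ[k] G := HopfAlgebraStruct.antipode (R := k) ∘ₗ p
  let Tf : G →ₗ[k] G := LinearMap.mul' k G ∘ₗ LinearMap.lTensor G E ∘ₗ Δ
  have hT1 : Tf 1 = 1 := by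
    simp [Tf, E, Bialgebra.comul_one, Algebra.TensorProduct.one_def, hp1]
  have hcomul : ∀ (y : G), LinearMap.rTensor G (ψ : G →ₐ[k] K).toLinearMap (Δ (Tf y)) =
      LinearMap.lTensor K Tf (LinearMap.rTensor G (ψ : G →ₐ[k] K).toLinearMap (Δ y)) := by
    intro y
    let m := Algebra.TensorProduct.map (ψ : G →ₐ[k] K) (AlgHom.id k G)
    have hm : ∀ z : G ⊗[k] G, LinearMap.rTensor G (ψ : G →ₐ[k] K).toLinearMap z = m z := by
      intro z
      induction z with
      | zero => simp
      | add a b ha hb => simp only [map_add, ha, hb]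
      | tmul a b => simp [m]
    have step : ∀ z : G ⊗[k] G,
        LinearMap.rTensor G (ψ : G →ₐ[k] K).toLinearMap
          (Δ (LinearMap.mul' k G (LinearMap.lTensor G E z))) =
        LinearMap.lTensor K (LinearMap.mul' k G ∘ₗ LinearMap.lTensor G E)
          (TensorProduct.assoc k K G G (LinearMap.rTensor G
            (LinearMap.rTensor G (ψ : G →ₐ[k] K).toLinearMap ∘ₗ Δ) z)) := by
      intro z
      induction z with
      | zero => simp
      | add a b ha hb => simp only [map_add, ha, hb]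
      | tmul a c =>
        simp only [LinearMap.lTensor_tmul, LinearMap.mul'_apply, LinearMap.rTensor_tmul,
          LinearMap.comp_apply, Bialgebra.comul_mul, hm, map_mul]
        rw [← hm (Δ (E c)), show LinearMap.rTensor G (ψ : G →ₐ[k] K).toLinearMap (Δ (E c)) =
          (1 : K) ⊗ₜ[k] E c from LinRedSeqLib.left_coinvariant_antipode ψ (hB _ (hpB c))]
        generalize m (Δ a) = w
        induction w with
        | zero => simp
        | add u v hu hv => simp only [add_mul, add_tmul, map_add, hu, hv]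
        | tmul u v => simp
    show LinearMap.rTensor G _ (Δ (LinearMap.mul' k G (LinearMap.lTensor G E (Δ y)))) = _
    rw [step, LinearMap.rTensor_comp_apply]
    have nat : ∀ w : (G ⊗[k] G) ⊗[k] G, TensorProduct.assoc k K G G
        (LinearMap.rTensor G (LinearMap.rTensor G (ψ : G →ₐ[k] K).toLinearMap) w) =
        LinearMap.rTensor (G ⊗[k] G) (ψ : G →ₐ[k] K).toLinearMap (TensorProduct.assoc k G G G w) := by
      intro w
      induction w with
      | zero => simp
      | add a b ha hb => simp only [map_add, ha, hb]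
      | tmul a b =>
        induction a with
        | zero => simp
        | add a a' ha ha' => simp only [add_tmul, map_add, ha, ha']
        | tmul a c => simp
    rw [nat, Coalgebra.coassoc_apply, ← LinearMap.comp_apply (LinearMap.rTensor _ _),
      LinearMap.rTensor_comp_lTensor, ← LinearMap.lTensor_comp_rTensor, LinearMap.comp_apply,
      ← LinearMap.lTensor_comp_apply, LinearMap.comp_assoc]
  refine ⟨α' ∘ₗ Tf, ?_, fun d hd => ?_, fun y => ?_⟩
  · simp [α', hT1, h1]
  · rw [show d = _ from hab ⟨d, hd⟩, map_sum]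
    refine Finset.sum_eq_zero fun i _ => ?_
    set a₀ := a ⟨d, hd⟩ i
    set b₀ := b ⟨d, hd⟩ i
    suffices Tf (a₀ * b₀) = 0 by simp [this]
    show LinearMap.mul' k G (LinearMap.lTensor G E (Δ (a₀ * b₀))) = 0
    rw [Bialgebra.comul_mul, hT ⟨d, hd⟩ i, Finset.sum_mul, map_sum, map_sum]
    refine Finset.sum_eq_zero fun x hx => ?_
    have hxM : x.2 ∈ M := hMS _ (by
      simp only [Sleg, Finset.mem_biUnion, Finset.mem_image]
      exact ⟨⟨d, hd⟩, Finset.mem_univ _, i, Finset.mem_univ _, x, hx, rfl⟩)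
    obtain ⟨w, hw⟩ := hcom _ (hb ⟨d, hd⟩ i).1
    rw [← hw]
    have key : ∀ z : G ⊗[k] ↥(Subalgebra.toSubmodule B), LinearMap.mul' k G (LinearMap.lTensor G E
        ((x.1 ⊗ₜ[k] x.2) * (Subalgebra.toSubmodule B).subtype.lTensor G z)) =
        x.1 * E x.2 * LinearMap.mul' k G (LinearMap.lTensor G (HopfAlgebraStruct.antipode (R := k))
          ((Subalgebra.toSubmodule B).subtype.lTensor G z)) := by
      intro z
      induction z with
      | zero => simp
      | add u v hu hv => simp only [map_add, mul_add, hu, hv]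
      | tmul u v =>
        simp only [Algebra.TensorProduct.tmul_mul_tmul, LinearMap.lTensor_tmul, LinearMap.mul'_apply,
          Submodule.subtype_apply]
        have hE : E (x.2 * (v : G)) = HopfAlgebraStruct.antipode (R := k) (v : G) * E x.2 := by
          show HopfAlgebraStruct.antipode (R := k) (p (x.2 * (v : G))) =
            _ * HopfAlgebraStruct.antipode (R := k) (p x.2)
          rw [mul_comm x.2, hpl ⟨(v : G), v.2⟩ _ hxM]
          exact map_mul (HopfAlgebra.antipodeAlgHom k G) _ _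
        rw [hE]
        ring
    rw [key, hw, HopfAlgebra.mul_antipode_lTensor_comul_apply, (hb ⟨d, hd⟩ i).2, map_zero, mul_zero]
  · rw [← slice_lTensor, ← hcomul, slice_rTensor]
    show (ψ : G →ₐ[k] K).toLinearMap (slice (α ∘ₗ HopfAlgebra.antipode k) (Δ (Tf y))) = _
    rw [slice_comul_antipode hα, map_smul, AlgHom.toLinearMap_apply, map_one]
    rfl

/-- A quotient with retractions to coinvariants cutting it out is linearly reductive. -/
theorem linearlyReductive_of_retraction (ψ : G →ₐc[k] K) (hψ : Function.Surjective ψ) (B : Subalgebra k G)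
    (hB : ∀ x ∈ B, LinearMap.lTensor G (ψ : G →ₐ[k] K).toLinearMap (Δ x) = x ⊗ₜ[k] (1 : K))
    (hcom : ∀ b ∈ B, Δ b ∈ LinearMap.range ((Subalgebra.toSubmodule B).subtype.lTensor G))
    (hret : ∀ S : Finset G, ∃ (M : Submodule k G) (p : G →ₗ[k] G), (∀ x ∈ S, x ∈ M) ∧ p 1 = 1 ∧
      (∀ x, p x ∈ B) ∧ ∀ (b : ↥B) (x : G), x ∈ M → p ((b : G) * x) = (b : G) * p x)
    (hker : RingHom.ker (ψ : G →ₐ[k] K) ≤
      Ideal.span {x : G | x ∈ B ∧ CoalgebraStruct.counit (R := k) x = 0})
    (hG : IsLinearlyReductive k G) : IsLinearlyReductive k K := by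
  classical
  refine isLinearlyReductive_of_lift fun V W _ _ _ _ _ _ _ _ π hπ hsurj w hw => ?_
  obtain ⟨v₀, hv₀⟩ := hsurj w
  let lψ : G →ₗ[k] K := (ψ : G →ₐ[k] K).toLinearMap
  obtain ⟨σ, hσ⟩ := LinearMap.exists_rightInverse_of_surjective lψ (LinearMap.range_eq_top.2 hψ)
  have hσ' : ∀ c, ψ (σ c) = c := fun c => LinearMap.congr_fun hσ c
  obtain ⟨C, hC⟩ := TensorProduct.exists_finset (Comod.coact (k := k) (A := K) v₀)
  choose U hU using fun c : V × K => TensorProduct.exists_finset (Δ (σ c.2))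
  let D : Finset G := insert (σ 1 - 1)
    (C.biUnion fun c => (U c).image fun x => σ (ψ x.2) - x.2)
  have hD : ∀ d ∈ D, ψ d = 0 := by
    intro d hd
    simp only [D, Finset.mem_insert, Finset.mem_biUnion, Finset.mem_image] at hd
    rcases hd with rfl | ⟨c, _, x, _, rfl⟩ <;> rw [map_sub, hσ'] <;> simp
  obtain ⟨L, hL1, hLD, hLinv⟩ := exists_partial_invariant_of_retraction ψ B hB hcom hret hker hG D hD
  let L' : K →ₗ[k] k := L ∘ₗ σ
  have hL'1 : L' 1 = 1 := by
    have := hLD (σ 1 - 1) (Finset.mem_insert_self _ _)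
    rw [map_sub, hL1, sub_eq_zero] at this
    exact this
  have hinv : ∀ c ∈ C, slice L' (Δ c.2) = L' c.2 • (1 : K) := by
    intro c hc
    conv_lhs => rw [← hσ' c.2, LinRedSeqLib.comul_map ψ, ← LinearMap.lTensor_comp_rTensor,
      LinearMap.comp_apply, slice_lTensor]
    show _ = L (σ c.2) • (1 : K)
    rw [← hLinv (σ c.2), hU c]
    simp only [map_sum, LinearMap.rTensor_tmul, slice_tmul]
    refine Finset.sum_congr rfl fun x hx => ?_
    congr 1
    have := hLD (σ (ψ x.2) - x.2) (Finset.mem_insert_of_mem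
      (Finset.mem_biUnion.2 ⟨c, hc, Finset.mem_image.2 ⟨x, hx, rfl⟩⟩))
    rw [map_sub, sub_eq_zero] at this
    exact this
  refine ⟨slice L' (Comod.coact (k := k) (A := K) v₀), ?_, ?_⟩
  · show Comod.coact (k := k) (A := K) _ = _ ⊗ₜ[k] (1 : K)
    rw [← slice_rTensor, ← LinearEquiv.symm_apply_apply (TensorProduct.assoc k V K K)
      ((Comod.coact (k := k) (A := K)).rTensor K _), coassoc_apply, slice_assoc_symm, hC]
    simp only [map_sum, LinearMap.lTensor_tmul, slice_tmul, TensorProduct.sum_tmul]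
    refine Finset.sum_congr rfl fun c hc => ?_
    rw [hinv c hc, TensorProduct.tmul_smul, TensorProduct.smul_tmul']
  · rw [← slice_rTensor, show LinearMap.rTensor K π (Comod.coact (k := k) (A := K) v₀) =
        Comod.coact (k := k) (A := K) (π v₀) from (LinearMap.congr_fun hπ v₀).symm, hv₀,
      show Comod.coact (k := k) (A := K) w = w ⊗ₜ[k] (1 : K) from hw, slice_tmul, hL'1, one_smul]

end Subgroup

section Orbit

variable {k : Type u} [Field k] [IsAlgClosed k] {A : Type u} [CommRing A] [HopfAlgebra k A]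
  [Algebra.FiniteType k A] {R : Type u} [CommRing R] [Algebra k R] [Algebra.FiniteType k R]
  [Comod k A R] [GLin.IsCoactAlg k A R]

/-- Retractions of the group onto the functions on a closed orbit. -/
theorem exists_orbit_retraction (x : R →ₐ[k] k) (hx : GLin.IsClosedOrbit k A x) (t : Finset A) :
    ∃ l : A →ₗ[k] A, (∀ p ∈ (GLin.orbitHom k A x).range, ∀ a ∈ t, l (p * a) = p * l a) ∧
      (∀ a ∈ t, l a ∈ (GLin.orbitHom k A x).range) ∧ l 1 = 1 := by
  classical
  set C := (GLin.orbitHom k A x).range with hCdef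
  have hC : LunaLib.Stable C := LunaLib.stable_range x
  obtain ⟨r, v, m, hspan, hv, -, -⟩ := GLinFinLib.exists_closed_family (k := k) (H := A) t
  let σ : (A →ₐ[k] k) → A →ₐ[k] A := fun g => GLinFinLib.Zmt.actHom g
  let inv : (A →ₐ[k] k) → (A →ₐ[k] k) := fun g => g.comp (HopfAlgebra.antipodeAlgHom k A)
  have hσC : ∀ g, ∀ c ∈ C, σ g c ∈ C := fun g c hc => by
    show GLinFinLib.Zmt.actHom g c ∈ C
    rw [GLinFinLib.Zmt.actHom_apply]
    have := hC (toConv g.toLinearMap) c hc
    rwa [ComodLib.smul_eq, ofConv_toConv] at this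
  have hσv : ∀ g i, σ g (v i) ∈ Submodule.span k (Set.range v) := fun g i => by
    show GLinFinLib.Zmt.actHom g (v i) ∈ _
    rw [GLinFinLib.Zmt.actHom_apply, hv, map_sum]
    refine sum_mem fun j _ => ?_
    rw [ComodLib.slice_tmul]
    exact Submodule.smul_mem _ _ (Submodule.subset_span ⟨j, rfl⟩)
  let W : Submodule k A := Submodule.span k (Set.range v)
  let Good : (A →ₗ[k] A) → Prop := fun l => (∀ p ∈ C, ∀ a ∈ W, l (p * a) = p * l a) ∧ ∀ a ∈ W, l a ∈ C
  let 𝔞 : Ideal C :=
    { carrier := {u | ∃ l, Good l ∧ l 1 = (u : A)}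
      zero_mem' := ⟨0, ⟨fun p _ a _ => by simp, fun a _ => by simp⟩, by simp⟩
      add_mem' := by
        rintro u u' ⟨l, ⟨h1, h2⟩, h3⟩ ⟨l', ⟨h1', h2'⟩, h3'⟩
        refine ⟨l + l', ⟨fun p hp a ha => ?_, fun a ha => C.add_mem (h2 a ha) (h2' a ha)⟩, ?_⟩
        · simp only [LinearMap.add_apply, h1 p hp a ha, h1' p hp a ha, mul_add]
        · simp [h3, h3']
      smul_mem' := by
        rintro c u ⟨l, ⟨h1, h2⟩, h3⟩
        refine ⟨(LinearMap.mulLeft k (c : A)).comp l, ⟨fun p hp a ha => ?_, fun a ha => C.mul_mem c.2 (h2 a ha)⟩, ?_⟩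
        · simp only [LinearMap.comp_apply, LinearMap.mulLeft_apply, h1 p hp a ha]
          ring
        · simp [h3] }
  have htop : 𝔞 = ⊤ := by
    by_contra hne
    haveI : Algebra.FiniteType k C :=
      Algebra.FiniteType.of_surjective (GLin.orbitHom k A x).rangeRestrict
        (GLin.orbitHom k A x).rangeRestrict_surjective
    obtain ⟨o, ho⟩ := GLinFinLib.exists_point_of_le k hne
    obtain ⟨g₀, hg₀⟩ := LunaLib.Pts.exists_point_lift (LunaLib.surjective_of_isClosedOrbit x hx) o
    obtain ⟨u, huC, hεu, l, hlin, hlC, hl1⟩ := LunaLib.exists_functional hC (Finset.univ.image v)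
    have hl : ∀ p ∈ C, ∀ a ∈ W, l (p * a) = p * l a := by
      intro p hp a ha
      induction ha using Submodule.span_induction with
      | mem a ha => obtain ⟨i, rfl⟩ := ha; exact hlin p hp _ (Finset.mem_image_of_mem _ (Finset.mem_univ i))
      | zero => simp
      | add a b _ _ ha hb => rw [mul_add, map_add, map_add, ha, hb, mul_add]
      | smul c a _ ha => rw [mul_smul_comm, map_smul, map_smul, ha, mul_smul_comm]
    have hlW : ∀ a ∈ W, l a ∈ C := by
      intro a ha
      induction ha using Submodule.span_induction with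
      | mem a ha => obtain ⟨i, rfl⟩ := ha; exact hlC _ (Finset.mem_image_of_mem _ (Finset.mem_univ i))
      | zero => rw [map_zero]; exact C.zero_mem
      | add a b _ _ ha hb => rw [map_add]; exact C.add_mem ha hb
      | smul c a _ ha => rw [map_smul]; exact C.smul_mem ha c
    have hσW : ∀ g, ∀ a ∈ W, σ g a ∈ W := by
      intro g a ha
      induction ha using Submodule.span_induction with
      | mem a ha => obtain ⟨i, rfl⟩ := ha; exact hσv g i
      | zero => rw [map_zero]; exact W.zero_mem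
      | add a b _ _ ha hb => rw [map_add]; exact W.add_mem ha hb
      | smul c a _ ha => rw [map_smul]; exact W.smul_mem c ha
    let g := inv g₀
    have hmem : (⟨σ g u, hσC g u huC⟩ : C) ∈ 𝔞 := by
      refine ⟨(σ g).toLinearMap.comp (l.comp (σ (inv g)).toLinearMap), ⟨fun p hp a ha => ?_, fun a ha => ?_⟩, ?_⟩
      · show σ g (l (σ (inv g) (p * a))) = p * σ g (l (σ (inv g) a))
        rw [map_mul, hl _ (hσC _ p hp) _ (hσW _ a ha), map_mul]
        congr 1
        exact LunaLib.Pts.actHom_inv g p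
      · exact hσC g _ (hlW _ (hσW _ a ha))
      · show σ g (l (σ (inv g) 1)) = σ g u
        rw [map_one, hl1]
    have h0 : o ⟨σ g u, hσC g u huC⟩ = 0 := ho hmem
    rw [← hg₀] at h0
    have h1 : g₀ (σ g u) = 1 := by
      rw [← LunaLib.Pts.counit_actHom g₀]
      show CoalgebraStruct.counit (R := k) (GLinFinLib.Zmt.actHom g₀ (GLinFinLib.Zmt.actHom (inv g₀) u)) = 1
      rw [LunaLib.Pts.actHom_inv, hεu]
    exact one_ne_zero (h1.symm.trans h0)
  obtain ⟨l, ⟨h1, h2⟩, h3⟩ : (1 : C) ∈ 𝔞 := htop ▸ Submodule.mem_top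
  exact ⟨l, fun p hp a ha => h1 p hp a (hspan a ha), fun a ha => h2 a (hspan a ha), h3⟩

/-- The stabiliser of a closed orbit of a linearly reductive group is linearly reductive. -/
theorem isLinearlyReductive_stab (hG : IsLinearlyReductive k A) (x : R →ₐ[k] k) (hx : GLin.IsClosedOrbit k A x) :
    haveI := LunaLib.Pts.isHopfIdeal_stab (A := A) x
    IsLinearlyReductive k (A ⧸ GLin.stabIdeal k A x) := by
  classical
  haveI := LunaLib.Pts.isHopfIdeal_stab (A := A) x
  set I := GLin.stabIdeal k A x with hI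
  let ψ : A →ₐc[k] A ⧸ I := Bialgebra.Quotient.mkBialgHom I
  set C := (GLin.orbitHom k A x).range with hCdef
  let S : A →ₐ[k] A := HopfAlgebra.antipodeAlgHom k A
  have hSS : ∀ a, S (S a) = a := fun a => Groth.Agent.HopfFF.antipode_antipode a
  have hC : LunaLib.Stable C := LunaLib.stable_range x
  refine linearlyReductive_of_retraction ψ Ideal.Quotient.mk_surjective (C.map S) ?_ ?_ ?_ ?_ hG
  · rintro _ ⟨c, ⟨f, rfl⟩, rfl⟩
    have hleft : LinearMap.rTensor A (ψ : A →ₐ[k] A ⧸ I).toLinearMap
        (CoalgebraStruct.comul (R := k) (GLin.orbitHom k A x f)) = (1 : A ⧸ I) ⊗ₜ[k] GLin.orbitHom k A x f := by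
      rw [show CoalgebraStruct.comul (R := k) (GLin.orbitHom k A x f) =
        (GLin.orbitHom k A x).toLinearMap.rTensor A (Comod.coact (k := k) (A := A) f) from
          LinearMap.congr_fun (GLinFinLib.isComodHom_orbitHom x) f, GLinFinLib.orbitHom_apply x f]
      have hψ : ∀ b, (ψ : A →ₐ[k] A ⧸ I) (GLin.orbitHom k A x b) = algebraMap k (A ⧸ I) (x b) :=
        (LunaLib.Pts.kill_iff x (ψ : A →ₐ[k] A ⧸ I)).1 fun a ha => Ideal.Quotient.eq_zero_iff_mem.2 ha
      generalize Comod.coact (k := k) (A := A) f = z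
      induction z with
      | zero => simp
      | add p q hp hq => simp only [map_add, TensorProduct.tmul_add, hp, hq]
      | tmul p q =>
        simp only [LinearMap.rTensor_tmul, AlgHom.toLinearMap_apply, TensorProduct.lid_tmul, hψ]
        rw [Algebra.algebraMap_eq_smul_one, TensorProduct.smul_tmul]
    show LinearMap.lTensor A (ψ : A →ₐ[k] A ⧸ I).toLinearMap
      (CoalgebraStruct.comul (R := k) (S (GLin.orbitHom k A x f))) = S (GLin.orbitHom k A x f) ⊗ₜ[k] (1 : A ⧸ I)
    rw [Groth.Agent.HopfFF.comul_antipode]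
    have key : ∀ z : A ⊗[k] A, LinearMap.lTensor A (ψ : A →ₐ[k] A ⧸ I).toLinearMap
        (TensorProduct.comm k A A (Algebra.TensorProduct.map S S z)) =
        TensorProduct.comm k (A ⧸ I) A (TensorProduct.map (HopfAlgebraStruct.antipode (R := k) (A := A ⧸ I))
          S.toLinearMap (LinearMap.rTensor A (ψ : A →ₐ[k] A ⧸ I).toLinearMap z)) := by
      intro z
      induction z with
      | zero => simp
      | add p q hp hq => simp only [map_add, hp, hq]
      | tmul p q =>
        simp only [Algebra.TensorProduct.map_tmul, TensorProduct.comm_tmul, LinearMap.lTensor_tmul,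
          LinearMap.rTensor_tmul, TensorProduct.map_tmul, AlgHom.toLinearMap_apply]
        exact congrArg (S q ⊗ₜ[k] ·) (Groth.Agent.HopfFF.map_antipode ψ p)
    rw [key, hleft]
    simp [S]
  · rintro _ ⟨c, hc, rfl⟩
    obtain ⟨z, hz⟩ := LunaLib.comul_mem hC (show c ∈ C from hc)
    show CoalgebraStruct.comul (R := k) (S c) ∈ _
    rw [Groth.Agent.HopfFF.comul_antipode, ← hz]
    clear hz
    induction z using TensorProduct.induction_on with
    | zero => simp
    | add p q hp hq => simp only [map_add]; exact add_mem hp hq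
    | tmul p q => exact ⟨S q ⊗ₜ[k] ⟨S p, (p : A), p.2, rfl⟩, rfl⟩
  · intro T
    obtain ⟨l, hl, hlC, hl1⟩ := exists_orbit_retraction x hx (insert 1 (T.image S))
    let M : Submodule k A := Submodule.span k ((insert 1 (T.image S) : Finset A) : Set A)
    have hlM : ∀ a ∈ M, l a ∈ Subalgebra.toSubmodule C := fun a ha =>
      (Submodule.span_le.2 hlC : M ≤ (Subalgebra.toSubmodule C).comap l) ha
    let N : Submodule k A := Submodule.span k
      {a | ∃ p ∈ C, ∃ b ∈ ((insert 1 (T.image S) : Finset A) : Set A), a = p * b}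
    have hlN : ∀ a ∈ N, l a ∈ Subalgebra.toSubmodule C := fun a ha =>
      (Submodule.span_le.2 (by
        rintro _ ⟨p, hp, b, hb, rfl⟩
        show l (p * b) ∈ C
        rw [hl p hp b hb]
        exact C.mul_mem hp (hlC b hb)) : N ≤ (Subalgebra.toSubmodule C).comap l) ha
    obtain ⟨e, he⟩ := LinearMap.exists_extend (l.restrict hlN)
    have heN : ∀ a (ha : a ∈ N), ((e a : Subalgebra.toSubmodule C) : A) = l a := fun a ha =>
      congrArg Subtype.val (LinearMap.congr_fun he ⟨a, ha⟩)
    have hgen : ∀ p ∈ C, ∀ b ∈ M, p * b ∈ N ∧ l (p * b) = p * l b := by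
      intro p hp b hb
      induction hb using Submodule.span_induction with
      | mem b hb => exact ⟨Submodule.subset_span ⟨p, hp, b, hb, rfl⟩, hl p hp b hb⟩
      | zero => simp
      | add a b _ _ ha hb => rw [mul_add, map_add, map_add, mul_add, ha.2, hb.2]; exact ⟨N.add_mem ha.1 hb.1, rfl⟩
      | smul c a _ ha => rw [mul_smul_comm, map_smul, map_smul, mul_smul_comm, ha.2]; exact ⟨N.smul_mem c ha.1, rfl⟩
    have h1M : (1 : A) ∈ M := Submodule.subset_span (Finset.mem_insert_self _ _)
    have hMN : ∀ a ∈ M, a ∈ N := fun a ha => by simpa using (hgen 1 C.one_mem a ha).1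
    let eA : A →ₗ[k] A := (Subalgebra.toSubmodule C).subtype.comp e
    refine ⟨M.comap S.toLinearMap, S.toLinearMap.comp (eA.comp S.toLinearMap), fun a ha => ?_, ?_,
      fun a => ⟨_, (e (S a)).2, rfl⟩, ?_⟩
    · exact Submodule.subset_span (Finset.mem_insert_of_mem (Finset.mem_image_of_mem _ ha))
    · show S (e (S 1) : A) = 1
      rw [map_one, heN 1 (hMN 1 h1M), hl1, map_one]
    · rintro ⟨_, c, hc, rfl⟩ a ha
      show S (e (S (S c * a)) : A) = S c * S (e (S a) : A)
      rw [map_mul, hSS]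
      obtain ⟨h1, h2⟩ := hgen c hc (S a) ha
      rw [heN _ h1, h2, heN (S a) (hMN (S a) ha), map_mul]
  · intro a ha
    have haI : S a ∈ I := Ideal.IsHopfIdeal.antipode_mem (R := k) (Ideal.Quotient.eq_zero_iff_mem.1 ha)
    rw [hI, LunaLib.stabIdeal_eq] at haI
    have h := Ideal.mem_map_of_mem S.toRingHom haI
    rw [LunaLib.augIdeal, Ideal.map_span] at h
    rw [← hSS a]
    refine (Ideal.span_mono ?_) h
    rintro _ ⟨c, ⟨hc, hε⟩, rfl⟩
    refine ⟨⟨c, hc, rfl⟩, ?_⟩
    show CoalgebraStruct.counit (R := k) (HopfAlgebra.antipode k c) = 0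
    rw [HopfAlgebra.counit_antipode, hε]

end Orbit

end HMLib
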