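import Groth.Agent.HMLib.Lie
import Groth.Agent.LunaLib.Normal
import Groth.Agent.HMLib.Faithful
import Groth.Prelude.Def_SGA3t2b

/-! # An infinite linearly reductive group contains a one-parameter subgroup

Engel's theorem and semisimplicity exclude a Lie algebra of nilpotent matrices. -/

set_option autoImplicit false
set_option maxHeartbeats 1000000
set_option synthInstance.maxHeartbeats 400000

noncomputable section

open TensorProduct HopfRep CoordGrp Matrix
open scoped LaurentPolynomial

namespace HMLib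

universe u

variable {k : Type u} [Field k] {N : ℕ} {A : Type u} [CommRing A] [HopfAlgebra k A]

attribute [local instance] LunaLib.Pts.trivComod LunaLib.Pts.trivIsCoactAlg
attribute [local instance 100] LieRing.ofAssociativeRing

namespace Rep

variable (ρ : Rep k A N) [IsAlgClosed k] [CharZero k] [Algebra.FiniteType k A]

theorem InLie.dat_ideal (hG : IsLinearlyReductive k A) (hρ : ρ.IsFaithful) {ξ : Matrix (Fin N) (Fin N) k}
    (h : ρ.InLie ξ) {p : GLn N k} (hp : p ∈ ρ.ideal) : dat ξ (one : GLn N k →ₐ[k] k) p = 0 := by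
  suffices h' : dat ξ (one : GLn N k →ₐ[k] k) p = 0 ∧ (one : GLn N k →ₐ[k] k) p = 0 from h'.1
  have hp' := ideal_le_span hG hρ hp
  clear hp
  induction hp' using Submodule.span_induction with
  | mem f hf =>
    refine ⟨h f hf.2, ?_⟩
    have e : CoalgebraStruct.counit (R := k) ((ρ.hom : GLn N k →ₐ[k] A) f) = (one : GLn N k →ₐ[k] k) f :=
      CoalgHomClass.counit_comp_apply ρ.hom f
    rw [← e, show (ρ.hom : GLn N k →ₐ[k] A) f = 0 from hf.1, map_zero]
  | zero => simp
  | add a b _ _ ha hb => exact ⟨by rw [map_add, ha.1, hb.1, add_zero], by rw [map_add, ha.2, hb.2, add_zero]⟩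
  | smul c a _ ha =>
    exact ⟨by rw [smul_eq_mul, isDer_dat ξ _ c a, ha.1, ha.2, mul_zero, zero_mul, add_zero],
      by rw [smul_eq_mul, map_mul, ha.2, mul_zero]⟩

/-- Matrices of invariant tangent vectors as endomorphisms. -/
def lieSub : LieSubalgebra k (Module.End k (Fin N → k)) where
  carrier := {f | ρ.InLie (LinearMap.toMatrix' f)}
  zero_mem' := fun F _ => by
    rw [map_zero, show (0 : Matrix (Fin N) (Fin N) k) = (0 : k) • 0 from (smul_zero _).symm, dat_smul]
    simp
  add_mem' := fun {a b} ha hb => by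
    show ρ.InLie (LinearMap.toMatrix' (a + b))
    rw [map_add]
    exact InLie.add ρ ha hb
  smul_mem' := fun c a ha => by
    show ρ.InLie (LinearMap.toMatrix' (c • a))
    rw [map_smul]
    exact InLie.smul ρ c ha
  lie_mem' := fun {a b} ha hb => by
    show ρ.InLie (LinearMap.toMatrix' ⁅a, b⁆)
    rw [Ring.lie_def, map_sub, Module.End.mul_eq_comp, Module.End.mul_eq_comp, LinearMap.toMatrix'_comp,
      LinearMap.toMatrix'_comp]
    exact InLie.bracket ρ hb ha

/-- A group whose tangent vectors are nilpotent has none. -/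
theorem eq_zero_of_forall_isNilpotent (hG : IsLinearlyReductive k A) (hρ : ρ.IsFaithful)
    (hnil : ∀ ξ, ρ.InLie ξ → IsNilpotent ξ) {ξ : Matrix (Fin N) (Fin N) k} (hξ : ρ.InLie ξ) : ξ = 0 := by
  classical
  haveI : IsReduced A := Groth.Agent.GrpSchLib.HopfRed.isReduced_of_finiteType (k := k)
  let L := ρ.lieSub
  have hE : LieModule.IsNilpotent L (Fin N → k) := by
    rw [LieModule.isNilpotent_iff_forall' (R := k)]
    rintro ⟨f, hf⟩
    have h1 : IsNilpotent f := by
      have := (hnil _ hf).map (Matrix.toLinAlgEquiv' (R := k) (n := Fin N))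
      rwa [show Matrix.toLinAlgEquiv' (LinearMap.toMatrix' f) = f from Matrix.toLin'_toMatrix' f] at this
    exact h1
  obtain ⟨M, hM⟩ := (LieModule.isNilpotent_iff k L (Fin N → k)).1 hE
  let W : Submodule k (Fin N → k) :=
    { carrier := {w | ∀ η, ρ.InLie η → η *ᵥ w = 0}
      zero_mem' := fun η _ => Matrix.mulVec_zero η
      add_mem' := fun {a b} ha hb η hη => by rw [Matrix.mulVec_add, ha η hη, hb η hη, add_zero]
      smul_mem' := fun c a ha η hη => by rw [Matrix.mulVec_smul, ha η hη, smul_zero] }
  have hact : ∀ (g : A →ₐ[k] k) (c : Fin N → k),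
      LunaLib.Pts.actVec (fun i j => ρ.mat i j) g c = ρ.pmat g *ᵥ c := fun g c => by
    funext i
    show ∑ j, g (ρ.mat i j) • GLinFinLib.Zmt.actHom g (c j) = ∑ j, g (ρ.mat i j) * c j
    refine Finset.sum_congr rfl fun j _ => ?_
    rw [show (GLinFinLib.Zmt.actHom g (c j) : k) = c j from by
      rw [GLinFinLib.Zmt.actHom_apply]
      show ComodLib.slice g.toLinearMap ((c j) ⊗ₜ[k] (1 : A)) = c j
      simp, smul_eq_mul]
  have hstab : ∀ g : A →ₐ[k] k, ∀ c ∈ W, LunaLib.Pts.actVec (fun i j => ρ.mat i j) g c ∈ W := by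
    intro g c hc η hη
    rw [hact]
    set g' : A →ₐ[k] k := g.comp (HopfAlgebra.antipodeAlgHom k A)
    have e : ρ.pmat g * ρ.pmat g' = 1 := by
      have h := congrArg (fun X : Matrix (Fin N) (Fin N) A => X.map g) ρ.mul_antipode
      simp only [Matrix.map_mul, Matrix.map_map, Matrix.map_one g (map_zero g) (map_one g)] at h
      exact h
    have h2 := hc _ (InLie.conj ρ hη g')
    rw [Matrix.inv_eq_left_inv e, ← Matrix.mulVec_mulVec, ← Matrix.mulVec_mulVec] at h2
    have h3 := congrArg (fun x => ρ.pmat g *ᵥ x) h2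
    simp only [Matrix.mulVec_mulVec, ← Matrix.mul_assoc, e, Matrix.one_mul, Matrix.mulVec_zero] at h3
    rwa [Matrix.mulVec_mulVec]
  obtain ⟨π, hπ⟩ := LinearMap.exists_leftInverse_of_injective W.subtype W.ker_subtype
  let P₀ : Matrix (Fin N) (Fin N) k := LinearMap.toMatrix' (W.subtype.comp π)
  have hP₀ : ∀ c, P₀ *ᵥ c = (π c : Fin N → k) := fun c => LinearMap.toMatrix'_mulVec _ c
  obtain ⟨P, hPcol, hPfix, hPeq⟩ := LunaLib.Pts.exists_projection hG (fun i j => ρ.mat i j)
    (fun i j => ρ.comul_mat i j) (fun i j => ρ.counit_mat i j) W hstab P₀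
    (fun j => by
      have e : P₀.col j = P₀ *ᵥ Pi.single j 1 := (Matrix.mulVec_single_one P₀ j).symm
      rw [e, hP₀]
      exact (π _).2)
    (fun c hc => by
      rw [hP₀, show π c = (⟨c, hc⟩ : W) from LinearMap.congr_fun hπ ⟨c, hc⟩])
  have hPA : ρ.mat * P.map (algebraMap k A) = P.map (algebraMap k A) * ρ.mat := by
    have h := congrArg (fun X : Matrix (Fin N) (Fin N) (k ⊗[k] A) => X.map (Algebra.TensorProduct.lid k A)) hPeq
    simp only [Matrix.map_mul, Matrix.map_map] at h
    refine Eq.trans ?_ (h.trans ?_)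
    · congr 1
      · ext i j; simp
      · ext i j
        show _ = Algebra.TensorProduct.lid k A (GLin.coactAlgHom k A k (P i j))
        rw [GLin.coactAlgHom_apply]
        show _ = Algebra.TensorProduct.lid k A (P i j ⊗ₜ[k] (1 : A))
        simp [Algebra.algebraMap_eq_smul_one]
    · congr 1
      · ext i j; simp [Algebra.algebraMap_eq_smul_one]
      · ext i j; simp
  have hcomm : ∀ η, ρ.InLie η → P * η = η * P := by
    intro η hη
    refine Matrix.ext fun i j => ?_
    have hmem : (∑ l, P i l • GLn.X l j - ∑ l, P l j • GLn.X i l : GLn N k) ∈ ρ.ideal := by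
      show (ρ.hom : GLn N k →ₐ[k] A) _ = 0
      have h := congrFun (congrFun hPA i) j
      simp only [Matrix.mul_apply, Matrix.map_apply] at h
      simp only [map_sub, map_sum, map_smul, Algebra.smul_def]
      rw [sub_eq_zero]
      refine Eq.trans ?_ (h.symm.trans ?_)
      · exact Finset.sum_congr rfl fun l _ => (map_mul _ _ _).trans
          (congrArg₂ (· * ·) ((ρ.hom : GLn N k →ₐ[k] A).commutes _) (ρ.hom_X l j))
      · exact Finset.sum_congr rfl fun l _ => (((map_mul _ _ _).trans
          (congrArg₂ (· * ·) ((ρ.hom : GLn N k →ₐ[k] A).commutes _) (ρ.hom_X i l))).trans (mul_comm _ _)).symm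
    have h := InLie.dat_ideal ρ hG hρ hη hmem
    have hX : ∀ a b, dat η (one : GLn N k →ₐ[k] k) (GLn.X a b) = η a b := fun a b => by
      rw [dat_X, ptMat_one, Matrix.mul_one, Algebra.algebraMap_self, RingHom.coe_id, Matrix.map_id]
    simp only [map_sub, map_sum, map_smul, hX, smul_eq_mul, sub_eq_zero] at h
    rw [Matrix.mul_apply, Matrix.mul_apply, h]
    exact Finset.sum_congr rfl fun l _ => mul_comm _ _
  have hPW : ∀ v, P *ᵥ v ∈ W := fun v => by
    have e : P *ᵥ v = ∑ l, v l • P.col l := by
      funext i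
      simp [Matrix.mulVec, dotProduct, Matrix.col, mul_comm]
    rw [e]
    exact W.sum_mem fun l _ => W.smul_mem _ (hPcol l)
  have hdown : ∀ j n, M ≤ n + j → ∀ w ∈ LieModule.lowerCentralSeries k L (Fin N → k) n, P *ᵥ w = 0 → w = 0 := by
    intro j
    induction j with
    | zero =>
      intro n hn w hw _
      have := LieModule.antitone_lowerCentralSeries k L (Fin N → k) (show M ≤ n by omega) hw
      rwa [hM, LieSubmodule.mem_bot] at this
    | succ j ih =>
      intro n hn w hw hPw
      have hwW : w ∈ W := fun η hη => by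
        refine ih (n + 1) (by omega) _ ?_ ?_
        · let x : L := ⟨Matrix.toLin' η, by
            show ρ.InLie (LinearMap.toMatrix' (Matrix.toLin' η))
            rwa [LinearMap.toMatrix'_toLin']⟩
          have e : η *ᵥ w = ⁅x, w⁆ := (Matrix.toLin'_apply η w).symm
          rw [e, LieModule.lowerCentralSeries_succ]
          exact LieSubmodule.lie_mem_lie (LieSubmodule.mem_top x) hw
        · rw [Matrix.mulVec_mulVec, hcomm η hη, ← Matrix.mulVec_mulVec, hPw, Matrix.mulVec_zero]
      rw [← hPfix w hwW, hPw]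
  have hall : ∀ v, v ∈ W := fun v => by
    have h0 := hdown M 0 (by omega) (v - P *ᵥ v) (by rw [LieModule.lowerCentralSeries_zero]; exact LieSubmodule.mem_top _)
      (by rw [Matrix.mulVec_sub, hPfix _ (hPW v), sub_self])
    rw [sub_eq_zero] at h0
    rw [h0]
    exact hPW v
  refine Matrix.ext fun i j => ?_
  have := congrFun (hall (Pi.single j 1) ξ hξ) i
  rwa [Matrix.mulVec_single_one] at this

omit [CharZero k] in
/-- A group with no tangent vectors is finite. -/
theorem finite_of_inLie_eq_zero (hρ : ρ.IsFaithful) (h0 : ∀ ξ, ρ.InLie ξ → ξ = 0) : Module.Finite k A := by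
  classical
  let ε := Bialgebra.counitAlgHom k A
  have hε : ∀ δ : A →ₗ[k] k, (∀ a b, δ (a * b) = ε a * δ b + ε b * δ a) → δ = 0 := by
    intro δ hδ
    set ξ : Matrix (Fin N) (Fin N) k := Matrix.of fun i j => δ (ρ.mat i j) with hξdef
    have e : dat ξ (one : GLn N k →ₐ[k] k) = δ.comp (ρ.hom : GLn N k →ₐ[k] A).toLinearMap := by
      refine IsDer.ext (y := one) (isDer_dat _ _) (fun F G => ?_) fun i j => ?_
      · simp only [LinearMap.comp_apply, AlgHom.toLinearMap_apply, map_mul, hδ]
        have e1 : ∀ x, ε ((ρ.hom : GLn N k →ₐ[k] A) x) = (one : GLn N k →ₐ[k] k) x := fun x =>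
          CoalgHomClass.counit_comp_apply ρ.hom x
        rw [e1, e1]
      · rw [dat_X, ptMat_one, Matrix.mul_one, Algebra.algebraMap_self, RingHom.coe_id, Matrix.map_id]
        show δ (ρ.mat i j) = δ ((ρ.hom : GLn N k →ₐ[k] A) (GLn.X i j))
        exact congrArg δ (ρ.hom_X i j).symm
    have h1 : δ 1 = 0 := by
      have := hδ 1 1
      rw [mul_one, map_one ε, one_mul] at this
      linear_combination -this
    have hmem : ρ.InLie ξ := fun F hF => by
      rw [e, LinearMap.comp_apply, AlgHom.toLinearMap_apply]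
      letI := ρ.comod
      haveI := ρ.isCoactAlg
      rw [← orbitHom_one, GLinFinLib.orbitHom_invariant (one : GLn N k →ₐ[k] k)
        (show F ∈ GLin.invariants k A _ from hF), Algebra.algebraMap_eq_smul_one, map_smul, h1, smul_zero]
    refine LinearMap.ext fun a => ?_
    obtain ⟨p, rfl⟩ := hom_surjective hρ a
    have := LinearMap.congr_fun e p
    rw [LinearMap.comp_apply, AlgHom.toLinearMap_apply] at this
    rw [← this, h0 ξ hmem, show (0 : Matrix (Fin N) (Fin N) k) = (0 : k) • 0 from (smul_zero _).symm, dat_smul]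
    simp
  have hder : ∀ (g : A →ₐ[k] k) (δ : A →ₗ[k] k), (∀ a b, δ (a * b) = g a * δ b + g b * δ a) → δ = 0 := by
    intro g δ hδ
    let g' : A →ₐ[k] k := g.comp (HopfAlgebra.antipodeAlgHom k A)
    let σ : A →ₐ[k] A := GLinFinLib.Zmt.actHom g'
    have hg : ∀ a, g (σ a) = ε a := fun a => by
      rw [← LunaLib.Pts.counit_actHom g (σ a), LunaLib.Pts.actHom_inv]
      rfl
    have h1 := hε (δ.comp σ.toLinearMap) fun a b => by
      simp only [LinearMap.comp_apply, AlgHom.toLinearMap_apply, map_mul, hδ, hg]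
    refine LinearMap.ext fun a => ?_
    obtain ⟨b, rfl⟩ := (LunaLib.Pts.actHom_bijective (R := A) g').2 a
    exact LinearMap.congr_fun h1 b
  haveI : IsNoetherianRing A := Algebra.FiniteType.isNoetherianRing k A
  have hmax : ∀ p : Ideal A, p.IsPrime → p.IsMaximal := by
    intro p hp
    obtain ⟨M, hM, hpM⟩ := Ideal.exists_le_maximal p hp.ne_top
    obtain ⟨g, hg⟩ := GLinFinLib.exists_point_of_le k hM.ne_top
    have hker : RingHom.ker g = M := (hM.eq_of_le (RingHom.ker_ne_top _) hg).symm
    have hsq : ∀ a ∈ M, a ∈ M * M := by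
      intro a ha
      by_contra hn
      let U : Submodule k A := (M * M).restrictScalars k ⊔ k ∙ (1 : A)
      have haU : a ∉ U := by
        intro h
        obtain ⟨x, hx, y, hy, hxy⟩ := Submodule.mem_sup.1 h
        obtain ⟨c, rfl⟩ := Submodule.mem_span_singleton.1 hy
        have hxM : g x = 0 := RingHom.mem_ker.1 (hker ▸ Ideal.mul_le_left hx)
        have hc : c = 0 := by
          have h2 := congrArg g hxy
          rw [map_add, map_smul, map_one, hxM, zero_add, smul_eq_mul, mul_one,
            show g a = 0 from RingHom.mem_ker.1 (hker ▸ ha)] at h2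
          exact h2
        rw [hc, zero_smul, add_zero] at hxy
        exact hn (hxy ▸ hx)
      obtain ⟨f, hfa, hfU⟩ := Submodule.exists_dual_map_eq_bot_of_notMem haU inferInstance
      have hf0 : ∀ x ∈ U, f x = 0 := fun x hx => by
        have := Submodule.mem_map_of_mem (f := f) hx
        rwa [hfU, Submodule.mem_bot] at this
      refine hfa ?_
      rw [hder g f fun a b => ?_, LinearMap.zero_apply]
      have h1 : (a - algebraMap k A (g a)) * (b - algebraMap k A (g b)) ∈ M * M :=
        Ideal.mul_mem_mul (hker ▸ RingHom.mem_ker.2 (by simp)) (hker ▸ RingHom.mem_ker.2 (by simp))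
      have h2 := hf0 _ (Submodule.mem_sup_left (show _ ∈ (M * M).restrictScalars k from h1))
      have hone : f 1 = 0 := hf0 _ (Submodule.mem_sup_right (Submodule.mem_span_singleton_self _))
      have e : (a - algebraMap k A (g a)) * (b - algebraMap k A (g b)) =
          a * b - g a • b - g b • a + (g a * g b) • 1 := by
        simp only [Algebra.smul_def, map_mul, mul_one]
        ring
      rw [e, map_add, map_sub, map_sub, map_smul, map_smul, map_smul, hone, smul_zero, add_zero] at h2
      simp only [smul_eq_mul] at h2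
      linear_combination h2
    obtain ⟨e, he, hMe⟩ := (Ideal.isIdempotentElem_iff_of_fg M (IsNoetherian.noetherian _)).1
      (le_antisymm Ideal.mul_le_left hsq)
    suffices p = M from this ▸ hM
    refine le_antisymm hpM ?_
    rw [hMe, Ideal.submodule_span_eq, Ideal.span_le, Set.singleton_subset_iff]
    have h0 : e * (1 - e) ∈ p := by
      rw [mul_sub, mul_one, he, sub_self]
      exact p.zero_mem
    refine (hp.mem_or_mem h0).resolve_right fun h => hM.ne_top ((Ideal.eq_top_iff_one _).2 ?_)
    have h' : e ∈ M := by rw [hMe]; exact Submodule.mem_span_singleton_self e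
    simpa using M.add_mem (hpM h) h'
  haveI : Ring.KrullDimLE 0 A := Ring.krullDimLE_zero_iff.2 hmax
  haveI : IsArtinianRing A := isArtinianRing_iff_isNoetherianRing_krullDimLE_zero.2 ⟨inferInstance, inferInstance⟩
  exact (Module.finite_iff_isArtinianRing k A).2 inferInstance

end Rep

variable [IsAlgClosed k] [CharZero k] [Algebra.FiniteType k A]

/-- An infinite linearly reductive group has a non-trivial one-parameter subgroup. -/
theorem exists_nontrivial_oneParam (hG : IsLinearlyReductive k A) (hinf : ¬ Module.Finite k A) :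
    ∃ lam : A →ₐc[k] k[T;T⁻¹], ¬ SGA3t2b.IsTrivialBialgHom lam := by
  classical
  obtain ⟨r, m, hmul, hone, hgen⟩ := exists_generating_mat (k := k) (A := A)
  let ρ : Rep k A r := ⟨Matrix.of m, hmul, hone⟩
  have hρ : ρ.IsFaithful := hgen
  by_cases hnil : ∀ ξ, ρ.InLie ξ → IsNilpotent ξ
  · exact absurd (ρ.finite_of_inLie_eq_zero hρ fun ξ hξ => ρ.eq_zero_of_forall_isNilpotent hG hρ hnil hξ) hinf
  · push Not at hnil
    obtain ⟨ξ, hξ, hn⟩ := hnil
    obtain ⟨lam, hlam⟩ := ρ.exists_lam_of_not_isNilpotent hG hρ hξ hn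
    refine ⟨lam, fun htriv => hlam (Matrix.ext fun i j => ?_)⟩
    rw [Matrix.map_apply, htriv, ρ.counit_mat, Matrix.one_apply]
    split_ifs <;> simp

end HMLib
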