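import Groth.Agent.HMLib.Crit
import Groth.Agent.HMLib.Stab
import Groth.Agent.HMLib.Torus

/-! # The numerical criterion of stability -/

set_option autoImplicit false
set_option maxHeartbeats 1000000
set_option synthInstance.maxHeartbeats 400000

noncomputable section

open TensorProduct HopfRep
open LaurentPolynomial (T)
open scoped LaurentPolynomial

namespace HMLib

universe u

variable {k : Type u} [Field k] {A : Type u} [CommRing A] [HopfAlgebra k A]
  {R : Type u} [CommRing R] [Algebra k R] [Comod k A R] [GLin.IsCoactAlg k A R]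

/-- A limit point is fixed by the one-parameter subgroup. -/
theorem lamOrbit_limit (lam : A →ₐc[k] k[T;T⁻¹]) {x y : R →ₐ[k] k} (h : GLin.IsLimit k A lam x y) :
    GLin.lamOrbit k A lam y = (Algebra.ofId k k[T;T⁻¹]).comp y := by
  obtain ⟨p, hp, hp0⟩ := h
  have hy : ∀ b, cf 0 (GLin.lamOrbit k A lam x b) = y b := fun b => by
    rw [← hp, ← hp0, AlgHom.comp_apply, AlgHom.comp_apply, Polynomial.toLaurentAlg_apply]
    exact (Groth.Agent.GLinMu.coeff_toLaurent_nat (p b) 0).trans
      ((Polynomial.coeff_zero_eq_eval_zero _).trans (by simp))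
  let L : A →ₗ[k] k[T;T⁻¹] := (lam : A →ₐ[k] k[T;T⁻¹]).toLinearMap
  have hL : ∀ a, CoalgebraStruct.comul (R := k) (L a) =
      TensorProduct.map L L (CoalgebraStruct.comul (R := k) a) := fun a =>
    (CoalgHomClass.map_comp_comul_apply lam a).symm
  let E : k[T;T⁻¹] ⊗[k] k[T;T⁻¹] →ₗ[k] k[T;T⁻¹] :=
    (TensorProduct.lid k k[T;T⁻¹]).toLinearMap ∘ₗ (cf 0).rTensor k[T;T⁻¹]
  have hE : ∀ f : k[T;T⁻¹], E (CoalgebraStruct.comul (R := k) f) = algebraMap k k[T;T⁻¹] (cf 0 f) := by
    intro f
    induction f using LaurentPolynomial.induction_on' with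
    | add p q hp hq => rw [map_add, map_add, map_add, map_add, hp, hq]
    | C_mul_T n r =>
      rw [show LaurentPolynomial.C r * T n = r • (T n : k[T;T⁻¹]) from by
        rw [Algebra.smul_def, LaurentPolynomial.algebraMap_apply]; rfl]
      simp only [map_smul, LaurentPolynomial.comul_T, E, LinearMap.comp_apply, LinearMap.rTensor_tmul,
        LinearEquiv.coe_coe, TensorProduct.lid_tmul, cf_T]
      by_cases hn : n = 0
      · subst hn
        simp [Algebra.smul_def]
      · simp [hn]
  refine AlgHom.ext fun f => ?_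
  show L (GLin.orbitHom k A y f) = algebraMap k k[T;T⁻¹] (y f)
  rw [← hy f]
  show _ = algebraMap k k[T;T⁻¹] (cf 0 (L (GLin.orbitHom k A x f)))
  rw [← hE, hL, show CoalgebraStruct.comul (R := k) (GLin.orbitHom k A x f) =
    (GLin.orbitHom k A x).toLinearMap.rTensor A (Comod.coact (k := k) (A := A) f) from
      LinearMap.congr_fun (GLinFinLib.isComodHom_orbitHom x) f, GLinFinLib.orbitHom_apply y f]
  generalize Comod.coact (k := k) (A := A) f = z
  induction z with
  | zero => simp
  | add a b ha hb => simp only [map_add, ha, hb]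
  | tmul a b =>
    simp only [LinearMap.rTensor_tmul, TensorProduct.lid_tmul, TensorProduct.map_tmul, E, LinearMap.comp_apply,
      LinearEquiv.coe_coe, AlgHom.toLinearMap_apply, map_smul]
    rw [show cf 0 (L (GLin.orbitHom k A x a)) = y a from hy a]

/-- A one-parameter subgroup with finitely many values is trivial. -/
theorem trivial_of_finite [Infinite k] (lam : A →ₐc[k] k[T;T⁻¹])
    (h : (Set.range fun c : kˣ => (evalC c).comp (lam : A →ₐ[k] k[T;T⁻¹])).Finite) :
    SGA3t2b.IsTrivialBialgHom lam := by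
  classical
  intro a
  let V := h.toFinset.image fun g => g a
  set f : k[T;T⁻¹] := lam a with hf
  have hprod : (∏ r ∈ V, (f - algebraMap k k[T;T⁻¹] r)) = 0 := by
    refine eq_zero_of_evalC _ fun c => ?_
    rw [map_prod]
    refine Finset.prod_eq_zero (i := evalC c f) ?_ ?_
    · exact Finset.mem_image.2 ⟨_, h.mem_toFinset.2 ⟨c, rfl⟩, rfl⟩
    · rw [map_sub, AlgHom.commutes, Algebra.algebraMap_self_apply, sub_self]
  obtain ⟨r, -, hr⟩ := Finset.prod_eq_zero_iff.1 hprod
  rw [sub_eq_zero] at hr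
  have hc : CoalgebraStruct.counit (R := k) (lam a) = CoalgebraStruct.counit (R := k) a :=
    CoalgHomClass.counit_comp_apply lam a
  rw [← hf, hr, Bialgebra.counit_algebraMap] at hc
  show f = _
  rw [hr, hc]

variable [IsAlgClosed k] [CharZero k] [Algebra.FiniteType k A]

/-- A closed orbit with infinite stabiliser is fixed by a one-parameter subgroup. -/
theorem exists_fixing_oneParam [Algebra.FiniteType k R] (hG : IsLinearlyReductive k A) {x : R →ₐ[k] k}
    (hx : GLin.IsClosedOrbit k A x) (hinf : ¬ GLin.HasFiniteStab k A x) :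
    ∃ lam : A →ₐc[k] k[T;T⁻¹], ¬ SGA3t2b.IsTrivialBialgHom lam ∧
      GLin.lamOrbit k A lam x = (Algebra.ofId k k[T;T⁻¹]).comp x := by
  haveI := LunaLib.Pts.isHopfIdeal_stab (A := A) x
  haveI : Algebra.FiniteType k (A ⧸ GLin.stabIdeal k A x) :=
    Algebra.FiniteType.of_surjective (Ideal.Quotient.mkₐ k _) Ideal.Quotient.mk_surjective
  obtain ⟨lam₀, hlam₀⟩ := exists_nontrivial_oneParam (isLinearlyReductive_stab hG x hx) hinf
  let ψ : A →ₐc[k] A ⧸ GLin.stabIdeal k A x := Bialgebra.Quotient.mkBialgHom _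
  refine ⟨lam₀.comp ψ, fun htriv => hlam₀ fun b => ?_, ?_⟩
  · obtain ⟨a, rfl⟩ := Ideal.Quotient.mk_surjective b
    refine (htriv a).trans ?_
    congr 1
  · refine AlgHom.ext fun f => ?_
    show lam₀ (ψ (GLin.orbitHom k A x f)) = algebraMap k k[T;T⁻¹] (x f)
    have h := (LunaLib.Pts.kill_iff x (ψ : A →ₐ[k] A ⧸ GLin.stabIdeal k A x)).1
      (fun a ha => Ideal.Quotient.eq_zero_iff_mem.2 ha) f
    rw [show ψ (GLin.orbitHom k A x f) = algebraMap k _ (x f) from h]
    exact (lam₀ : A ⧸ GLin.stabIdeal k A x →ₐ[k] k[T;T⁻¹]).commutes _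

/-- A one-parameter subgroup fixing a point with finite stabiliser is trivial. -/
theorem trivial_of_fixes [Algebra.FiniteType k R] {y : R →ₐ[k] k}
    (hfin : {g : A →ₐ[k] k | GLin.actPt k g y = y}.Finite) (lam : A →ₐc[k] k[T;T⁻¹])
    (h : GLin.lamOrbit k A lam y = (Algebra.ofId k k[T;T⁻¹]).comp y) : SGA3t2b.IsTrivialBialgHom lam := by
  haveI : Infinite k := inferInstance
  refine trivial_of_finite lam (hfin.subset ?_)
  rintro _ ⟨c, rfl⟩
  refine AlgHom.ext fun f => ?_
  show evalC c (GLin.lamOrbit k A lam y f) = y f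
  rw [h]
  show evalC c (algebraMap k k[T;T⁻¹] (y f)) = y f
  rw [AlgHom.commutes]
  rfl

variable {ι : Type u} [Fintype ι] [Comod k A (MvPolynomial ι k)] [GLin.IsCoactAlg k A (MvPolynomial ι k)]

theorem stable_iff (hG : IsLinearlyReductive k A) (hlin : GLin.IsLinear k A ι) (v : ι → k) (hv : v ≠ 0) :
    GLin.IsStableVec k A v ↔
      ∀ lam : A →ₐc[k] k[T;T⁻¹], ¬ SGA3t2b.IsTrivialBialgHom lam →
        ∀ m : ℤ, GLin.IsMu k A lam v m → 0 < m := by
  classical
  set x := GLin.vecPt k ι v with hx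
  constructor
  · rintro ⟨hcl, hfin⟩ lam hne m hm
    have hcl' := (GLinFinLib.isClosedOrbit_iff x).1 hcl
    have hfin' := (GLinFinLib.hasFiniteStab_iff x).1 hfin
    by_contra hneg
    have hlim : GLin.HasLimit k A lam x := by
      by_contra hno
      obtain ⟨m', hm', hpos⟩ := (Groth.Agent.S12545.result k A ι hlin lam v hv).1.1 hno
      obtain ⟨m₀, -, hu⟩ := Groth.Agent.GLinMu.existsUnique_isMu lam hv
      rw [hu m hm, ← hu m' hm'] at hneg
      exact hneg hpos
    obtain ⟨p, hp⟩ := hlim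
    set y := (Polynomial.aeval (0 : k)).comp p
    have hy : GLin.IsLimit k A lam x y := ⟨p, hp, rfl⟩
    obtain ⟨g, hg⟩ := hcl' y (inOrbitClosure_of_isLimit hy)
    have hfy := (GLinFinLib.stable_iff_fibre hG x).1 ⟨hcl', hfin'⟩ y
      (fun f hf => by rw [← hg]; exact GLinFinLib.eq_on_invariants_actPt g x hf)
    exact hne (trivial_of_fixes hfy lam (lamOrbit_limit lam hy))
  · intro h
    obtain ⟨q, hqv, hq, hmem, -⟩ := GLinFinLib.exists_closed_in_fibre hG x
    let w : ι → k := fun i => q (MvPolynomial.X i)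
    have hw : GLin.vecPt k ι w = q := MvPolynomial.algHom_ext fun i => by simp [w]
    obtain ⟨lam, g, hlim⟩ := exists_oneParam hG hlin v w (by rw [hw]; exact hmem x fun _ _ => rfl)
      (by rw [hw]; exact hq)
    have htriv : SGA3t2b.IsTrivialBialgHom lam := by
      by_contra hne
      obtain ⟨m, hm, hu⟩ := Groth.Agent.GLinMu.existsUnique_isMu lam hv
      obtain ⟨p, hp, -⟩ := hlim
      have hnot : ¬ GLin.HasLimit k A lam x := (Groth.Agent.S12545.result k A ι hlin lam v hv).1.2 ⟨m, hm, h lam hne m hm⟩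
      exact hnot ⟨p, hp⟩
    have hvq : x = GLin.actPt k g q := by
      have := (isLimit_of_const (lamOrbit_of_trivial htriv x)).unique hlim
      rwa [hw] at this
    have hcl : GLinFinLib.IsPointClosed k A x := by
      intro z hz
      have hz' : GLin.InOrbitClosure k A q z := by
        show RingHom.ker (GLin.orbitHom k A q) ≤ _
        rw [← GLinFinLib.ker_orbitHom_actPt g q, ← hvq]
        exact hz
      obtain ⟨g', hg'⟩ := hq z hz'
      obtain ⟨g₂, hg₂⟩ := GLinFinLib.exists_actPt_symm hvq.symm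
      exact ⟨g'.comp (GLinFinLib.translate g₂), by rw [← GLinFinLib.actPt_actPt, hg₂, hg']⟩
    have hcl' : GLin.IsClosedOrbit k A x := (GLinFinLib.isClosedOrbit_iff x).2 hcl
    refine ⟨hcl', ?_⟩
    by_contra hinf
    obtain ⟨lam', hne, hfix⟩ := exists_fixing_oneParam hG hcl' hinf
    have hl := isLimit_of_const hfix
    have hmu : GLin.IsMu k A lam' v 0 := by
      refine (Groth.Agent.S12545.result k A ι hlin lam' v hv).2.1.1 ⟨?_, fun h0 => hv ?_⟩
      · obtain ⟨p, hp, -⟩ := hl
        exact ⟨p, hp⟩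
      · have e := hl.unique h0
        funext i
        simpa [x] using AlgHom.congr_fun e (MvPolynomial.X i)
    exact absurd (h lam' hne 0 hmu) (lt_irrefl 0)

end HMLib
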