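import Groth.Agent.HMLib.Base
import Groth.Agent.S18834
import Groth.Agent.GrpSchLib.Cartier
import Mathlib.Algebra.DualNumber

/-! # Tangent vectors of `GL_N / G`

In characteristic zero every derivation of the invariant functions at a point comes from a tangent vector
of `GL_N`. -/

set_option autoImplicit false
set_option maxHeartbeats 1000000
set_option synthInstance.maxHeartbeats 400000

noncomputable section

open TensorProduct HopfRep CoordGrp TrivSqZeroExt

namespace HMLib

universe u v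

variable {k : Type u} [Field k] {N : ℕ}

section Der

variable {B : Type v} [CommRing B] [Algebra k B]

/-- A derivation along a point. -/
def IsDer (y : GLn N k →ₐ[k] B) (L : GLn N k →ₗ[k] B) : Prop :=
  ∀ F G, L (F * G) = y F * L G + y G * L F

theorem IsDer.map_one {y : GLn N k →ₐ[k] B} {L : GLn N k →ₗ[k] B} (h : IsDer y L) : L 1 = 0 := by
  have := h 1 1
  rw [mul_one, _root_.map_one y, one_mul] at this
  linear_combination -this

/-- The dual-number point of a derivation. -/
def derHom (y : GLn N k →ₐ[k] B) (L : GLn N k →ₗ[k] B) (h : IsDer y L) : GLn N k →ₐ[k] DualNumber B :=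
  AlgHom.ofLinearMap
    { toFun := fun F => inl (y F) + inr (L F)
      map_add' := fun F G => by ext <;> simp
      map_smul' := fun c F => by ext <;> simp }
    (by ext <;> simp [h.map_one])
    (fun F G => by
      ext
      · simp
      · simp [h F G, mul_comm])

theorem IsDer.ext {y : GLn N k →ₐ[k] B} {L₁ L₂ : GLn N k →ₗ[k] B} (h₁ : IsDer y L₁) (h₂ : IsDer y L₂)
    (hX : ∀ i j, L₁ (GLn.X i j) = L₂ (GLn.X i j)) : L₁ = L₂ := by
  have e : derHom y L₁ h₁ = derHom y L₂ h₂ := gl_ext fun i j => by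
    show inl (y (GLn.X i j)) + inr (L₁ (GLn.X i j)) = inl (y (GLn.X i j)) + inr (L₂ (GLn.X i j))
    rw [hX]
  refine LinearMap.ext fun F => ?_
  simpa [derHom] using congrArg (fun φ : GLn N k →ₐ[k] DualNumber B => (φ F).snd) e

/-- The first order matrix `1 + ε ξ`. -/
def pert (ξ : Matrix (Fin N) (Fin N) k) : Matrix (Fin N) (Fin N) (DualNumber B) :=
  Matrix.of fun i j => inl ((1 : Matrix (Fin N) (Fin N) B) i j) + inr (algebraMap k B (ξ i j))

theorem map_fst_mul (M M' : Matrix (Fin N) (Fin N) (DualNumber B)) :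
    (M * M').map fst = M.map fst * M'.map fst := by
  ext i j
  simp [Matrix.mul_apply, TrivSqZeroExt.fst_sum]

theorem map_snd_mul (M M' : Matrix (Fin N) (Fin N) (DualNumber B)) :
    (M * M').map snd = M.map fst * M'.map snd + M.map snd * M'.map fst := by
  ext i j
  simp [Matrix.mul_apply, TrivSqZeroExt.snd_sum, Finset.sum_add_distrib, mul_comm]

theorem dual_ext {M M' : Matrix (Fin N) (Fin N) (DualNumber B)} (h1 : M.map fst = M'.map fst)
    (h2 : M.map snd = M'.map snd) : M = M' := by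
  ext i j
  · exact congrFun (congrFun h1 i) j
  · exact congrFun (congrFun h2 i) j

theorem pert_fst (ξ : Matrix (Fin N) (Fin N) k) : (pert (B := B) ξ).map fst = 1 := by
  ext i j; simp [pert]

theorem pert_snd (ξ : Matrix (Fin N) (Fin N) k) : (pert (B := B) ξ).map snd = ξ.map (algebraMap k B) := by
  ext i j; simp [pert, Algebra.algebraMap_eq_smul_one]

theorem isUnit_det_pert (ξ : Matrix (Fin N) (Fin N) k) : IsUnit (pert (B := B) ξ).det := by
  have e : pert (B := B) ξ * pert (-ξ) = 1 := by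
    refine dual_ext ?_ ?_
    · rw [map_fst_mul, pert_fst, pert_fst, one_mul]
      exact (Matrix.map_one _ rfl (by simp)).symm
    · rw [map_snd_mul, pert_fst, pert_fst, pert_snd, pert_snd, one_mul, mul_one]
      ext i j
      simp [Matrix.one_apply, apply_ite]
  exact IsUnit.of_mul_eq_one _ (by rw [← Matrix.det_mul, e, Matrix.det_one])

/-- The tangent point `(1 + ε ξ) y`. -/
def dpt (ξ : Matrix (Fin N) (Fin N) k) (y : GLn N k →ₐ[k] B) : GLn N k →ₐ[k] DualNumber B :=
  matPt (pert ξ * (ptMat y).map (inlHom B B)) (by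
    rw [Matrix.det_mul]
    refine (isUnit_det_pert ξ).mul ?_
    rw [show ((ptMat y).map (inlHom B B)).det = inlHom B B (ptMat y).det from (RingHom.map_det _ _).symm]
    exact (isUnit_det_ptMat y).map _)

theorem fst_dpt (ξ : Matrix (Fin N) (Fin N) k) (y : GLn N k →ₐ[k] B) :
    (fstHom k B B).comp (dpt ξ y) = y := by
  refine pt_ext ?_
  rw [ptMat_comp, dpt, ptMat_matPt]
  show (pert ξ * (ptMat y).map (inlHom B B)).map fst = _
  rw [map_fst_mul, pert_fst, one_mul]
  ext i j; simp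

/-- The derivative along `ξ`. -/
def dat (ξ : Matrix (Fin N) (Fin N) k) (y : GLn N k →ₐ[k] B) : GLn N k →ₗ[k] B where
  toFun F := (dpt ξ y F).snd
  map_add' := by simp
  map_smul' := by simp

theorem isDer_dat (ξ : Matrix (Fin N) (Fin N) k) (y : GLn N k →ₐ[k] B) : IsDer y (dat ξ y) := by
  intro F G
  have hf : ∀ H, (dpt ξ y H).fst = y H := fun H => AlgHom.congr_fun (fst_dpt ξ y) H
  show (dpt ξ y (F * G)).snd = y F * (dpt ξ y G).snd + y G * (dpt ξ y F).snd
  rw [map_mul, DualNumber.snd_mul, hf, hf, mul_comm (dpt ξ y F).snd]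

theorem dat_X (ξ : Matrix (Fin N) (Fin N) k) (y : GLn N k →ₐ[k] B) (i j : Fin N) :
    dat ξ y (GLn.X i j) = (ξ.map (algebraMap k B) * ptMat y) i j := by
  show (dpt ξ y (GLn.X i j)).snd = _
  rw [← ptMat_apply (dpt ξ y), dpt, ptMat_matPt]
  have h := congrFun (congrFun (map_snd_mul (pert (B := B) ξ) ((ptMat y).map (inlHom B B))) i) j
  rw [Matrix.map_apply] at h
  rw [h, pert_fst, pert_snd]
  simp [Matrix.mul_apply, Matrix.map, Matrix.one_apply]

theorem dat_natural {C : Type v} [CommRing C] [Algebra k C] (f : B →ₐ[k] C) (ξ : Matrix (Fin N) (Fin N) k)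
    (y : GLn N k →ₐ[k] B) (F : GLn N k) : f (dat ξ y F) = dat ξ (f.comp y) F := by
  have h : f.toLinearMap.comp (dat ξ y) = dat ξ (f.comp y) := by
    refine IsDer.ext (y := f.comp y) (fun F G => ?_) (isDer_dat _ _) fun i j => ?_
    · simp [isDer_dat ξ y F G]
    · simp [dat_X, Matrix.mul_apply]
  exact LinearMap.congr_fun h F

theorem dat_sum {σ : Type*} (s : Finset σ) (c : σ → k) (ξ : σ → Matrix (Fin N) (Fin N) k)
    (y : GLn N k →ₐ[k] B) : dat (∑ t ∈ s, c t • ξ t) y = ∑ t ∈ s, c t • dat (ξ t) y := by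
  refine IsDer.ext (isDer_dat _ _) (fun F G => ?_) fun i j => ?_
  · simp only [LinearMap.sum_apply, LinearMap.smul_apply, isDer_dat _ y F G, Finset.mul_sum, smul_add,
      Finset.sum_add_distrib, mul_smul_comm]
  · simp only [LinearMap.sum_apply, LinearMap.smul_apply, dat_X]
    simp only [Matrix.mul_apply, Matrix.map_apply, Matrix.sum_apply, Matrix.smul_apply, smul_eq_mul, map_sum,
      map_mul, Finset.sum_mul, Finset.smul_sum]
    rw [Finset.sum_comm]
    simp [Algebra.smul_def, mul_assoc]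

end Der

/-- Left translation by an invertible matrix. -/
def ltrans (u : Matrix (Fin N) (Fin N) k) (hu : IsUnit u.det) : GLn N k →ₐ[k] GLn N k :=
  matPt (u.map (algebraMap k (GLn N k)) * ptMat (AlgHom.id k (GLn N k))) (by
    rw [Matrix.det_mul]
    refine IsUnit.mul ?_ (isUnit_det_ptMat _)
    rw [← RingHom.mapMatrix_apply, ← RingHom.map_det]
    exact hu.map _)

theorem ptMat_ltrans {B : Type v} [CommRing B] [Algebra k B] (y : GLn N k →ₐ[k] B)
    (u : Matrix (Fin N) (Fin N) k) (hu : IsUnit u.det) :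
    ptMat (y.comp (ltrans u hu)) = u.map (algebraMap k B) * ptMat y := by
  ext i j
  rw [ptMat_apply, AlgHom.comp_apply, ← ptMat_apply (ltrans u hu), ltrans, ptMat_matPt]
  simp [Matrix.mul_apply]

theorem dat_ltrans {B : Type v} [CommRing B] [Algebra k B] (ξ : Matrix (Fin N) (Fin N) k)
    (y : GLn N k →ₐ[k] B) (u : Matrix (Fin N) (Fin N) k) (hu : IsUnit u.det) (F : GLn N k) :
    dat ξ y (ltrans u hu F) = dat (u * ξ * u⁻¹) (y.comp (ltrans u hu)) F := by
  have h : (dat ξ y).comp (ltrans u hu).toLinearMap = dat (u * ξ * u⁻¹) (y.comp (ltrans u hu)) := by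
    refine IsDer.ext (y := y.comp (ltrans u hu)) (fun F G => ?_) (isDer_dat _ _) fun i j => ?_
    · simp [isDer_dat ξ y (ltrans u hu F) (ltrans u hu G)]
    · rw [dat_X, ptMat_ltrans, ← Matrix.mul_assoc, ← Matrix.map_mul, Matrix.nonsing_inv_mul_cancel_right _ _ hu,
        Matrix.map_mul, Matrix.mul_assoc, LinearMap.comp_apply, AlgHom.toLinearMap_apply,
        ← ptMat_apply (ltrans u hu), ltrans, ptMat_matPt, Matrix.mul_apply, map_sum, Matrix.mul_apply]
      refine Finset.sum_congr rfl fun l _ => ?_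
      rw [Matrix.map_apply, isDer_dat ξ y, ptMat_apply, AlgHom.id_apply, AlgHom.commutes, dat_X]
      have hz : dat ξ y (algebraMap k (GLn N k) (u i l)) = 0 := by
        rw [Algebra.algebraMap_eq_smul_one, map_smul, (isDer_dat ξ y).map_one, smul_zero]
      rw [hz, mul_zero, add_zero, Matrix.map_apply]
  exact LinearMap.congr_fun h F

namespace Rep

variable {A : Type u} [CommRing A] [HopfAlgebra k A] [IsAlgClosed k] [Algebra.FiniteType k A]
  (ρ : Rep k A N)

theorem ltrans_mem [CharZero k] {F : GLn N k} (hF : F ∈ ρ.inv) (u : Matrix (Fin N) (Fin N) k) (hu : IsUnit u.det) :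
    ltrans u hu F ∈ ρ.inv := by
  refine mem_inv_of_points fun g => ?_
  have e : (ρ.rtrans (AlgHom.id k (GLn N k)) ((Algebra.ofId k _).comp g)).comp (ltrans u hu) =
      (ltrans u hu).comp (ρ.rtrans (AlgHom.id k (GLn N k)) ((Algebra.ofId k _).comp g)) := by
    refine pt_ext ?_
    rw [ptMat_ltrans, ptMat_comp, ptMat_rtrans, Matrix.map_mul, ← Matrix.mul_assoc]
    congr 1
    · rw [← ptMat_ltrans (AlgHom.id k (GLn N k)) u hu, AlgHom.id_comp]
      ext i j; simp
    · ext i j
      simp [Rep.pmat]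
  have h1 := AlgHom.congr_fun e F
  rw [AlgHom.comp_apply, AlgHom.comp_apply, ρ.rtrans_eq hF] at h1
  exact h1

omit [IsAlgClosed k] in
theorem smooth_group [CharZero k] : Algebra.Smooth k A := by
  open CategoryTheory AlgebraicGeometry in
  let G := (Spec (CommRingCat.of A)).asOver (Spec (CommRingCat.of k))
  haveI : LocallyOfFiniteType G.hom :=
    (HasRingHomProperty.Spec_iff (P := @LocallyOfFiniteType)).mpr
      (RingHom.finiteType_algebraMap.mpr ‹Algebra.FiniteType k A›)
  have h := Groth.Agent.GrpSchLib.smooth_of_charZero G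
  exact RingHom.smooth_algebraMap.mp ((AlgebraicGeometry.HasRingHomProperty.Spec_iff (P := @AlgebraicGeometry.Smooth)).mp h)

variable {ρ}

omit [IsAlgClosed k] [Algebra.FiniteType k A] in
theorem hom_surjective (hρ : ρ.IsFaithful) : Function.Surjective (ρ.hom : GLn N k →ₐ[k] A) := by
  rw [← AlgHom.range_eq_top, eq_top_iff, ← (hρ : _ = ⊤), Algebra.adjoin_le_iff]
  rintro _ ⟨⟨i, j⟩, rfl⟩
  exact ⟨GLn.X i j, ρ.hom_X i j⟩

/-- An invariant function vanishing to second order at the identity lies in the square of the ideal of the group. -/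
theorem mem_ideal_sq [CharZero k] (hρ : ρ.IsFaithful) {F : GLn N k} (hF : F ∈ ρ.inv) (h0 : (one : GLn N k →ₐ[k] k) F = 0)
    (h1 : ∀ ξ, dat ξ (one : GLn N k →ₐ[k] k) F = 0) : F ∈ ρ.ideal ^ 2 := by
  classical
  haveI : IsReduced A := Groth.Agent.GrpSchLib.HopfRed.isReduced_of_finiteType (k := k)
  haveI : Algebra.Smooth k A := smooth_group (A := A)
  have hI : F ∈ ρ.ideal := by
    letI := ρ.comod
    haveI := ρ.isCoactAlg
    show (ρ.hom : GLn N k →ₐ[k] A) F = 0
    rw [← orbitHom_one, GLinFinLib.orbitHom_invariant (one : GLn N k →ₐ[k] k) (show F ∈ GLin.invariants k A _ from hF),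
      h0, map_zero]
  have hdI : ∀ ξ, dat ξ (AlgHom.id k (GLn N k)) F ∈ ρ.ideal := fun ξ => by
    refine UnitRigidLib.eq_zero_of_forall_point (K := k) (A := A) _ fun g => ?_
    rw [← AlgHom.comp_apply, dat_natural, AlgHom.comp_id]
    show (dpt ξ (g.comp (ρ.hom : GLn N k →ₐ[k] A)) F).snd = 0
    have e : dpt ξ (g.comp (ρ.hom : GLn N k →ₐ[k] A)) F = dpt ξ one F := by
      refine ρ.inv_eq_of_mat hF ((Algebra.ofId k (DualNumber k)).comp g) ?_
      rw [dpt, ptMat_matPt, dpt, ptMat_matPt, ptMat_one, Matrix.map_one _ (map_zero _) (map_one _), Matrix.mul_one]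
      congr 1
      ext i j <;> simp [Rep.pmat, hom_X, TrivSqZeroExt.algebraMap_eq_inl']
    rw [e]
    exact h1 ξ
  let J := ρ.ideal ^ 2
  let q : GLn N k ⧸ J →ₐ[k] A := Ideal.Quotient.liftₐ J (ρ.hom : GLn N k →ₐ[k] A)
    fun a ha => (Ideal.pow_le_self (two_ne_zero) ha : a ∈ ρ.ideal)
  have hq : Function.Surjective q := fun a => by
    obtain ⟨p, rfl⟩ := hom_surjective hρ a
    exact ⟨Ideal.Quotient.mk J p, rfl⟩
  have hker : RingHom.ker (q : GLn N k ⧸ J →+* A) = ρ.ideal.map (Ideal.Quotient.mk J) := by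
    refine le_antisymm (fun z hz => ?_) (Ideal.map_le_iff_le_comap.2 fun p hp => hp)
    obtain ⟨p, rfl⟩ := Ideal.Quotient.mk_surjective z
    exact Ideal.mem_map_of_mem _ hz
  have hnil : IsNilpotent (RingHom.ker (q : GLn N k ⧸ J →+* A)) :=
    ⟨2, by rw [hker, ← Ideal.map_pow, Ideal.zero_eq_bot, Ideal.map_quotient_self]⟩
  let sec : A →ₐ[k] GLn N k ⧸ J := Algebra.FormallySmooth.liftOfSurjective (AlgHom.id k A) q hq hnil
  have hsec : ∀ a, q (sec a) = a := fun a =>
    Algebra.FormallySmooth.liftOfSurjective_apply (AlgHom.id k A) q hq hnil a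
  let mkJ : GLn N k →ₐ[k] GLn N k ⧸ J := Ideal.Quotient.mkₐ k J
  let d : GLn N k →ₗ[k] GLn N k ⧸ J := mkJ.toLinearMap - (sec.comp (ρ.hom : GLn N k →ₐ[k] A)).toLinearMap
  have hdq : ∀ p, d p ∈ RingHom.ker (q : GLn N k ⧸ J →+* A) := fun p => by
    show q (mkJ p - sec (ρ.hom p)) = 0
    rw [map_sub, hsec]
    exact sub_self _
  have hmulker : ∀ a b, a ∈ RingHom.ker (q : GLn N k ⧸ J →+* A) →
      b ∈ RingHom.ker (q : GLn N k ⧸ J →+* A) → a * b = 0 := by
    intro a b ha hb
    rw [hker] at ha hb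
    have := Ideal.mul_mem_mul ha hb
    rwa [← Ideal.map_mul, ← pow_two, Ideal.map_quotient_self, Ideal.mem_bot] at this
  have hd : IsDer mkJ d := by
    intro a b
    have h2 := hmulker _ _ (hdq a) (hdq b)
    simp only [d, LinearMap.sub_apply, AlgHom.toLinearMap_apply, AlgHom.comp_apply, map_mul] at h2 ⊢
    linear_combination -h2
  -- the coefficients of `d` on the entries
  let c : Matrix (Fin N) (Fin N) (GLn N k ⧸ J) :=
    (Matrix.of fun i j => d (GLn.X i j)) * (ptMat mkJ)⁻¹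
  have hc : ∀ i j, c i j ∈ RingHom.ker (q : GLn N k ⧸ J →+* A) := fun i j => by
    show ((Matrix.of fun i j => d (GLn.X i j)) * (ptMat mkJ)⁻¹ : Matrix (Fin N) (Fin N) (GLn N k ⧸ J)) i j ∈ _
    rw [Matrix.mul_apply]
    exact Ideal.sum_mem _ fun l _ => Ideal.mul_mem_right _ _ (hdq _)
  let d' : GLn N k →ₗ[k] GLn N k ⧸ J := ∑ p : Fin N × Fin N,
    (LinearMap.mulLeft k (c p.1 p.2)).comp (dat (Matrix.single p.1 p.2 1) mkJ)
  have hd' : IsDer mkJ d' := fun a b => by
    simp only [d', LinearMap.sum_apply, LinearMap.comp_apply, LinearMap.mulLeft_apply, isDer_dat _ mkJ a b,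
      Finset.mul_sum, ← Finset.sum_add_distrib]
    exact Finset.sum_congr rfl fun _ _ => by ring
  have hdd : d = d' := by
    refine IsDer.ext hd hd' fun i j => ?_
    have e : (c * ptMat mkJ) i j = d (GLn.X i j) := by
      rw [Matrix.nonsing_inv_mul_cancel_right _ _ (isUnit_det_ptMat mkJ)]; rfl
    rw [← e]
    simp only [d', LinearMap.sum_apply, LinearMap.comp_apply, LinearMap.mulLeft_apply, dat_X, Matrix.mul_apply,
      Matrix.map_apply, Matrix.single_apply, Fintype.sum_prod_type, apply_ite (algebraMap k (GLn N k ⧸ J)),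
      map_one, map_zero, ite_mul, one_mul, zero_mul, mul_ite, mul_zero, Finset.mul_sum, ite_and]
    simp [Finset.sum_ite_eq, Finset.sum_ite_eq']
  have hdF : d F = 0 := by
    rw [hdd]
    simp only [d', LinearMap.sum_apply, LinearMap.comp_apply, LinearMap.mulLeft_apply]
    refine Finset.sum_eq_zero fun p _ => hmulker _ _ (hc _ _) ?_
    rw [show dat (Matrix.single p.1 p.2 (1 : k)) mkJ F = mkJ (dat (Matrix.single p.1 p.2 1) (AlgHom.id k _) F) by
      rw [dat_natural, AlgHom.comp_id], hker]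
    exact Ideal.mem_map_of_mem _ (hdI _)
  have hh : (ρ.hom : GLn N k →ₐ[k] A) F = 0 := hI
  simp only [d, LinearMap.sub_apply, AlgHom.toLinearMap_apply, AlgHom.comp_apply, hh, map_zero, sub_zero] at hdF
  exact Ideal.Quotient.eq_zero_iff_mem.1 hdF

/-- Derivations of the invariant functions at the identity come from tangent vectors. -/
theorem exists_dat_eq_one [CharZero k] (hG : IsLinearlyReductive k A) (hρ : ρ.IsFaithful)
    (δ : ρ.inv →ₗ[k] k)
    (hδ : ∀ a b : ρ.inv, δ (a * b) = (one : GLn N k →ₐ[k] k) a * δ b + (one : GLn N k →ₐ[k] k) b * δ a) :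
    ∃ ξ, ∀ a : ρ.inv, δ a = dat ξ (one : GLn N k →ₐ[k] k) a := by
  classical
  letI := ρ.comod
  haveI := ρ.isCoactAlg
  let o : ρ.inv →ₐ[k] k := (one : GLn N k →ₐ[k] k).comp ρ.inv.val
  have hδ1 : δ 1 = 0 := by
    have := hδ 1 1
    simpa using this
  let m : Ideal ρ.inv := RingHom.ker o
  have hm2 : ∀ a ∈ m ^ 2, δ a = 0 := by
    intro a ha
    rw [pow_two] at ha
    induction ha using Submodule.mul_induction_on' with
    | mem_mul_mem x hx y hy =>
      rw [hδ, show (one : GLn N k →ₐ[k] k) x = 0 from hx, show (one : GLn N k →ₐ[k] k) y = 0 from hy,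
        zero_mul, zero_mul, add_zero]
    | add x _ y _ hx hy => rw [map_add, hx, hy, add_zero]
  let Φ : ρ.inv →ₗ[k] (Fin N × Fin N → k) :=
    LinearMap.pi fun p => (dat (Matrix.single p.1 p.2 1) (one : GLn N k →ₐ[k] k)).comp ρ.inv.val.toLinearMap
  have hdat : ∀ ξ (a : ρ.inv), dat ξ (one : GLn N k →ₐ[k] k) a = ∑ p : Fin N × Fin N, ξ p.1 p.2 * Φ a p := by
    intro ξ a
    conv_lhs => rw [Matrix.matrix_eq_sum_single ξ]
    rw [← Fintype.sum_prod_type']
    have e : (∑ p : Fin N × Fin N, Matrix.single p.1 p.2 (ξ p.1 p.2)) =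
        ∑ p : Fin N × Fin N, ξ p.1 p.2 • Matrix.single p.1 p.2 (1 : k) := by
      simp [Matrix.smul_single]
    rw [e, dat_sum, LinearMap.sum_apply]
    rfl
  have hker : LinearMap.ker Φ ≤ LinearMap.ker δ := by
    intro a ha
    rw [LinearMap.mem_ker] at ha ⊢
    let b : ρ.inv := a - algebraMap k _ (o a)
    have hb0 : o b = 0 := by simp [b]
    have hb1 : ∀ ξ, dat ξ (one : GLn N k →ₐ[k] k) b = 0 := fun ξ => by
      have h : Φ b = 0 := by
        rw [map_sub, ha, zero_sub, neg_eq_zero]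
        funext p
        show dat _ one (algebraMap k (GLn N k) (o a)) = 0
        rw [Algebra.algebraMap_eq_smul_one, map_smul, (isDer_dat _ one).map_one, smul_zero]
      rw [hdat, h]; simp
    have hb2 := mem_ideal_sq hρ b.2 hb0 hb1
    have hle : ρ.ideal ≤ m.map ρ.inv.val.toRingHom := by
      refine (ideal_le_span hG hρ).trans (Ideal.span_le.2 ?_)
      rintro p ⟨hpI, hpR⟩
      have hp0 : (⟨p, hpR⟩ : ρ.inv) ∈ m := by
        show (one : GLn N k →ₐ[k] k) p = 0
        have : (one : GLn N k →ₐ[k] k) p = CoalgebraStruct.counit (R := k) ((ρ.hom : GLn N k →ₐ[k] A) p) :=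
          (CoalgHomClass.counit_comp_apply ρ.hom p).symm
        rw [this, show (ρ.hom : GLn N k →ₐ[k] A) p = 0 from hpI, map_zero]
      exact Ideal.mem_map_of_mem ρ.inv.val.toRingHom hp0
    have hb3 : b ∈ Ideal.comap ρ.inv.val.toRingHom ((m ^ 2).map ρ.inv.val.toRingHom) := by
      rw [Ideal.mem_comap, Ideal.map_pow]
      exact Ideal.pow_right_mono hle 2 hb2
    have hb4 : b ∈ m ^ 2 := by
      exact (SetLike.ext_iff.mp (Groth.Agent.S18834.result k A hG (GLn N k) (m ^ 2)) b).mp hb3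
    have := hm2 b hb4
    rwa [map_sub, Algebra.algebraMap_eq_smul_one, map_smul, hδ1, smul_zero, sub_zero] at this
  obtain ⟨f, hf⟩ : ∃ f : LinearMap.range Φ →ₗ[k] k, ∀ a, f ⟨Φ a, a, rfl⟩ = δ a :=
    ⟨((LinearMap.ker Φ).liftQ δ hker).comp Φ.quotKerEquivRange.symm.toLinearMap, fun a => by
      rw [LinearMap.comp_apply, LinearEquiv.coe_coe, LinearMap.quotKerEquivRange_symm_apply_image,
        Submodule.mkQ_apply, Submodule.liftQ_apply]⟩
  obtain ⟨g, hg⟩ := f.exists_extend
  refine ⟨fun i j => g (Pi.single (i, j) 1), fun a => ?_⟩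
  have h3 : g (Φ a) = δ a := (LinearMap.congr_fun hg ⟨Φ a, a, rfl⟩).trans (hf a)
  rw [hdat, ← h3]
  conv_lhs => rw [pi_eq_sum_univ' (Φ a)]
  simp [mul_comm]

/-- Derivations of the invariant functions at any point come from tangent vectors. -/
theorem exists_dat_eq [CharZero k] (hG : IsLinearlyReductive k A) (hρ : ρ.IsFaithful) (z : GLn N k →ₐ[k] k)
    (δ : ρ.inv →ₗ[k] k) (hδ : ∀ a b : ρ.inv, δ (a * b) = z a * δ b + z b * δ a) :
    ∃ ξ, ∀ a : ρ.inv, δ a = dat ξ z a := by
  have hz := isUnit_det_ptMat z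
  have hzi : IsUnit (ptMat z)⁻¹.det := Matrix.isUnit_nonsing_inv_det _ hz
  let T : ρ.inv →ₐ[k] ρ.inv := ((ltrans _ hzi).comp ρ.inv.val).codRestrict ρ.inv fun a => ρ.ltrans_mem a.2 _ hzi
  have hzT : z.comp (ltrans _ hzi) = one := by
    refine pt_ext ?_
    rw [ptMat_ltrans, ptMat_one, Algebra.algebraMap_self, RingHom.coe_id, Matrix.map_id,
      Matrix.nonsing_inv_mul _ hz]
  have h1T : (one : GLn N k →ₐ[k] k).comp (ltrans _ hz) = z := by
    refine pt_ext ?_
    rw [ptMat_ltrans, ptMat_one, Algebra.algebraMap_self, RingHom.coe_id, Matrix.map_id, mul_one]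
  obtain ⟨η, hη⟩ := exists_dat_eq_one hG hρ (δ.comp T.toLinearMap) (fun a b => by
    rw [LinearMap.comp_apply, AlgHom.toLinearMap_apply, map_mul, hδ, ← hzT]
    rfl)
  refine ⟨ptMat z * η * (ptMat z)⁻¹, fun a => ?_⟩
  have e := hη ⟨ltrans _ hz a, ρ.ltrans_mem a.2 _ hz⟩
  rw [dat_ltrans, h1T] at e
  rw [← e, LinearMap.comp_apply, AlgHom.toLinearMap_apply]
  congr 1
  apply Subtype.ext
  show (a : GLn N k) = ltrans _ hzi (ltrans _ hz a)
  have hid : (ltrans _ hzi).comp (ltrans _ hz) = AlgHom.id k (GLn N k) := by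
    refine pt_ext ?_
    rw [ptMat_ltrans, ltrans, ptMat_matPt, ← Matrix.mul_assoc, ← Matrix.map_mul, Matrix.mul_nonsing_inv _ hz,
      Matrix.map_one _ (map_zero _) (map_one _), Matrix.one_mul]
  exact (AlgHom.congr_fun hid a).symm

end Rep

end HMLib
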