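import Groth.Agent.HMLib.Attract
import Groth.Agent.S11793

/-! # Weights of invariant functions under the diagonal torus

The coordinate ring of `GL_N` is graded by left translations with diagonal matrices, and invariant functions
decompose into homogeneous invariant functions. -/

set_option autoImplicit false
set_option maxHeartbeats 1000000
set_option synthInstance.maxHeartbeats 400000

noncomputable section

open TensorProduct HopfRep CoordGrp
open LaurentPolynomial (T)
open scoped LaurentPolynomial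

namespace HMLib

universe u v

variable {k : Type u} [Field k] {N : ℕ}

/-- Monomials in units. -/
def tpow {B : Type v} [CommRing B] (t : Fin N → Bˣ) : Multiplicative (Fin N → ℤ) →* B where
  toFun α := ((∏ i, t i ^ α.toAdd i : Bˣ) : B)
  map_one' := by simp
  map_mul' α β := by simp [toAdd_mul, zpow_add, Finset.prod_mul_distrib]

theorem tpow_ofAdd {B : Type v} [CommRing B] (t : Fin N → Bˣ) (α : Fin N → ℤ) :
    tpow t (Multiplicative.ofAdd α) = ((∏ i, t i ^ α i : Bˣ) : B) := rfl

theorem tpow_single {B : Type v} [CommRing B] (t : Fin N → Bˣ) (i : Fin N) :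
    tpow t (Multiplicative.ofAdd (Pi.single i 1)) = (t i : B) := by
  rw [tpow_ofAdd, Finset.prod_eq_single i (fun j _ hj => by simp [hj])
    (fun h => absurd (Finset.mem_univ i) h)]
  simp

variable (k N) in
/-- Functions with weights. -/
abbrev WAlg : Type u := AddMonoidAlgebra (GLn N k) (Fin N → ℤ)

/-- Substituting units for the weights. -/
def evalW {B : Type v} [CommRing B] [Algebra k B] (t : Fin N → Bˣ) (y : GLn N k →ₐ[k] B) : WAlg k N →ₐ[k] B :=
  AddMonoidAlgebra.liftNCAlgHom y (tpow t) fun _ _ => Commute.all _ _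

theorem evalW_single {B : Type v} [CommRing B] [Algebra k B] (t : Fin N → Bˣ) (y : GLn N k →ₐ[k] B)
    (α : Fin N → ℤ) (p : GLn N k) :
    evalW t y (AddMonoidAlgebra.single α p) = y p * tpow t (Multiplicative.ofAdd α) :=
  AddMonoidAlgebra.liftNC_single _ _ _ _

/-- The matrix `diag(single eᵢ)`. -/
def wdiag {R : Type v} [CommRing R] : Matrix (Fin N) (Fin N) (AddMonoidAlgebra R (Fin N → ℤ)) :=
  Matrix.diagonal fun i => AddMonoidAlgebra.single (Pi.single i 1) 1

theorem isUnit_det_wdiag {R : Type v} [CommRing R] : IsUnit (wdiag (R := R) (N := N)).det := by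
  rw [wdiag, Matrix.det_diagonal]
  refine IsUnit.prod_iff.2 fun i _ => IsUnit.of_mul_eq_one (AddMonoidAlgebra.single (-Pi.single i 1) 1) ?_
  rw [AddMonoidAlgebra.single_mul_single, add_neg_cancel, mul_one]
  rfl

variable (k N) in
/-- The grading of the coordinate ring of `GL_N` by the diagonal torus acting on the left. -/
def wgrade : GLn N k →ₐ[k] WAlg k N :=
  matPt (wdiag * (ptMat (AlgHom.id k (GLn N k))).map (AddMonoidAlgebra.singleZeroAlgHom (R := k))) (by
    rw [Matrix.det_mul]
    refine isUnit_det_wdiag.mul ?_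
    rw [← AlgHom.mapMatrix_apply, ← AlgHom.map_det]
    exact (isUnit_det_ptMat _).map _)

theorem wgrade_X (i j : Fin N) : wgrade k N (GLn.X i j) = AddMonoidAlgebra.single (Pi.single i 1) (GLn.X i j) := by
  rw [← ptMat_apply (wgrade k N), wgrade, ptMat_matPt, wdiag, Matrix.diagonal_mul, Matrix.map_apply]
  show AddMonoidAlgebra.single (Pi.single i 1) (1 : GLn N k) * AddMonoidAlgebra.single 0 (GLn.X i j) = _
  rw [AddMonoidAlgebra.single_mul_single, add_zero, one_mul]

theorem evalW_wgrade {B : Type v} [CommRing B] [Algebra k B] (t : Fin N → Bˣ) (y y' : GLn N k →ₐ[k] B)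
    (h : ∀ i j, y' (GLn.X i j) = (t i : B) * y (GLn.X i j)) : (evalW t y).comp (wgrade k N) = y' :=
  gl_ext fun i j => by
    rw [AlgHom.comp_apply, wgrade_X, evalW_single, tpow_single, h, mul_comm]

/-- Homogeneous of weight `α`. -/
def IsHom (α : Fin N → ℤ) (F : GLn N k) : Prop := wgrade k N F = AddMonoidAlgebra.single α F

theorem IsHom.apply {α : Fin N → ℤ} {F : GLn N k} (h : IsHom α F) {B : Type v} [CommRing B] [Algebra k B]
    (t : Fin N → Bˣ) (y y' : GLn N k →ₐ[k] B) (hy : ∀ i j, y' (GLn.X i j) = (t i : B) * y (GLn.X i j)) :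
    y' F = ((∏ i, t i ^ α i : Bˣ) : B) * y F := by
  rw [← evalW_wgrade t y y' hy, AlgHom.comp_apply, h, evalW_single, tpow_ofAdd, mul_comm]

variable (k N) in
/-- Doubling the weight. -/
def wdiagHom : WAlg k N →ₐ[k] AddMonoidAlgebra (WAlg k N) (Fin N → ℤ) :=
  AddMonoidAlgebra.liftNCAlgHom (AddMonoidAlgebra.singleZeroAlgHom.comp AddMonoidAlgebra.singleZeroAlgHom)
    { toFun := fun α => AddMonoidAlgebra.single α.toAdd (AddMonoidAlgebra.single α.toAdd 1)
      map_one' := rfl
      map_mul' := fun α β => by simp [toAdd_mul, AddMonoidAlgebra.single_mul_single] }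
    fun _ _ => Commute.all _ _

theorem wdiagHom_single (α : Fin N → ℤ) (p : GLn N k) :
    wdiagHom k N (AddMonoidAlgebra.single α p) = AddMonoidAlgebra.single α (AddMonoidAlgebra.single α p) := by
  refine (AddMonoidAlgebra.liftNC_single _ _ _ _).trans ?_
  show AddMonoidAlgebra.single 0 (AddMonoidAlgebra.single 0 p) *
    AddMonoidAlgebra.single α (AddMonoidAlgebra.single α 1) = _
  simp [AddMonoidAlgebra.single_mul_single]

theorem coeff_wdiagHom (f : WAlg k N) (β : Fin N → ℤ) :
    (wdiagHom k N f).coeff β = AddMonoidAlgebra.single β (f.coeff β) := by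
  induction f using AddMonoidAlgebra.induction_linear with
  | zero => simp
  | add f g hf hg => simp [hf, hg, AddMonoidAlgebra.single_add]
  | single a b =>
    rw [wdiagHom_single]
    by_cases h : a = β
    · subst h; simp
    · simp [h]

theorem isHom_wcomp (F : GLn N k) (α : Fin N → ℤ) : IsHom α ((wgrade k N F).coeff α) := by
  have e : (AddMonoidAlgebra.mapAlgHom (Fin N → ℤ) (wgrade k N)).comp (wgrade k N) =
      (wdiagHom k N).comp (wgrade k N) := gl_ext fun i j => by
    rw [AlgHom.comp_apply, AlgHom.comp_apply, wgrade_X, wdiagHom_single]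
    refine AddMonoidAlgebra.ext (Finsupp.ext fun a => ?_)
    rw [AddMonoidAlgebra.coeff_mapAlgHom]
    by_cases h : Pi.single i 1 = a
    · subst h; simp [wgrade_X]
    · simp [h]
  have h := congrArg (fun p => AddMonoidAlgebra.coeff p α) (AlgHom.congr_fun e F)
  rw [IsHom]
  simpa [coeff_wdiagHom] using h

theorem sum_wcomp (F : GLn N k) : F = ∑ α ∈ (wgrade k N F).coeff.support, (wgrade k N F).coeff α := by
  have e := AlgHom.congr_fun (evalW_wgrade (fun _ => 1) (AlgHom.id k (GLn N k)) (AlgHom.id k _)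
    (fun i j => by simp)) F
  rw [AlgHom.comp_apply] at e
  conv_lhs => rw [show F = AlgHom.id k (GLn N k) F from rfl, ← e]
  generalize wgrade k N F = f
  conv_lhs => rw [← AddMonoidAlgebra.sum_coeff_single f, Finsupp.sum, map_sum]
  refine Finset.sum_congr rfl fun α _ => ?_
  rw [evalW_single, tpow_ofAdd]
  simp

theorem unitT_spec (m : Fin N → ℤ) (i : Fin N) :
    ((LaurentPolynomial.isUnit_T (R := k) (m i)).unit : k[T;T⁻¹]) = T (m i) := IsUnit.unit_spec _

/-- The weight paired with a cocharacter. -/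
def pair (m α : Fin N → ℤ) : ℤ := ∑ i, m i * α i

theorem prod_T_zpow (m α : Fin N → ℤ) :
    ((∏ i, (LaurentPolynomial.isUnit_T (R := k) (m i)).unit ^ α i : k[T;T⁻¹]ˣ) : k[T;T⁻¹]) = T (pair m α) := by
  let g : Multiplicative ℤ →* k[T;T⁻¹] :=
    { toFun := fun n => T n.toAdd
      map_one' := LaurentPolynomial.T_zero
      map_mul' := fun a b => by rw [toAdd_mul, LaurentPolynomial.T_add] }
  have hu : ∀ i, (LaurentPolynomial.isUnit_T (R := k) (m i)).unit ^ α i =
      g.toHomUnits (Multiplicative.ofAdd (m i * α i)) := fun i => by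
    have e : g.toHomUnits (Multiplicative.ofAdd (m i)) = (LaurentPolynomial.isUnit_T (R := k) (m i)).unit :=
      Units.ext (unitT_spec m i).symm
    rw [← e, ← map_zpow]
    congr 1
    rw [← ofAdd_zsmul, smul_eq_mul, mul_comm]
  rw [Finset.prod_congr rfl fun i _ => hu i, ← map_prod, MonoidHom.coe_toHomUnits, ← ofAdd_sum]
  rfl

theorem IsHom.lau {α : Fin N → ℤ} {F : GLn N k} (h : IsHom α F) (m : Fin N → ℤ) (x : GLn N k →ₐ[k] k) :
    HMLib.lau m x F = algebraMap k k[T;T⁻¹] (x F) * T (pair m α) := by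
  rw [h.apply (fun i => (LaurentPolynomial.isUnit_T (R := k) (m i)).unit) ((Algebra.ofId k k[T;T⁻¹]).comp x)
    (HMLib.lau m x) (fun i j => ?_), prod_T_zpow, mul_comm]
  · rfl
  · rw [← ptMat_apply (HMLib.lau m x), ptMat_lau, diagT, Matrix.diagonal_mul, unitT_spec]
    rfl

namespace Rep

variable {A : Type u} [CommRing A] [HopfAlgebra k A] [IsAlgClosed k] [Algebra.FiniteType k A]
  {ρ : Rep k A N} [CharZero k]

theorem wcomp_mem {F : GLn N k} (hF : F ∈ ρ.inv) (α : Fin N → ℤ) : (wgrade k N F).coeff α ∈ ρ.inv := by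
  refine mem_inv_of_points fun g => ?_
  set r := ρ.rtrans (AlgHom.id k (GLn N k)) ((Algebra.ofId k _).comp g) with hr
  have e : (AddMonoidAlgebra.mapAlgHom (Fin N → ℤ) r).comp (wgrade k N) = (wgrade k N).comp r := by
    refine gl_ext fun i j => ?_
    rw [AlgHom.comp_apply, AlgHom.comp_apply, wgrade_X]
    have hX : r (GLn.X i j) = ∑ l, GLn.X i l * algebraMap k (GLn N k) (g (ρ.mat l j)) := by
      rw [← ptMat_apply r, hr, ptMat_rtrans, Matrix.mul_apply]
      rfl
    rw [hX, map_sum]
    refine AddMonoidAlgebra.ext (Finsupp.ext fun a => ?_)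
    rw [AddMonoidAlgebra.coeff_mapAlgHom, AddMonoidAlgebra.coeff_sum, Finsupp.finsetSum_apply]
    by_cases h : Pi.single i 1 = a
    · subst h
      rw [AddMonoidAlgebra.coeff_single, Finsupp.single_eq_same, hX]
      refine Finset.sum_congr rfl fun l _ => ?_
      rw [mul_comm, ← Algebra.smul_def, map_smul, wgrade_X]
      simp
    · rw [AddMonoidAlgebra.coeff_single, Finsupp.single_eq_of_ne' h, map_zero]
      refine (Finset.sum_eq_zero fun l _ => ?_).symm
      rw [mul_comm, ← Algebra.smul_def, map_smul, wgrade_X]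
      simp [h]
  have h1 := congrArg (fun p => AddMonoidAlgebra.coeff p α) (AlgHom.congr_fun e F)
  simp only [AlgHom.comp_apply, AddMonoidAlgebra.coeff_mapAlgHom] at h1
  rw [h1, hr, ρ.rtrans_eq hF, AlgHom.id_apply]

/-- Finitely many homogeneous invariant functions generate. -/
theorem exists_hom_generators (hG : IsLinearlyReductive k A) :
    ∃ s : Finset (GLn N k), (∀ F ∈ s, F ∈ ρ.inv ∧ ∃ α, IsHom α F) ∧
      ρ.inv ≤ Algebra.adjoin k (s : Set (GLn N k)) := by
  classical
  haveI : Algebra.FiniteType k (GLb N k) :=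
    inferInstanceAs (Algebra.FiniteType k (MvPolynomial (GLPoly.Idx N) k))
  haveI : Algebra.FiniteType k (GLn N k) := Algebra.FiniteType.of_surjective (GLn.mk N k)
    (Ideal.Quotient.mk_surjective : Function.Surjective (GLn.mk N k))
  letI := ρ.comod
  haveI := ρ.isCoactAlg
  obtain ⟨s, hs1, hs⟩ := Groth.Agent.S11793.result k A hG (GLn N k)
    (fun f g => GLin.IsCoactAlg.coact_mul (k := k) (A := A) f g) (GLin.IsCoactAlg.coact_one (k := k) (A := A))
  refine ⟨s.biUnion fun F => (wgrade k N F).coeff.support.image fun α => (wgrade k N F).coeff α, ?_, ?_⟩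
  · intro G hG'
    simp only [Finset.mem_biUnion, Finset.mem_image] at hG'
    obtain ⟨F, hF, α, -, rfl⟩ := hG'
    exact ⟨wcomp_mem (hs1 F hF) α, α, isHom_wcomp F α⟩
  · intro F hF
    refine (Algebra.adjoin_le (R := k) ?_) (hs F hF)
    intro G hG'
    rw [SetLike.mem_coe, sum_wcomp G]
    refine sum_mem fun α hα => Algebra.subset_adjoin ?_
    rw [Finset.mem_coe, Finset.mem_biUnion]
    exact ⟨G, hG', Finset.mem_image_of_mem _ hα⟩

end Rep

end HMLib
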